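/-
Class numbers of subgroups (Gallagher).
-/
import Mathlib

set_option linter.style.haveILetI false
set_option linter.unusedSectionVars false

namespace Cfsg.Lib.Counting

open Subgroup

variable {X : Type*} [Group X] [Finite X]

theorem classNumber_bounds (Y : Subgroup X) :
    Nat.card (ConjClasses Y) ≤ Y.index * Nat.card (ConjClasses X) ∧
      Nat.card (ConjClasses X) ≤ Y.index * Nat.card (ConjClasses Y) ∧
      (¬ Y.Normal → Nat.card (ConjClasses X) < Y.index * Nat.card (ConjClasses Y)) := by
  classical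
  haveI := Fintype.ofFinite X
  set m := Y.index
  have hsum : ∀ (G : Type _) [Group G] [Fintype G],
      ∑ g : G, Nat.card (centralizer ({g} : Set G)) = Nat.card (ConjClasses G) * Nat.card G := by
    intro G _ _
    rw [← card_comm_eq_card_conjClasses_mul_card, ← Nat.card_sigma]
    refine Nat.card_congr
      { toFun := fun s => ⟨(s.1, s.2.1), (mem_centralizer_singleton_iff.1 s.2.2).symm⟩
        invFun := fun p => ⟨p.1.1, p.1.2, mem_centralizer_singleton_iff.2 p.2.symm⟩
        left_inv := fun s => rfl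
        right_inv := fun p => rfl }
  have hC : ∀ g : X, Nat.card (centralizer ({g} : Set X)) =
      Nat.card (Y ⊓ centralizer ({g} : Set X) : Subgroup X) * Y.relIndex (centralizer ({g} : Set X)) := by
    intro g
    have h := relIndex_mul_relIndex (⊥ : Subgroup X) (Y ⊓ centralizer ({g} : Set X)) (centralizer ({g} : Set X)) bot_le inf_le_right
    rw [relIndex_bot_left, relIndex_bot_left, inf_relIndex_right] at h
    exact h.symm
  have hrel : ∀ g : X, Y.relIndex (centralizer ({g} : Set X)) ≤ m := fun g => by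
    rw [show m = Y.relIndex ⊤ from (relIndex_top_right Y).symm]
    exact relIndex_le_of_le_right le_top (by rw [relIndex_top_right]; exact index_ne_zero_of_finite)
  have hswap : ∑ g : X, Nat.card (Y ⊓ centralizer ({g} : Set X) : Subgroup X) =
      ∑ y : Y, Nat.card (centralizer ({(y : X)} : Set X)) := by
    rw [← Nat.card_sigma, ← Nat.card_sigma]
    refine Nat.card_congr
      { toFun := fun s => ⟨⟨s.2.1, (Subgroup.mem_inf.1 s.2.2).1⟩, s.1,
          mem_centralizer_singleton_iff.2 (mem_centralizer_singleton_iff.1 (Subgroup.mem_inf.1 s.2.2).2).symm⟩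
        invFun := fun s => ⟨s.2.1, s.1.1, Subgroup.mem_inf.mpr ⟨s.1.2,
          mem_centralizer_singleton_iff.2 (mem_centralizer_singleton_iff.1 s.2.2).symm⟩⟩
        left_inv := fun s => rfl
        right_inv := fun s => rfl }
  have hY : ∀ y : Y, Nat.card (Y ⊓ centralizer ({(y : X)} : Set X) : Subgroup X) =
      Nat.card (centralizer ({y} : Set Y)) := by
    intro y
    refine Nat.card_congr
      { toFun := fun z => ⟨⟨z.1, (Subgroup.mem_inf.1 z.2).1⟩, mem_centralizer_singleton_iff.2
          (Subtype.ext (mem_centralizer_singleton_iff.1 (Subgroup.mem_inf.1 z.2).2))⟩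
        invFun := fun z => ⟨z.1.1, Subgroup.mem_inf.mpr ⟨z.1.2, mem_centralizer_singleton_iff.2
          (congrArg Subtype.val (mem_centralizer_singleton_iff.1 z.2))⟩⟩
        left_inv := fun z => rfl
        right_inv := fun z => rfl }
  have hXY : Nat.card X = Nat.card Y * m := Y.card_mul_index.symm
  have hm : 0 < m := Nat.pos_of_ne_zero index_ne_zero_of_finite
  have hlow : ∑ y : Y, Nat.card (centralizer ({y} : Set Y)) ≤ ∑ g : X, Nat.card (centralizer ({g} : Set X)) := by
    refine le_trans ?_ (Finset.sum_le_sum fun g _ =>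
      Nat.le_of_dvd Nat.card_pos (card_dvd_of_le (inf_le_right : Y ⊓ centralizer ({g} : Set X) ≤ _)))
    rw [hswap]
    refine Finset.sum_le_sum fun y _ => ?_
    rw [← hY]
    exact Nat.le_of_dvd Nat.card_pos (card_dvd_of_le inf_le_right)
  have hup : ∑ g : X, Nat.card (centralizer ({g} : Set X)) ≤
      m * ∑ y : Y, Nat.card (centralizer ({(y : X)} : Set X)) := by
    rw [← hswap, Finset.mul_sum]
    refine Finset.sum_le_sum fun g _ => ?_
    rw [hC, mul_comm]
    exact Nat.mul_le_mul_right _ (hrel g)
  have hup2 : ∀ y : Y, Nat.card (centralizer ({(y : X)} : Set X)) ≤ m * Nat.card (centralizer ({y} : Set Y)) := fun y => by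
    rw [hC, hY, mul_comm]
    exact Nat.mul_le_mul_right _ (hrel _)
  rw [hsum, hsum] at hlow
  rw [hsum] at hup
  refine ⟨?_, ?_, ?_⟩
  · rw [hXY] at hlow
    refine Nat.le_of_mul_le_mul_right ?_ (Nat.card_pos (α := Y))
    calc Nat.card (ConjClasses Y) * Nat.card Y ≤ Nat.card (ConjClasses X) * (Nat.card Y * m) := hlow
      _ = _ := by ring
  · have h := hup.trans (Nat.mul_le_mul_left m (Finset.sum_le_sum fun y _ => hup2 y))
    rw [← Finset.mul_sum, hsum, hXY] at h
    refine Nat.le_of_mul_le_mul_right ?_ (Nat.mul_pos Nat.card_pos hm : 0 < Nat.card Y * m)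
    calc Nat.card (ConjClasses X) * (Nat.card Y * m) ≤ m * (m * (Nat.card (ConjClasses Y) * Nat.card Y)) := h
      _ = _ := by ring
  · intro hn
    obtain ⟨y, hy, x, hx⟩ : ∃ y ∈ Y, ∃ x : X, x * y * x⁻¹ ∉ Y := by
      by_contra hc
      push Not at hc
      exact hn ⟨fun y hy x => hc y hy x⟩
    have hstrict : Y.relIndex (centralizer ({y} : Set X)) < m := by
      refine lt_of_le_of_ne (hrel y) fun he => hx ?_
      have hbij := (Nat.bijective_iff_injective_and_card
        (quotientSubgroupOfEmbeddingOfLE Y (le_top : centralizer ({y} : Set X) ≤ ⊤))).2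
        ⟨Function.Embedding.injective _, he.trans (relIndex_top_right Y).symm⟩
      obtain ⟨q, hq⟩ := hbij.2 (QuotientGroup.mk (⟨x⁻¹, mem_top _⟩ : (⊤ : Subgroup X)))
      induction q using QuotientGroup.induction_on with
      | H c =>
        rw [quotientSubgroupOfEmbeddingOfLE_apply_mk, QuotientGroup.eq, mem_subgroupOf] at hq
        have hz : (c : X)⁻¹ * x⁻¹ ∈ Y := hq
        have hc := mem_centralizer_singleton_iff.1 c.2
        have e : x * y * x⁻¹ = ((c : X)⁻¹ * x⁻¹)⁻¹ * ((c : X)⁻¹ * (y * c)) * ((c : X)⁻¹ * x⁻¹) := by group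
        rw [e, ← hc, inv_mul_cancel_left]
        exact mul_mem (mul_mem (inv_mem hz) hy) hz
    have hlt : ∑ y : Y, Nat.card (centralizer ({(y : X)} : Set X)) < ∑ y : Y, m * Nat.card (centralizer ({y} : Set Y)) := by
      refine Finset.sum_lt_sum (fun y _ => hup2 y) ⟨⟨y, hy⟩, Finset.mem_univ _, ?_⟩
      rw [hC, hY, mul_comm]
      exact Nat.mul_lt_mul_of_pos_right hstrict Nat.card_pos
    have h := hup.trans_lt (Nat.mul_lt_mul_of_pos_left hlt hm)
    rw [← Finset.mul_sum, hsum, hXY] at h
    refine Nat.lt_of_mul_lt_mul_right (a := Nat.card Y * m) ?_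
    calc Nat.card (ConjClasses X) * (Nat.card Y * m) < m * (m * (Nat.card (ConjClasses Y) * Nat.card Y)) := h
      _ = _ := by ring

end Cfsg.Lib.Counting
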