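/-
Class numbers of symmetric and alternating groups.
-/
import Mathlib

set_option linter.unusedSectionVars false

namespace Cfsg.Lib.Counting.AltClasses

open Equiv Equiv.Perm

theorem card_partition_le_two_pow : ∀ n : ℕ, Fintype.card (Nat.Partition (n + 2)) ≤
    Fintype.card (Nat.Partition (n + 1)) + Fintype.card (Nat.Partition n) := by
  classical
  intro n
  rw [← Fintype.card_sum]
  have hne : ∀ P : Nat.Partition (n + 2), ∃ k, k ∈ P.parts := fun P => by
    refine Multiset.exists_mem_of_ne_zero fun h => ?_
    have := P.parts_sum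
    rw [h, Multiset.sum_zero] at this
    omega
  choose k hk using hne
  let f : Nat.Partition (n + 2) → Nat.Partition (n + 1) ⊕ Nat.Partition n := fun P =>
    if h : 1 ∈ P.parts then
      Sum.inl ⟨P.parts.erase 1, fun {i} hi => P.parts_pos (Multiset.mem_of_mem_erase hi), by
        have h1 := congrArg Multiset.sum (Multiset.cons_erase h)
        rw [Multiset.sum_cons, P.parts_sum] at h1
        omega⟩
    else
      Sum.inr ⟨P.parts.erase (k P) + Multiset.replicate (k P - 2) 1, fun {i} hi => by
        rcases Multiset.mem_add.1 hi with hi | hi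
        · exact P.parts_pos (Multiset.mem_of_mem_erase hi)
        · rw [Multiset.eq_of_mem_replicate hi]; exact one_pos, by
        have h1 := congrArg Multiset.sum (Multiset.cons_erase (hk P))
        rw [Multiset.sum_cons, P.parts_sum] at h1
        have h2 := P.parts_pos (hk P)
        have h3 : k P ≠ 1 := fun e => h (e ▸ hk P)
        rw [Multiset.sum_add, Multiset.sum_replicate, smul_eq_mul, mul_one]
        omega⟩
  refine Fintype.card_le_of_injective f fun P Q e => ?_
  by_cases hP : 1 ∈ P.parts <;> by_cases hQ : 1 ∈ Q.parts
  · simp only [f, dif_pos hP, dif_pos hQ, Sum.inl.injEq, Nat.Partition.mk.injEq] at e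
    exact Nat.Partition.ext (by rw [← Multiset.cons_erase hP, ← Multiset.cons_erase hQ, e])
  · simp only [f, dif_pos hP, dif_neg hQ, reduceCtorEq] at e
  · simp only [f, dif_neg hP, dif_pos hQ, reduceCtorEq] at e
  · simp only [f, dif_neg hP, dif_neg hQ, Sum.inr.injEq, Nat.Partition.mk.injEq] at e
    have h1 := congrArg (Multiset.count 1) e
    rw [Multiset.count_add, Multiset.count_add, Multiset.count_replicate_self,
      Multiset.count_replicate_self,
      Multiset.count_eq_zero.2 (fun h => hP (Multiset.mem_of_mem_erase h)),
      Multiset.count_eq_zero.2 (fun h => hQ (Multiset.mem_of_mem_erase h))] at h1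
    have h2 := P.parts_pos (hk P)
    have h3 : k P ≠ 1 := fun e' => hP (e' ▸ hk P)
    have h4 := Q.parts_pos (hk Q)
    have h5 : k Q ≠ 1 := fun e' => hQ (e' ▸ hk Q)
    have h6 : k P = k Q := by omega
    rw [← h6] at e
    exact Nat.Partition.ext (by
      rw [← Multiset.cons_erase (hk P), ← Multiset.cons_erase (hk Q), ← h6, add_right_cancel e])

theorem card_partition_bound : ∀ n : ℕ, 5 ≤ n → Fintype.card (Nat.Partition n) ≤ 2 ^ (n - 2) := by
  have h0 : Fintype.card (Nat.Partition 0) = 1 := Fintype.card_unique
  have h1 : Fintype.card (Nat.Partition 1) = 1 := Fintype.card_unique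
  have h2 := card_partition_le_two_pow 0
  have h3 := card_partition_le_two_pow 1
  have h4 := card_partition_le_two_pow 2
  have h5 := card_partition_le_two_pow 3
  have h6 := card_partition_le_two_pow 4
  intro n
  induction n using Nat.strong_induction_on with
  | _ n ih =>
    intro hn
    rcases (show n = 5 ∨ n = 6 ∨ 7 ≤ n by omega) with rfl | rfl | h
    · norm_num at *; omega
    · norm_num at *; omega
    · obtain ⟨m, rfl⟩ : ∃ m, n = m + 2 := ⟨n - 2, by omega⟩
      have a1 := ih (m + 1) (by omega) (by omega)
      have a2 := ih m (by omega) (by omega)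
      have a3 := card_partition_le_two_pow m
      obtain ⟨j, rfl⟩ : ∃ j, m = j + 2 := ⟨m - 2, by omega⟩
      simp only [show j + 2 + 2 - 2 = j + 2 by omega, show j + 2 + 1 - 2 = j + 1 by omega,
        show j + 2 - 2 = j by omega] at a1 a2 ⊢
      rw [pow_succ, pow_succ]
      rw [pow_succ] at a1
      omega

variable {α : Type*} [Fintype α] [DecidableEq α]

/-- The classes of the symmetric group are labelled by partitions. -/
theorem card_conjClasses_perm :
    Nat.card (ConjClasses (Perm α)) = Fintype.card (Nat.Partition (Fintype.card α)) := by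
  rw [← Nat.card_eq_fintype_card]
  refine Nat.card_congr (Equiv.ofBijective
    (Quotient.lift (s := IsConj.setoid (Perm α)) Equiv.Perm.partition
      fun a b h => partition_eq_of_isConj.1 h) ⟨?_, ?_⟩)
  · intro c d
    obtain ⟨a, rfl⟩ := ConjClasses.exists_rep c
    obtain ⟨b, rfl⟩ := ConjClasses.exists_rep d
    intro e
    exact ConjClasses.mk_eq_mk_iff_isConj.2 (partition_eq_of_isConj.2 e)
  · intro P
    have hsum : (P.parts.filter fun i => 2 ≤ i).sum ≤ Fintype.card α := by
      conv_rhs => rw [← P.parts_sum, ← Multiset.filter_add_not (fun i => 2 ≤ i) P.parts, Multiset.sum_add]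
      omega
    obtain ⟨g, hg⟩ := (exists_with_cycleType_iff α).2
      ⟨hsum, fun a ha => (Multiset.mem_filter.1 ha).2⟩
    refine ⟨ConjClasses.mk g, ?_⟩
    show g.partition = P
    refine Nat.Partition.ext ?_
    have h1 : P.parts.filter (fun i => ¬ 2 ≤ i) =
        Multiset.replicate (Multiset.card (P.parts.filter (fun i => ¬ 2 ≤ i))) 1 :=
      Multiset.eq_replicate_card.2 fun i hi => by
        have := P.parts_pos (Multiset.mem_filter.1 hi).1
        have := (Multiset.mem_filter.1 hi).2
        omega
    have h2 : (P.parts.filter fun i => 2 ≤ i).sum + Multiset.card (P.parts.filter (fun i => ¬ 2 ≤ i))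
        = Fintype.card α := by
      conv_rhs => rw [← P.parts_sum, ← Multiset.filter_add_not (fun i => 2 ≤ i) P.parts, Multiset.sum_add]
      conv_rhs => rw [h1, Multiset.sum_replicate, smul_eq_mul, mul_one]
    rw [parts_partition, ← sum_cycleType, hg,
      show Fintype.card α - (P.parts.filter fun i => 2 ≤ i).sum
        = Multiset.card (P.parts.filter (fun i => ¬ 2 ≤ i)) by omega, ← h1,
      Multiset.filter_add_not]

theorem parity_partition (g : Perm α) (hg : g ∈ alternatingGroup α) :
    Even (Fintype.card α + Multiset.card g.partition.parts) := by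
  rw [mem_alternatingGroup, sign_of_cycleType, neg_one_pow_eq_one_iff_even (by decide)] at hg
  rw [parts_partition, Multiset.card_add, Multiset.card_replicate, ← sum_cycleType]
  have := g.support.card_le_univ
  rw [← sum_cycleType] at this
  rw [show Fintype.card α + (Multiset.card g.cycleType + (Fintype.card α - g.cycleType.sum))
    = (g.cycleType.sum + Multiset.card g.cycleType) + 2 * (Fintype.card α - g.cycleType.sum) by omega]
  exact hg.add (even_two_mul _)

theorem parts_of_centralizer_le (g : Perm α) (h : Subgroup.centralizer {g} ≤ alternatingGroup α) :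
    (∀ i ∈ g.partition.parts, Odd i) ∧ g.partition.parts.Nodup := by
  obtain ⟨h1, h2, h3⟩ := centralizer_le_alternating_iff.1 h
  refine ⟨fun i hi => ?_, ?_⟩
  · rw [parts_partition] at hi
    rcases Multiset.mem_add.1 hi with hi | hi
    · exact h1 i hi
    · rw [Multiset.eq_of_mem_replicate hi]; exact odd_one
  · rw [parts_partition, Multiset.nodup_iff_count_le_one]
    intro i
    rw [Multiset.count_add, Multiset.count_replicate, ← sum_cycleType]
    by_cases hi : i = 1
    · subst hi
      rw [if_pos rfl, Multiset.count_eq_zero.2 fun hh => by simpa using one_lt_of_mem_cycleType hh]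
      omega
    · rw [if_neg (fun e => hi e.symm)]
      exact (add_zero _).trans_le (h3 i)

theorem card_conjClasses_alternating_lt (hn : 5 ≤ Fintype.card α) :
    Nat.card (ConjClasses (alternatingGroup α)) < Nat.card (ConjClasses (Perm α)) := by
  classical
  rw [card_conjClasses_perm, ← Nat.card_eq_fintype_card]
  haveI : Fintype (ConjClasses (alternatingGroup α)) := Fintype.ofFinite _
  simp only [Nat.card_eq_fintype_card]
  -- the odd partition replacing a split one
  let φ : Nat.Partition (Fintype.card α) → Nat.Partition (Fintype.card α) := fun P =>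
    if h : ∃ m ∈ P.parts, 3 ≤ m then
      ⟨P.parts.erase h.choose + {h.choose - 1, 1}, fun {i} hi => by
        rcases Multiset.mem_add.1 hi with hi | hi
        · exact P.parts_pos (Multiset.mem_of_mem_erase hi)
        · have := h.choose_spec.2
          simp only [Multiset.insert_eq_cons, Multiset.mem_cons, Multiset.mem_singleton] at hi
          omega, by
        have h1 := congrArg Multiset.sum (Multiset.cons_erase h.choose_spec.1)
        rw [Multiset.sum_cons, P.parts_sum] at h1
        have := h.choose_spec.2
        rw [Multiset.sum_add, Multiset.insert_eq_cons, Multiset.sum_cons, Multiset.sum_singleton]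
        omega⟩
    else P
  -- `P` belongs to a split class
  let Sp : Nat.Partition (Fintype.card α) → Prop := fun P =>
    Even (Fintype.card α + Multiset.card P.parts) ∧ (∀ i ∈ P.parts, Odd i) ∧ P.parts.Nodup
  have hbig : ∀ P, Sp P → ∃ m ∈ P.parts, 3 ≤ m := by
    intro P hP
    by_contra hno
    push Not at hno
    have h1 : P.parts = Multiset.replicate (Multiset.card P.parts) 1 :=
      Multiset.eq_replicate_card.2 fun i hi => by
        have := hno i hi
        obtain ⟨j, rfl⟩ := hP.2.1 i hi
        omega
    have h2 := Multiset.nodup_iff_count_le_one.1 hP.2.2 1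
    rw [h1, Multiset.count_replicate_self] at h2
    have h3 := P.parts_sum
    rw [h1, Multiset.sum_replicate, smul_eq_mul, mul_one] at h3
    omega
  have hφ : ∀ P, Sp P → ∃ m ∈ P.parts, 3 ≤ m ∧ Odd m ∧ (φ P).parts = P.parts.erase m + {m - 1, 1} := by
    intro P hP
    refine ⟨(hbig P hP).choose, (hbig P hP).choose_spec.1, (hbig P hP).choose_spec.2,
      hP.2.1 _ (hbig P hP).choose_spec.1, ?_⟩
    simp only [φ, dif_pos (hbig P hP)]
  have hodd : ∀ P, Sp P → ¬ Even (Fintype.card α + Multiset.card (φ P).parts) := by
    intro P hP
    obtain ⟨m, hm, _, _, e⟩ := hφ P hP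
    have h1 := congrArg Multiset.card (Multiset.cons_erase hm)
    rw [Multiset.card_cons] at h1
    rw [e, Multiset.card_add, Multiset.insert_eq_cons, Multiset.card_cons, Multiset.card_singleton,
      show Fintype.card α + (Multiset.card (P.parts.erase m) + (1 + 1))
        = Fintype.card α + Multiset.card P.parts + 1 by omega, Nat.even_add_one]
    exact fun h => h hP.1
  have hinj : ∀ P Q, Sp P → Sp Q → φ P = φ Q → P = Q := by
    intro P Q hP hQ e
    obtain ⟨m, hm, h3m, hom, em⟩ := hφ P hP
    obtain ⟨k, hk, h3k, hok, ek⟩ := hφ Q hQ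
    have e' := congrArg Nat.Partition.parts e
    rw [em, ek] at e'
    have hmem : m - 1 ∈ Q.parts.erase k + {k - 1, 1} := by rw [← e']; simp
    have hmk : m = k := by
      rcases Multiset.mem_add.1 hmem with h | h
      · obtain ⟨a, ha⟩ := hQ.2.1 _ (Multiset.mem_of_mem_erase h)
        obtain ⟨b, hb⟩ := hom
        omega
      · simp only [Multiset.insert_eq_cons, Multiset.mem_cons, Multiset.mem_singleton] at h
        omega
    rw [← hmk] at e' hk
    exact Nat.Partition.ext (by
      rw [← Multiset.cons_erase hm, ← Multiset.cons_erase hk, add_right_cancel e'])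
  let r : Nat.Partition (Fintype.card α) → alternatingGroup α := fun P =>
    Classical.epsilon fun x => (x : Perm α).partition = P
  let pt : alternatingGroup α → Nat.Partition (Fintype.card α) := fun g => (g : Perm α).partition
  let f : ConjClasses (alternatingGroup α) → Nat.Partition (Fintype.card α) := fun c =>
    if ConjClasses.mk (r (pt c.out)) = c then pt c.out else φ (pt c.out)
  have hout : ∀ c : ConjClasses (alternatingGroup α), ConjClasses.mk c.out = c := Quotient.out_eq
  -- two elements of the same partition outside one class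
  have hsplit : ∀ g h : alternatingGroup α, pt g = pt h → ¬ IsConj g h →
      Sp (pt g) ∧ ∀ k : alternatingGroup α, pt k = pt g → IsConj k g ∨ IsConj k h := by
    intro g h e hgh
    obtain ⟨t, ht⟩ := isConj_iff.1 (partition_eq_of_isConj.2 e)
    have htodd : t ∉ alternatingGroup α := fun hh => hgh (isConj_iff.2 ⟨⟨t, hh⟩, Subtype.ext ht⟩)
    refine ⟨⟨parity_partition _ g.2, parts_of_centralizer_le _ fun z hz => ?_⟩, fun k hk => ?_⟩
    · by_contra hzA
      refine hgh (isConj_iff.2 ⟨⟨t * z, ?_⟩, Subtype.ext ?_⟩)
      · rw [mem_alternatingGroup] at htodd hzA ⊢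
        rw [map_mul, (Int.units_eq_one_or _).resolve_left htodd,
          (Int.units_eq_one_or _).resolve_left hzA]
        decide
      · have hc : z * (g : Perm α) = (g : Perm α) * z :=
          (Subgroup.mem_centralizer_singleton_iff.1 hz)
        show t * z * (g : Perm α) * (t * z)⁻¹ = h
        rw [mul_assoc t z, hc, ← ht]
        group
    · obtain ⟨u, hu⟩ := isConj_iff.1 (partition_eq_of_isConj.2 hk)
      by_cases hu' : u ∈ alternatingGroup α
      · exact Or.inl (isConj_iff.2 ⟨⟨u, hu'⟩, Subtype.ext hu⟩)
      · refine Or.inr (isConj_iff.2 ⟨⟨t * u, ?_⟩, Subtype.ext ?_⟩)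
        · rw [mem_alternatingGroup] at htodd hu' ⊢
          rw [map_mul, (Int.units_eq_one_or _).resolve_left htodd,
            (Int.units_eq_one_or _).resolve_left hu']
          decide
        · show t * u * (k : Perm α) * (t * u)⁻¹ = h
          rw [← ht, ← hu]
          group
  have hr : ∀ g, pt (r (pt g)) = pt g := fun g =>
    Classical.epsilon_spec (p := fun x : alternatingGroup α => (x : Perm α).partition = pt g) ⟨g, rfl⟩
  have hsp : ∀ c, ConjClasses.mk (r (pt (Quotient.out c))) ≠ c → Sp (pt (Quotient.out c)) := by
    intro c hc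
    have h1 := (hsplit (r (pt c.out)) c.out (hr _) fun hh => hc ((ConjClasses.mk_eq_mk_iff_isConj.2 hh).trans (hout c))).1
    rwa [hr] at h1
  refine Fintype.card_lt_of_injective_not_surjective f ?_ ?_
  · intro c d e
    by_cases hc : ConjClasses.mk (r (pt c.out)) = c <;> by_cases hd : ConjClasses.mk (r (pt d.out)) = d
    · simp only [f, if_pos hc, if_pos hd] at e
      rw [← hc, ← hd, e]
    · simp only [f, if_pos hc, if_neg hd] at e
      exact absurd (e ▸ parity_partition _ c.out.2) (hodd _ (hsp d hd))
    · simp only [f, if_neg hc, if_pos hd] at e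
      exact absurd (e.symm ▸ parity_partition _ d.out.2) (hodd _ (hsp c hc))
    · simp only [f, if_neg hc, if_neg hd] at e
      have hp := hinj _ _ (hsp c hc) (hsp d hd) e
      have h1 : ¬ IsConj (r (pt c.out)) c.out := fun hh =>
        hc ((ConjClasses.mk_eq_mk_iff_isConj.2 hh).trans (hout c))
      rcases (hsplit _ _ (hr _) h1).2 d.out (by rw [hr, hp]) with h2 | h2
      · refine absurd ?_ hd
        rw [← hp]
        exact (ConjClasses.mk_eq_mk_iff_isConj.2 h2).symm.trans (hout d)
      · exact ((hout c).symm.trans (ConjClasses.mk_eq_mk_iff_isConj.2 h2).symm).trans (hout d)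
  · intro hs
    let Q : Nat.Partition (Fintype.card α) :=
      ⟨2 ::ₘ Multiset.replicate (Fintype.card α - 2) 1, fun {i} hi => by
        rcases Multiset.mem_cons.1 hi with rfl | hi
        · omega
        · rw [Multiset.eq_of_mem_replicate hi]; omega, by
        rw [Multiset.sum_cons, Multiset.sum_replicate, smul_eq_mul, mul_one]; omega⟩
    have hQ : ¬ Even (Fintype.card α + Multiset.card Q.parts) := by
      simp only [Q, Multiset.card_cons, Multiset.card_replicate]
      rintro ⟨j, hj⟩
      omega
    obtain ⟨c, e⟩ := hs Q
    by_cases hc : ConjClasses.mk (r (pt c.out)) = c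
    · simp only [f, if_pos hc] at e
      exact hQ (e ▸ parity_partition _ c.out.2)
    · simp only [f, if_neg hc] at e
      obtain ⟨m, _, h3, _, em⟩ := hφ _ (hsp c hc)
      rw [e] at em
      have h1 := congrArg (Multiset.count 1) em
      simp only [Q] at h1
      rw [Multiset.count_cons_of_ne (by omega), Multiset.count_replicate_self, Multiset.count_add,
        Multiset.insert_eq_cons, Multiset.count_cons_of_ne (by omega), Multiset.count_singleton_self] at h1
      have h2 := (Multiset.count_le_of_le 1 (Multiset.erase_le m (pt c.out).parts)).trans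
        (Multiset.nodup_iff_count_le_one.1 (hsp c hc).2.2 1)
      omega

end Cfsg.Lib.Counting.AltClasses
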