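import Mathlib

set_option autoImplicit false

/-!
Frobenius' theorem on the number of solutions of `x ^ n = 1` (proof of Isaacs and Robinson).
-/

namespace Cfsg.Lib.Counting

open Subgroup

universe u

theorem card_carrier_mul_centralizer {G : Type u} [Group G] [Finite G] (g : G) :
    Nat.card (ConjClasses.mk g).carrier * Nat.card (Subgroup.centralizer ({g} : Set G)) =
      Nat.card G := by
  classical
  have h := (MulAction.stabilizer (ConjAct G) g).card_mul_index
  rw [MulAction.index_stabilizer, ConjAct.orbit_eq_carrier_conjClasses, ← Nat.card_coe_set_eq] at h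
  have e : Nat.card (MulAction.stabilizer (ConjAct G) g) =
      Nat.card (Subgroup.centralizer ({g} : Set G)) := by
    refine Nat.card_congr ((ConjAct.ofConjAct (G := G)).toEquiv.subtypeEquiv fun c => ?_)
    rw [MulAction.mem_stabilizer_iff, ConjAct.smul_def, mul_inv_eq_iff_eq_mul,
      Subgroup.mem_centralizer_singleton_iff]
    rfl
  rw [← e, mul_comm]
  exact h.trans (Nat.card_congr (ConjAct.ofConjAct (G := G)).toEquiv)

/-- A sum over a conjugation invariant set is divisible by `t` as soon as every term is divisible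
by `gcd t |C(u)|`. -/
theorem dvd_sum_of_dvd_centralizer {G : Type u} [Group G] [Fintype G] [DecidableEq G] {t : ℕ}
    (ht : t ∣ Nat.card G) (U : Finset G) (hU : ∀ g u, u ∈ U → g * u * g⁻¹ ∈ U) (w : G → ℕ)
    (hw : ∀ g u, u ∈ U → w (g * u * g⁻¹) = w u)
    (hd : ∀ u ∈ U, Nat.gcd t (Nat.card (Subgroup.centralizer ({u} : Set G))) ∣ w u) :
    t ∣ ∑ u ∈ U, w u := by
  classical
  rw [← Finset.sum_fiberwise U ConjClasses.mk w]
  refine Finset.dvd_sum fun C _ => ?_
  rcases (U.filter fun u => ConjClasses.mk u = C).eq_empty_or_nonempty with he | ⟨u, hu⟩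
  · rw [he, Finset.sum_empty]; exact dvd_zero _
  rw [Finset.mem_filter] at hu
  obtain ⟨huU, rfl⟩ := hu
  have hconst : ∀ v ∈ U.filter (fun v => ConjClasses.mk v = ConjClasses.mk u), w v = w u := by
    intro v hv
    rw [Finset.mem_filter, ConjClasses.mk_eq_mk_iff_isConj, isConj_comm, isConj_iff] at hv
    obtain ⟨c, rfl⟩ := hv.2
    exact hw c u huU
  rw [Finset.sum_congr rfl hconst, Finset.sum_const, smul_eq_mul]
  have hcard : (U.filter fun v => ConjClasses.mk v = ConjClasses.mk u).card =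
      Nat.card (ConjClasses.mk u).carrier := by
    rw [Nat.card_eq_fintype_card, ← Set.toFinset_card]
    congr 1
    ext v
    simp only [Finset.mem_filter, Set.mem_toFinset, ConjClasses.mem_carrier_iff_mk_eq,
      and_iff_right_iff_imp]
    intro hv
    rw [ConjClasses.mk_eq_mk_iff_isConj, isConj_comm, isConj_iff] at hv
    obtain ⟨c, rfl⟩ := hv
    exact hU c u huU
  rw [hcard]
  refine dvd_trans ?_ (mul_dvd_mul_left _ (hd u huU))
  rw [← Nat.gcd_mul_left]
  exact Nat.dvd_gcd (dvd_mul_left t _) (by rw [card_carrier_mul_centralizer]; exact ht)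

/-- Splitting solutions of `x ^ (A * t) = 1` for coprime `A`, `t`. -/
theorem card_split {G : Type u} [Group G] [Fintype G] {A t : ℕ} (h : Nat.Coprime A t)
    (P : G → Prop) (Q : G → Prop) [DecidablePred fun u : G => u ^ A = 1 ∧ P u]
    (hPQ : ∀ u y : G, u ^ A = 1 → y ^ t = 1 → u * y = y * u → (Q (u * y) ↔ P u)) :
    Nat.card {x : G // x ^ (A * t) = 1 ∧ Q x} =
      ∑ u ∈ Finset.univ.filter (fun u : G => u ^ A = 1 ∧ P u),
        Nat.card {y : Subgroup.centralizer ({u} : Set G) // y ^ t = 1} := by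
  classical
  obtain ⟨e, he1, he2⟩ := Nat.chineseRemainder h 1 0
  obtain ⟨f, hf1, hf2⟩ := Nat.chineseRemainder h 0 1
  have hef : e + f ≡ 1 [MOD A * t] := by
    rw [← Nat.modEq_and_modEq_iff_modEq_mul h]
    exact ⟨by simpa using he1.add hf1, by simpa using he2.add hf2⟩
  have red : ∀ {x : G} {k i j : ℕ}, x ^ k = 1 → i ≡ j [MOD k] → x ^ i = x ^ j :=
    fun {x k i j} hx hij => pow_eq_pow_iff_modEq.mpr (hij.of_dvd (orderOf_dvd_of_pow_eq_one hx))
  have split : ∀ x : G, x ^ (A * t) = 1 →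
      x ^ e * x ^ f = x ∧ (x ^ e) ^ A = 1 ∧ (x ^ f) ^ t = 1 := by
    intro x hx
    refine ⟨by rw [← pow_add, red hx hef, pow_one], ?_, ?_⟩
    · rw [← pow_mul]
      refine orderOf_dvd_iff_pow_eq_one.mp ((orderOf_dvd_of_pow_eq_one hx).trans ?_)
      rw [mul_comm e A]
      exact mul_dvd_mul_left A (Nat.modEq_zero_iff_dvd.mp he2)
    · rw [← pow_mul]
      refine orderOf_dvd_iff_pow_eq_one.mp ((orderOf_dvd_of_pow_eq_one hx).trans ?_)
      exact mul_dvd_mul_right (Nat.modEq_zero_iff_dvd.mp hf1) t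
  have back : ∀ u y : G, u ^ A = 1 → y ^ t = 1 → u * y = y * u →
      (u * y) ^ (A * t) = 1 ∧ (u * y) ^ e = u ∧ (u * y) ^ f = y := by
    intro u y hu hy hc
    have hc' : Commute u y := hc
    refine ⟨?_, ?_, ?_⟩ <;> rw [hc'.mul_pow]
    · rw [pow_mul, hu, one_pow, one_mul, mul_comm A t, pow_mul, hy, one_pow]
    · rw [red hu he1, red hy he2, pow_one, pow_zero, mul_one]
    · rw [red hu hf1, red hy hf2, pow_one, pow_zero, one_mul]
  let U := Finset.univ.filter (fun u : G => u ^ A = 1 ∧ P u)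
  have ext : ∀ p q : Σ u : U, {y : Subgroup.centralizer ({(u : G)} : Set G) // y ^ t = 1},
      p.1 = q.1 → (p.2.1 : G) = q.2.1 → p = q := by
    rintro ⟨u, y⟩ ⟨v, z⟩ h1 h2
    subst h1
    obtain rfl : y = z := Subtype.ext (Subtype.ext h2)
    rfl
  let φ : {x : G // x ^ (A * t) = 1 ∧ Q x} ≃
      Σ u : U, {y : Subgroup.centralizer ({(u : G)} : Set G) // y ^ t = 1} :=
    { toFun := fun x => ⟨⟨x.1 ^ e, Finset.mem_filter.mpr ⟨Finset.mem_univ _, (split x.1 x.2.1).2.1, by
          obtain ⟨h1, h2, h3⟩ := split x.1 x.2.1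
          refine (hPQ _ _ h2 h3 (Commute.pow_pow (Commute.refl x.1) e f).eq).mp ?_
          rw [h1]; exact x.2.2⟩⟩,
        ⟨⟨x.1 ^ f, Subgroup.mem_centralizer_singleton_iff.mpr
            (Commute.pow_pow (Commute.refl x.1) f e).eq⟩, Subtype.ext (split x.1 x.2.1).2.2⟩⟩
      invFun := fun p => ⟨(p.1 : G) * (p.2.1 : G), by
        have hu := (Finset.mem_filter.mp p.1.2).2
        have hy : (p.2.1 : G) ^ t = 1 := congrArg Subtype.val p.2.2
        have hc := (Subgroup.mem_centralizer_singleton_iff.mp p.2.1.2).symm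
        exact ⟨(back _ _ hu.1 hy hc).1, (hPQ _ _ hu.1 hy hc).mpr hu.2⟩⟩
      left_inv := fun x => Subtype.ext (split x.1 x.2.1).1
      right_inv := fun ⟨⟨u, hu⟩, ⟨⟨y, hy'⟩, hy⟩⟩ => by
        have hu' := (Finset.mem_filter.mp hu).2
        have hy2 : y ^ t = 1 := congrArg Subtype.val hy
        obtain ⟨-, e1, e2⟩ := back u y hu'.1 hy2 (Subgroup.mem_centralizer_singleton_iff.mp hy').symm
        exact ext _ _ (Subtype.ext e1) e2 }
  rw [Nat.card_congr φ, Nat.card_sigma, Finset.sum_coe_sort U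
    (fun u => Nat.card {y : Subgroup.centralizer ({u} : Set G) // y ^ t = 1})]

/-- Conjugate elements have centralisers with equally many solutions. -/
theorem card_sol_conj {G : Type u} [Group G] (g u : G) (t : ℕ) :
    Nat.card {y : Subgroup.centralizer ({g * u * g⁻¹} : Set G) // y ^ t = 1} =
      Nat.card {y : Subgroup.centralizer ({u} : Set G) // y ^ t = 1} := by
  let ψ : {y : G // y ∈ Subgroup.centralizer ({u} : Set G) ∧ y ^ t = 1} ≃
      {y : G // y ∈ Subgroup.centralizer ({g * u * g⁻¹} : Set G) ∧ y ^ t = 1} :=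
    (MulAut.conj g).toEquiv.subtypeEquiv fun y => by
      show _ ↔ (g * y * g⁻¹) ∈ _ ∧ (g * y * g⁻¹) ^ t = 1
      have e1 : g * y * g⁻¹ * (g * u * g⁻¹) = g * (y * u) * g⁻¹ := by group
      have e2 : g * u * g⁻¹ * (g * y * g⁻¹) = g * (u * y) * g⁻¹ := by group
      simp only [Subgroup.mem_centralizer_singleton_iff, conj_pow, conj_eq_one_iff, e1, e2,
        mul_left_inj, mul_right_inj]
  have e : ∀ v : G, Nat.card {y : Subgroup.centralizer ({v} : Set G) // y ^ t = 1} =
      Nat.card {y : G // y ∈ Subgroup.centralizer ({v} : Set G) ∧ y ^ t = 1} := fun v =>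
    Nat.card_congr
      { toFun := fun y => ⟨y.1.1, y.1.2, congrArg Subtype.val y.2⟩
        invFun := fun y => ⟨⟨y.1, y.2.1⟩, Subtype.ext y.2.2⟩
        left_inv := fun y => rfl
        right_inv := fun y => rfl }
  rw [e, e, Nat.card_congr ψ]

/-- Solutions prime to a central element pass to the quotient. -/
theorem card_sol_quotient {C : Type u} [Group C] [Finite C] (u : C) (hu : u ∈ Subgroup.center C)
    [(Subgroup.zpowers u).Normal] {t : ℕ} (ht : Nat.Coprime t (orderOf u)) :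
    Nat.card {y : C // y ^ t = 1} = Nat.card {z : C ⧸ Subgroup.zpowers u // z ^ t = 1} := by
  refine Nat.card_congr (Equiv.ofBijective
    (fun y => ⟨(y.1 : C ⧸ Subgroup.zpowers u), by rw [← QuotientGroup.mk_pow, y.2, QuotientGroup.mk_one]⟩)
    ⟨?_, ?_⟩)
  · rintro ⟨a, ha⟩ ⟨b, hb⟩ hab
    refine Subtype.ext ?_
    have h : a⁻¹ * b ∈ Subgroup.zpowers u := QuotientGroup.eq.mp (congrArg Subtype.val hab)
    have hcm : Commute a⁻¹ b := by
      obtain ⟨i, hi⟩ := Subgroup.mem_zpowers_iff.mp h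
      have hb' : b = a * u ^ i := by rw [hi]; group
      have hca : Commute a (u ^ i) := Commute.zpow_right (Subgroup.mem_center_iff.mp hu a) i
      rw [hb']
      exact ((Commute.refl a).inv_left).mul_right hca.inv_left
    have h1 : orderOf (a⁻¹ * b) ∣ t := orderOf_dvd_of_pow_eq_one (by
      rw [hcm.mul_pow, inv_pow, ha, hb, inv_one, one_mul])
    have h2 : orderOf (a⁻¹ * b) ∣ orderOf u := by
      rw [← Nat.card_zpowers u]; exact Subgroup.orderOf_dvd_natCard (Subgroup.zpowers u) h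
    exact inv_mul_eq_one.mp (orderOf_eq_one_iff.mp (Nat.eq_one_of_dvd_coprimes ht h1 h2))
  · rintro ⟨z, hz⟩
    obtain ⟨y, rfl⟩ := QuotientGroup.mk_surjective z
    rw [← QuotientGroup.mk_pow, QuotientGroup.eq_one_iff] at hz
    obtain ⟨w, hw⟩ : ∃ w : Subgroup.zpowers u, w ^ t = ⟨_, inv_mem hz⟩ :=
      (powCoprime (G := Subgroup.zpowers u) (by rw [Nat.card_zpowers]; exact ht.symm)).surjective _
    have hw' : (w : C) ^ t = (y ^ t)⁻¹ := congrArg Subtype.val hw
    have hcen : (w : C) ∈ Subgroup.center C := (Subgroup.zpowers_le.mpr hu) w.2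
    refine ⟨⟨y * w, ?_⟩, Subtype.ext ?_⟩
    · rw [Commute.mul_pow (Subgroup.mem_center_iff.mp hcen y), hw', mul_inv_cancel]
    · show ((y * w : C) : C ⧸ Subgroup.zpowers u) = y
      rw [QuotientGroup.mk_mul, (QuotientGroup.eq_one_iff _).mpr w.2, mul_one]

theorem card_pow_gcd {G : Type u} [Group G] (m : ℕ) :
    Nat.card {g : G // g ^ m = 1} = Nat.card {g : G // g ^ Nat.gcd m (Nat.card G) = 1} := by
  refine Nat.card_congr (Equiv.subtypeEquivRight fun g => ?_)
  rw [← orderOf_dvd_iff_pow_eq_one, ← orderOf_dvd_iff_pow_eq_one, Nat.dvd_gcd_iff,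
    and_iff_left (_root_.orderOf_dvd_natCard g)]

/-- The element `x ^ (n * p) = 1`, `x ^ n ≠ 1` are divisible by `p ^ a` in number. -/
theorem pow_dvd_card_new {G : Type u} [Group G] [Finite G] {p a t : ℕ} (hp : p.Prime)
    (hpt : ¬ p ∣ t) :
    p ^ a ∣ Nat.card {x : G // x ^ (p ^ (a + 1) * t) = 1 ∧ x ^ (p ^ a * t) ≠ 1} := by
  classical
  have := Fintype.ofFinite G
  set S := Finset.univ.filter (fun x : G => x ^ (p ^ (a + 1) * t) = 1 ∧ x ^ (p ^ a * t) ≠ 1) with hS
  have hcard : Nat.card {x : G // x ^ (p ^ (a + 1) * t) = 1 ∧ x ^ (p ^ a * t) ≠ 1} = S.card := by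
    rw [Nat.card_eq_fintype_card, Fintype.card_subtype]
  rw [hcard, Finset.card_eq_sum_card_image Subgroup.zpowers S]
  refine Finset.dvd_sum fun H hH => ?_
  obtain ⟨x, hx, rfl⟩ := Finset.mem_image.mp hH
  obtain ⟨-, hx1, hx2⟩ := Finset.mem_filter.mp hx
  have hbij : (S.filter fun y => Subgroup.zpowers y = Subgroup.zpowers x).card =
      (Finset.univ.filter fun w : Subgroup.zpowers x => orderOf w = orderOf x).card := by
    refine Finset.card_bij (fun y hy => (⟨y, (Finset.mem_filter.mp hy).2 ▸ Subgroup.mem_zpowers y⟩ :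
      Subgroup.zpowers x)) (fun y hy => ?_) (fun y _ z _ h => congrArg Subtype.val h) (fun w hw => ?_)
    · refine Finset.mem_filter.mpr ⟨Finset.mem_univ _, ?_⟩
      rw [Subgroup.orderOf_mk, ← Nat.card_zpowers, (Finset.mem_filter.mp hy).2, Nat.card_zpowers]
    · have ho : orderOf (w : G) = orderOf x := by
        rw [Subgroup.orderOf_coe]; exact (Finset.mem_filter.mp hw).2
      refine ⟨(w : G), Finset.mem_filter.mpr ⟨Finset.mem_filter.mpr ⟨Finset.mem_univ _, ?_, ?_⟩, ?_⟩,
        rfl⟩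
      · rw [← orderOf_dvd_iff_pow_eq_one, ho, orderOf_dvd_iff_pow_eq_one]; exact hx1
      · rw [Ne, ← orderOf_dvd_iff_pow_eq_one, ho, orderOf_dvd_iff_pow_eq_one]; exact hx2
      · exact Subgroup.eq_of_le_of_card_ge (Subgroup.zpowers_le.mpr w.2)
          (by rw [Nat.card_zpowers, Nat.card_zpowers, ho])
  rw [hbij, IsCyclic.card_orderOf_eq_totient (by rw [← Nat.card_eq_fintype_card, Nat.card_zpowers])]
  have hpow : p ^ (a + 1) ∣ orderOf x := by
    have h1 : orderOf x ∣ p ^ (a + 1) * t := orderOf_dvd_of_pow_eq_one hx1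
    obtain ⟨d₁, d₂, hd1, hd2, hd⟩ := exists_dvd_and_dvd_of_dvd_mul h1
    obtain ⟨k, hk, rfl⟩ := (Nat.dvd_prime_pow hp).mp hd1
    rcases hk.lt_or_eq with hlt | rfl
    · exfalso
      refine hx2 (orderOf_dvd_iff_pow_eq_one.mp ?_)
      rw [hd]
      exact mul_dvd_mul (pow_dvd_pow p (Nat.lt_succ_iff.mp hlt)) hd2
    · exact Dvd.intro _ hd.symm
  refine dvd_trans ?_ (Nat.totient_dvd_of_dvd hpow)
  rw [Nat.totient_prime_pow_succ hp]
  exact dvd_mul_right _ _

/-- Frobenius' theorem. -/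
theorem dvd_card_pow_eq_one (N : ℕ) : ∀ {G : Type u} [Group G] [Finite G], Nat.card G = N →
    ∀ m, Nat.gcd m (Nat.card G) ∣ Nat.card {g : G // g ^ m = 1} := by
  induction N using Nat.strong_induction_on with
  | _ N ih =>
  intro G _ _ hN m
  rw [card_pow_gcd m]
  suffices H : ∀ k n, n ∣ Nat.card G → Nat.card G / n = k → n ∣ Nat.card {g : G // g ^ n = 1} from
    H _ _ (Nat.gcd_dvd_right _ _) rfl
  intro k
  induction k using Nat.strong_induction_on with
  | _ k ihk =>
  intro n hn hk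
  have hn0 : 0 < n := Nat.pos_of_dvd_of_pos hn Nat.card_pos
  rcases eq_or_ne n (Nat.card G) with rfl | hne
  · rw [Nat.card_congr (Equiv.subtypeUnivEquiv fun g => pow_card_eq_one')]
  obtain ⟨p, hp, hpd⟩ := Nat.exists_prime_and_dvd
    (show Nat.card G / n ≠ 1 from fun h => hne (Nat.eq_of_dvd_of_div_eq_one hn h))
  have hnp : n * p ∣ Nat.card G := (Nat.mul_dvd_mul_left n hpd).trans (Nat.mul_div_cancel' hn).dvd
  have hbig : n * p ∣ Nat.card {g : G // g ^ (n * p) = 1} := by
    refine ihk (Nat.card G / (n * p)) ?_ _ hnp rfl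
    rw [← hk, ← Nat.div_div_eq_div_mul]
    exact Nat.div_lt_self (Nat.div_pos (Nat.le_of_dvd Nat.card_pos hn) hn0) hp.one_lt
  have hsum : Nat.card {g : G // g ^ (n * p) = 1} = Nat.card {g : G // g ^ n = 1} +
      Nat.card {g : G // g ^ (n * p) = 1 ∧ g ^ n ≠ 1} := by
    classical
    have := Fintype.ofFinite G
    simp only [Nat.card_eq_fintype_card, Fintype.card_subtype]
    rw [← Finset.card_filter_add_card_filter_not
      (s := Finset.univ.filter fun g : G => g ^ (n * p) = 1) (fun g => g ^ n = 1),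
      Finset.filter_filter, Finset.filter_filter]
    congr 2
    refine Finset.filter_congr fun g _ => ⟨fun h => h.2, fun h => ⟨?_, h⟩⟩
    rw [pow_mul, h, one_pow]
  suffices hD : n ∣ Nat.card {g : G // g ^ (n * p) = 1 ∧ g ^ n ≠ 1} from
    (Nat.dvd_add_iff_left hD).mpr (hsum ▸ (dvd_mul_right n p).trans hbig)
  obtain ⟨a, t, hpt, rfl⟩ := Nat.exists_eq_pow_mul_and_not_dvd hn0.ne' p hp.ne_one
  have e : p ^ a * t * p = p ^ (a + 1) * t := by rw [pow_succ]; ring
  rw [e]
  have hcopat : Nat.Coprime p t := hp.coprime_iff_not_dvd.mpr hpt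
  refine (Nat.Coprime.pow_left a hcopat).mul_dvd_of_dvd_of_dvd (pow_dvd_card_new hp hpt) ?_
  classical
  have := Fintype.ofFinite G
  rw [card_split (A := p ^ (a + 1)) (t := t) (hcopat.pow_left _)
    (fun u => u ^ (p ^ a) ≠ 1) (fun x => x ^ (p ^ a * t) ≠ 1) (fun u y hu hy hc => by
      rw [(show Commute u y from hc).mul_pow, mul_comm (p ^ a) t, pow_mul y, hy, one_pow, mul_one,
        mul_comm t, pow_mul]
      refine not_congr ⟨fun h => ?_, fun h => by rw [h, one_pow]⟩
      have h1 : orderOf (u ^ p ^ a) ∣ t := orderOf_dvd_of_pow_eq_one h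
      have h2 : orderOf (u ^ p ^ a) ∣ p ^ (a + 1) := orderOf_dvd_of_pow_eq_one (by
        rw [← pow_mul, mul_comm, pow_mul, hu, one_pow])
      exact orderOf_eq_one_iff.mp (Nat.eq_one_of_dvd_coprimes (hcopat.pow_left (a + 1)) h2 h1))]
  refine dvd_sum_of_dvd_centralizer ((dvd_mul_left t (p ^ a)).trans hn) _ ?_ _
    (fun g u _ => card_sol_conj g u t) ?_
  · intro g u hu
    simp only [Finset.mem_filter, Finset.mem_univ, true_and, conj_pow, ne_eq] at hu ⊢
    simp only [conj_eq_one_iff]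
    exact hu
  · intro u hu
    obtain ⟨-, hu1, hu2⟩ := Finset.mem_filter.mp hu
    have hune : u ≠ 1 := fun h => hu2 (by rw [h, one_pow])
    have hcopu : Nat.Coprime t (orderOf u) :=
      Nat.Coprime.coprime_dvd_right (orderOf_dvd_of_pow_eq_one hu1) (hcopat.symm.pow_right _)
    let uC : Subgroup.centralizer ({u} : Set G) := ⟨u, Subgroup.mem_centralizer_singleton_iff.mpr rfl⟩
    have hucen : uC ∈ Subgroup.center (Subgroup.centralizer ({u} : Set G)) :=
      Subgroup.mem_center_iff.mpr fun c => Subtype.ext (Subgroup.mem_centralizer_singleton_iff.mp c.2)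
    have : (Subgroup.zpowers uC).Normal := ⟨fun x hx g => by
      rwa [Subgroup.mem_center_iff.mp ((Subgroup.zpowers_le.mpr hucen) hx) g, mul_inv_cancel_right]⟩
    rw [card_sol_quotient uC hucen (by rw [Subgroup.orderOf_mk]; exact hcopu)]
    have hq := (Subgroup.zpowers uC).card_mul_index
    rw [Nat.card_zpowers, Subgroup.orderOf_mk, Subgroup.index_eq_card] at hq
    have hlt : Nat.card (Subgroup.centralizer ({u} : Set G) ⧸ Subgroup.zpowers uC) < N := by
      refine lt_of_lt_of_le ?_ (hN ▸ Nat.le_of_dvd Nat.card_pos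
        (Subgroup.card_subgroup_dvd_card (Subgroup.centralizer ({u} : Set G))))
      rw [← hq]
      have h1 : 1 < orderOf u := by
        have := orderOf_pos u
        have := (orderOf_eq_one_iff (x := u)).not.mpr hune
        omega
      exact lt_mul_of_one_lt_left Nat.card_pos h1
    refine dvd_trans ?_ (ih _ hlt rfl t)
    refine Nat.dvd_gcd (Nat.gcd_dvd_left _ _)
      ((Nat.Coprime.coprime_dvd_left (Nat.gcd_dvd_left _ _) hcopu).dvd_of_dvd_mul_left ?_)
    rw [hq]
    exact Nat.gcd_dvd_right _ _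

end Cfsg.Lib.Counting
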