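/-
The number of solutions of `x ^ n = c` for a central element `c` (Frobenius).
-/
import Cfsg.Agent.Counting.Frobenius

set_option linter.style.haveILetI false
set_option linter.unusedSectionVars false

namespace Cfsg.Lib.Counting

open Subgroup

universe u

variable {C : Type u} [Group C] [Finite C]

theorem prime_pow_dvd_sol_of_dvd_order {p a n : ℕ} (hp : p.Prime) (c : C) (hpc : p ∣ orderOf c)
    (hn : p ^ a ∣ n) : p ^ a ∣ Nat.card {x : C // x ^ n = c} := by
  classical
  haveI := Fintype.ofFinite C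
  rcases eq_or_ne n 0 with rfl | hn0
  · rcases eq_or_ne c 1 with rfl | hc
    · rw [orderOf_one] at hpc; exact absurd (Nat.dvd_one.1 hpc) hp.ne_one
    · haveI : IsEmpty {x : C // x ^ 0 = c} := ⟨fun x => hc (by rw [← x.2, pow_zero])⟩
      rw [Nat.card_of_isEmpty]; exact dvd_zero _
  set S := Finset.univ.filter (fun x : C => x ^ n = c)
  rw [Nat.card_eq_fintype_card, Fintype.card_subtype]
  change p ^ a ∣ S.card
  rw [Finset.card_eq_sum_card_image Subgroup.zpowers S]
  refine Finset.dvd_sum fun H hH => ?_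
  obtain ⟨x, hx, rfl⟩ := Finset.mem_image.mp hH
  obtain ⟨-, hxc⟩ := Finset.mem_filter.mp hx
  set M := orderOf x
  set m := orderOf c with hm
  have hmM : m ∣ M := by rw [hm, ← hxc]; exact orderOf_pow_dvd n
  have hpm : p ^ a * m ∣ M := by
    have h1 : m * Nat.gcd M n = M := by
      rw [hm, ← hxc, orderOf_pow' x hn0, Nat.div_mul_cancel (Nat.gcd_dvd_left _ _)]
    obtain ⟨k, -, hk⟩ := (Nat.dvd_prime_pow hp).1 (Nat.gcd_dvd_right M (p ^ a))
    have h2 : p ^ a ∣ M := by
      rcases le_or_gt a k with hak | hka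
      · exact (pow_dvd_pow p hak).trans (hk ▸ Nat.gcd_dvd_left _ _)
      · exfalso
        have h3 : p ^ k ∣ Nat.gcd M n :=
          Nat.dvd_gcd (hk ▸ Nat.gcd_dvd_left _ _) ((pow_dvd_pow p hka.le).trans hn)
        have h4 : p ^ (k + 1) ∣ M := by
          rw [← h1, pow_succ']; exact mul_dvd_mul hpc h3
        have h5 : p ^ (k + 1) ∣ p ^ k := hk ▸ Nat.dvd_gcd h4 (pow_dvd_pow p hka)
        exact absurd ((Nat.pow_dvd_pow_iff_le_right hp.one_lt).1 h5) (by omega)
    rw [← h1, mul_comm m]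
    exact mul_dvd_mul_right (Nat.dvd_gcd h2 hn) m
  haveI : NeZero M := ⟨(orderOf_pos x).ne'⟩
  haveI : NeZero m := ⟨(orderOf_pos c).ne'⟩
  set K := (ZMod.unitsMap hmM).ker
  have hbij : (S.filter fun y => Subgroup.zpowers y = Subgroup.zpowers x).card = Nat.card K := by
    rw [Nat.card_eq_fintype_card, ← Finset.card_univ]
    symm
    refine Finset.card_bij (fun k _ => x ^ ((k.1 : ZMod M).val)) (fun k _ => ?_) (fun k _ l _ h => ?_)
      (fun y hy => ?_)
    · have h1 : (k.1 : ZMod M).val ≡ 1 [MOD m] := by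
        rw [← ZMod.natCast_eq_natCast_iff, Nat.cast_one, ← ZMod.cast_eq_val]
        exact congrArg Units.val (k.2 : ZMod.unitsMap hmM k.1 = 1)
      have hcop : ((k.1 : ZMod M).val).Coprime M := ZMod.val_coe_unit_coprime k.1
      refine Finset.mem_filter.mpr ⟨Finset.mem_filter.mpr ⟨Finset.mem_univ _, ?_⟩, ?_⟩
      · rw [← pow_mul, mul_comm, pow_mul, hxc, pow_eq_pow_iff_modEq.2 h1, pow_one]
      · refine Subgroup.eq_of_le_of_card_ge (Subgroup.zpowers_le.mpr (Subgroup.npow_mem_zpowers x _)) ?_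
        rw [Nat.card_zpowers, Nat.card_zpowers, hcop.symm.orderOf_pow]
    · apply Subtype.ext
      apply Units.ext
      apply ZMod.val_injective M
      exact (pow_eq_pow_iff_modEq.1 h).eq_of_lt_of_lt (ZMod.val_lt _) (ZMod.val_lt _)
    · obtain ⟨hyS, hyz⟩ := Finset.mem_filter.1 hy
      have hyc := (Finset.mem_filter.1 hyS).2
      obtain ⟨k, hk, rfl⟩ : ∃ k < M, x ^ k = y := by
        obtain ⟨k, hk⟩ := (Submonoid.mem_powers_iff y x).1
          (mem_powers_iff_mem_zpowers.2 (hyz ▸ Subgroup.mem_zpowers y))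
        exact ⟨k % M, Nat.mod_lt _ (orderOf_pos x), by rw [pow_mod_orderOf, hk]⟩
      have hcop : k.Coprime M := by
        have h1 : Nat.card (Subgroup.zpowers (x ^ k)) = M := by rw [hyz, Nat.card_zpowers]
        rw [Nat.card_zpowers, orderOf_pow] at h1
        have h2 := Nat.div_mul_cancel (Nat.gcd_dvd_left (orderOf x) k)
        rw [h1] at h2
        have h3 : Nat.gcd M k = 1 := by
          nlinarith [Nat.gcd_pos_of_pos_left k (orderOf_pos x), orderOf_pos x]
        exact Nat.Coprime.symm h3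
      have h4 : k ≡ 1 [MOD m] := by
        rw [hm, ← pow_eq_pow_iff_modEq, pow_one]
        conv_lhs => rw [← hxc]
        rw [← pow_mul, mul_comm, pow_mul, hyc]
      refine ⟨⟨ZMod.unitOfCoprime k hcop, ?_⟩, Finset.mem_univ _, ?_⟩
      · apply Units.ext
        show ZMod.castHom hmM (ZMod m) (k : ZMod M) = 1
        rw [map_natCast, ← Nat.cast_one, ZMod.natCast_eq_natCast_iff]
        exact h4
      · show x ^ ((k : ZMod M)).val = x ^ k
        rw [ZMod.val_natCast_of_lt hk]
  rw [hbij]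
  have h5 : Nat.card K * Nat.card (ZMod m)ˣ = Nat.card (ZMod M)ˣ := by
    have h6 := K.card_mul_index
    rwa [show K.index = Nat.card (ZMod m)ˣ by
      rw [Subgroup.index_ker, MonoidHom.range_eq_top.2 (ZMod.unitsMap_surjective hmM), Subgroup.card_top]] at h6
  rw [Nat.card_eq_fintype_card, Nat.card_eq_fintype_card (α := (ZMod m)ˣ), Nat.card_eq_fintype_card,
    ZMod.card_units_eq_totient, ZMod.card_units_eq_totient] at h5
  rw [Nat.card_eq_fintype_card]
  have h7 : ∀ j, Nat.totient (p ^ j * m) = p ^ j * Nat.totient m := by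
    intro j
    induction j with
    | zero => simp
    | succ j ih =>
      rw [pow_succ', mul_assoc, Nat.totient_mul_of_prime_of_dvd hp (dvd_mul_of_dvd_right hpc _), ih, mul_assoc]
  have h8 := Nat.totient_dvd_of_dvd hpm
  rw [h7, ← h5] at h8
  exact Nat.dvd_of_mul_dvd_mul_right (Nat.totient_pos.2 (orderOf_pos c)) h8

/-- Frobenius: the number of solutions of `x ^ n = c`, `c` central. -/
theorem dvd_card_pow_eq_central (c : C) (hc : c ∈ Subgroup.center C) {n : ℕ} (hn : n ≠ 0) :
    Nat.gcd n (Nat.card C) ∣ Nat.card {x : C // x ^ n = c} := by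
  classical
  haveI := Fintype.ofFinite C
  rw [Nat.dvd_iff_prime_pow_dvd_dvd]
  intro p k hp hk
  rcases Nat.eq_zero_or_pos k with rfl | hk0
  · simp
  have hpn := hk.trans (Nat.gcd_dvd_left _ _)
  by_cases hpc : p ∣ orderOf c
  · exact prime_pow_dvd_sol_of_dvd_order hp c hpc hpn
  obtain ⟨v, r, hr, rfl⟩ := Nat.exists_eq_pow_mul_and_not_dvd hn p hp.ne_one
  have hcop : Nat.Coprime (r * orderOf c) (p ^ v) :=
    Nat.Coprime.pow_right _ ((hp.coprime_iff_not_dvd.2 (hp.not_dvd_mul hr hpc)).symm)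
  have hS : Nat.card {x : C // x ^ (p ^ v * r) = c} =
      Nat.card {x : C // x ^ ((r * orderOf c) * p ^ v) = 1 ∧ x ^ (p ^ v * r) = c} := by
    refine Nat.card_congr (Equiv.subtypeEquivRight fun x => ⟨fun h => ⟨?_, h⟩, fun h => h.2⟩)
    rw [show r * orderOf c * p ^ v = p ^ v * r * orderOf c by ring, pow_mul, h, pow_orderOf_eq_one]
  rw [hS, card_split hcop (fun u => u ^ (p ^ v * r) = c) (fun x => x ^ (p ^ v * r) = c) (fun u y _ hy hcm => by
    rw [(show Commute u y from hcm).mul_pow, pow_mul y, hy, one_pow, mul_one])]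
  refine dvd_sum_of_dvd_centralizer (hk.trans (Nat.gcd_dvd_right _ _)) _ ?_ _ (fun g u _ => card_sol_conj g u _) ?_
  · intro g u hu
    obtain ⟨-, h1, h2⟩ := Finset.mem_filter.1 hu
    refine Finset.mem_filter.2 ⟨Finset.mem_univ _, by rw [conj_pow, h1, mul_one, mul_inv_cancel], ?_⟩
    show (g * u * g⁻¹) ^ (p ^ v * r) = c
    rw [conj_pow, h2, Subgroup.mem_center_iff.1 hc g, mul_inv_cancel_right]
  · intro u _
    refine dvd_trans ?_ (dvd_card_pow_eq_one _ rfl (p ^ v))
    refine Nat.gcd_dvd_gcd_of_dvd_left _ ?_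
    exact (Nat.Coprime.pow_left k (hp.coprime_iff_not_dvd.2 hr)).dvd_of_dvd_mul_right hpn

theorem dvd_card_pow_conj {G : Type u} [Group G] [Finite G] (c : G) (n : ℕ) :
    Nat.gcd (Nat.card {y : G // IsConj c y} * n) (Nat.card G) ∣ Nat.card {x : G // IsConj c (x ^ n)} := by
  classical
  haveI := Fintype.ofFinite G
  set Z := Subgroup.centralizer ({c} : Set G)
  have hcl : Nat.card {y : G // IsConj c y} * Nat.card Z = Nat.card G := by
    have e : Nat.card {y : G // IsConj c y} = Nat.card (ConjClasses.mk c).carrier := by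
      refine Nat.card_congr (Equiv.subtypeEquivRight fun y => ?_)
      show IsConj c y ↔ y ∈ (ConjClasses.mk c).carrier
      rw [ConjClasses.mem_carrier_iff_mk_eq, ConjClasses.mk_eq_mk_iff_isConj, isConj_comm]
    rw [e]; exact card_carrier_mul_centralizer c
  rcases eq_or_ne n 0 with rfl | hn
  · rw [mul_zero, Nat.gcd_zero_left]
    by_cases hc : IsConj c 1
    · rw [Nat.card_congr (Equiv.subtypeUnivEquiv fun x : G => by rw [pow_zero]; exact hc)]
    · haveI : IsEmpty {x : G // IsConj c (x ^ 0)} := ⟨fun x => hc (by simpa using x.2)⟩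
      rw [Nat.card_of_isEmpty (α := {x : G // IsConj c (x ^ 0)})]; exact dvd_zero _
  have hsplit : Nat.card {x : G // IsConj c (x ^ n)} =
      Nat.card {y : G // IsConj c y} * Nat.card {x : G // x ^ n = c} := by
    have e1 : {x : G // IsConj c (x ^ n)} ≃ Σ y : {y : G // IsConj c y}, {x : G // x ^ n = y.1} :=
      { toFun := fun x => ⟨⟨x.1 ^ n, x.2⟩, x.1, rfl⟩
        invFun := fun s => ⟨s.2.1, by rw [s.2.2]; exact s.1.2⟩
        left_inv := fun x => rfl
        right_inv := by rintro ⟨⟨y, hy⟩, ⟨x, (rfl : x ^ n = y)⟩⟩; rfl }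
    have e2 : ∀ y : {y : G // IsConj c y}, Nat.card {x : G // x ^ n = y.1} = Nat.card {x : G // x ^ n = c} := by
      rintro ⟨y, hy⟩
      obtain ⟨g, rfl⟩ := isConj_iff.1 hy
      refine (Nat.card_congr ((MulAut.conj g).toEquiv.subtypeEquiv fun x => ?_)).symm
      show x ^ n = c ↔ (g * x * g⁻¹) ^ n = g * c * g⁻¹
      rw [conj_pow, mul_left_inj, mul_right_inj]
    rw [Nat.card_congr e1, Nat.card_sigma, Finset.sum_congr rfl fun y _ => e2 y, Finset.sum_const,
      Finset.card_univ, smul_eq_mul, ← Nat.card_eq_fintype_card]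
  have hC : Nat.card {x : G // x ^ n = c} = Nat.card {x : Z // x ^ n = ⟨c, Subgroup.mem_centralizer_singleton_iff.2 rfl⟩} := by
    refine Nat.card_congr
      { toFun := fun x => ⟨⟨x.1, Subgroup.mem_centralizer_singleton_iff.2
          (by obtain ⟨x, hx⟩ := x; show x * c = c * x; rw [← hx]; exact (Commute.pow_right (Commute.refl x) n).eq)⟩, Subtype.ext x.2⟩
        invFun := fun x => ⟨x.1.1, congrArg Subtype.val x.2⟩
        left_inv := fun x => rfl
        right_inv := fun x => rfl }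
  rw [hsplit, ← hcl, Nat.gcd_mul_left]
  refine mul_dvd_mul_left _ ?_
  rw [hC]
  refine dvd_card_pow_eq_central _ (Subgroup.mem_center_iff.2 fun g => ?_) hn
  exact Subtype.ext (Subgroup.mem_centralizer_singleton_iff.1 g.2)

end Cfsg.Lib.Counting
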