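/-
Frobenius' conjecture in finite soluble groups (M. Hall).
-/
import Cfsg.Agent.Counting.Frobenius
import Cfsg.Agent.SolvStruct.SylowNumber

set_option linter.style.haveILetI false
set_option linter.unusedSectionVars false

namespace Cfsg.Lib.Counting

open Subgroup

universe u

theorem card_image_cosets {G : Type u} [Group G] [Finite G] (K : Subgroup G) [K.Normal] (T : Set (G ⧸ K)) :
    Nat.card (QuotientGroup.mk ⁻¹' T : Set G) = Nat.card K * Nat.card T := by
  rw [Nat.card_congr (QuotientGroup.preimageMkEquivSubgroupProdSet K T), Nat.card_prod]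

theorem frobenius_conjecture_solvable : ∀ (N : ℕ) (G : Type u) [Group G] [Finite G], Group.IsSolvable G →
    Nat.card G ≤ N → ∀ n, n ∣ Nat.card G → Nat.card {x : G // x ^ n = 1} = n →
    ∃ H : Subgroup G, H.Normal ∧ (H : Set G) = {x : G | x ^ n = 1} := by
  intro N
  induction N with
  | zero => intro G _ _ _ h; exact absurd h (by have := Nat.card_pos (α := G); omega)
  | succ N ih =>
    intro G _ _ hG hN n hn hcount
    have hfin : ∀ H : Subgroup G, (H : Set G) = {x : G | x ^ n = 1} → H.Normal := fun H hH => ⟨fun x hx g => by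
      have hx' : x ^ n = 1 := hH.subset hx
      exact hH.superset (show (g * x * g⁻¹) ^ n = 1 by rw [conj_pow, hx', mul_one, mul_inv_cancel])⟩
    rcases subsingleton_or_nontrivial G with h | h
    · refine ⟨⊥, inferInstance, ?_⟩
      ext x
      simp [Subsingleton.elim x 1]
    haveI := hG
    obtain ⟨K, -, hKn, hKne, hmin⟩ :=
      Cfsg.Lib.Coprime.exists_minimal_normal (K := (⊤ : Subgroup G)) inferInstance top_ne_bot
    haveI := hKn
    obtain ⟨-, r, hr, hrK, hr1⟩ := Cfsg.Lib.Coprime.minimal_normal_solvable inferInstance hKne hmin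
    haveI := Fact.mk hr
    obtain ⟨m, hm⟩ := IsPGroup.iff_card.1 hrK
    have hsplit := Subgroup.card_eq_card_quotient_mul_card_subgroup K
    have hm0 : m ≠ 0 := fun h0 => hKne (Subgroup.card_eq_one.1 (by rw [hm, h0, pow_zero]))
    have hlt : Nat.card (G ⧸ K) ≤ N := by
      have h2 : 1 < Nat.card K := (Subgroup.one_lt_card_iff_ne_bot K).2 hKne
      have h3 : 0 < Nat.card (G ⧸ K) := Nat.card_pos
      nlinarith
    have hGq : Group.IsSolvable (G ⧸ K) := inferInstance
    have hfrob : ∀ d, d ∣ Nat.card (G ⧸ K) → d ∣ Nat.card {y : G ⧸ K // y ^ d = 1} := fun d hd =>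
      (Nat.dvd_gcd dvd_rfl hd).trans (dvd_card_pow_eq_one _ rfl d)
    have hn0 : 0 < n := Nat.pos_of_dvd_of_pos hn Nat.card_pos
    have hrec : ∀ d, d ∣ Nat.card (G ⧸ K) → Nat.card {y : G ⧸ K // y ^ d = 1} ≤ d →
        ∃ H : Subgroup (G ⧸ K), (H : Set (G ⧸ K)) = {y | y ^ d = 1} ∧ Nat.card H = d := by
      intro d hd hle
      haveI : Nonempty {y : G ⧸ K // y ^ d = 1} := ⟨⟨1, one_pow d⟩⟩
      have heq : Nat.card {y : G ⧸ K // y ^ d = 1} = d :=
        le_antisymm hle (Nat.le_of_dvd Nat.card_pos (hfrob d hd))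
      obtain ⟨H, -, hH⟩ := ih (G ⧸ K) hGq hlt d hd heq
      exact ⟨H, hH, (Nat.card_congr (Equiv.setCongr hH)).trans heq⟩
    have hsol : Nat.card ({x : G | x ^ n = 1} : Set G) = n := hcount
    by_cases hrn : r ∣ n
    · obtain ⟨j, n1, hn1, rfl⟩ := Nat.exists_eq_pow_mul_and_not_dvd hn0.ne' r hr.ne_one
      have hj : j ≠ 0 := by rintro rfl; rw [pow_zero, one_mul] at hrn; exact hn1 hrn
      -- solutions in the quotient lift to solutions
      have hsub : ∀ d, d * r ∣ r ^ j * n1 →
          QuotientGroup.mk ⁻¹' {y : G ⧸ K | y ^ d = 1} ⊆ {x : G | x ^ (r ^ j * n1) = 1} := by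
        intro d hd x hx
        have h1 : x ^ d ∈ K := by
          rw [← QuotientGroup.eq_one_iff, QuotientGroup.mk_pow]; exact hx
        obtain ⟨e, he⟩ := hd
        show x ^ (r ^ j * n1) = 1
        rw [he, pow_mul, pow_mul, hr1 _ h1, one_pow]
      have hb : ∀ d, d * r ∣ r ^ j * n1 → r ^ m * Nat.card {y : G ⧸ K // y ^ d = 1} ≤ r ^ j * n1 := by
        intro d hd
        have h1 := Nat.card_mono (Set.toFinite _) (hsub d hd)
        rw [card_image_cosets, hsol, hm] at h1
        exact h1
      rcases le_or_gt m j with hmj | hmj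
      · obtain ⟨i, rfl⟩ := Nat.exists_eq_add_of_le hmj
        have hd : r ^ i * n1 ∣ Nat.card (G ⧸ K) := by
          refine Nat.dvd_of_mul_dvd_mul_left (pow_pos hr.pos m) ?_
          rw [← mul_assoc, ← pow_add, ← hm, mul_comm (Nat.card K), ← hsplit]
          exact hn
        have hd' : r ^ i * n1 * r ∣ r ^ (m + i) * n1 := by
          refine ⟨r ^ (m - 1), ?_⟩
          rw [show m + i = i + 1 + (m - 1) by omega, pow_add, pow_add]; ring
        have hle := hb _ hd'
        rw [pow_add, mul_assoc] at hle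
        obtain ⟨H, hH, hHc⟩ := hrec _ hd (Nat.le_of_mul_le_mul_left hle (pow_pos hr.pos m))
        have heq : ((H.comap (QuotientGroup.mk' K) : Subgroup G) : Set G) = {x : G | x ^ (r ^ (m + i) * n1) = 1} := by
          refine Set.eq_of_subset_of_ncard_le ?_ ?_ (Set.toFinite _)
          · exact (Set.preimage_mono hH.subset).trans (hsub _ hd')
          · rw [← Nat.card_coe_set_eq, ← Nat.card_coe_set_eq, hsol]
            refine le_of_eq ?_
            rw [Subgroup.coe_comap, QuotientGroup.coe_mk', card_image_cosets, hm, SetLike.coe_sort_coe, hHc,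
              pow_add, mul_assoc]
        exact ⟨_, hfin _ heq, heq⟩
      · exfalso
        have hd : n1 ∣ Nat.card (G ⧸ K) := by
          have h1 : n1 ∣ Nat.card (G ⧸ K) * r ^ m := by
            rw [← hm, ← hsplit]; exact (dvd_mul_left _ _).trans hn
          exact (Nat.Coprime.pow_right m (hr.coprime_iff_not_dvd.2 hn1).symm).dvd_of_dvd_mul_right h1
        have h2 := hb n1 (by
          refine ⟨r ^ (j - 1), ?_⟩
          rw [show j = 1 + (j - 1) by omega, pow_add]; simp; ring)
        haveI : Nonempty {y : G ⧸ K // y ^ n1 = 1} := ⟨⟨1, one_pow n1⟩⟩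
        have h3 := Nat.le_of_dvd Nat.card_pos (hfrob n1 hd)
        have h4 : r ^ j * n1 < r ^ m * n1 :=
          Nat.mul_lt_mul_of_pos_right (Nat.pow_lt_pow_right hr.one_lt hmj) (Nat.pos_of_ne_zero fun h0 => hn1 (h0 ▸ dvd_zero r))
        have h5 := Nat.mul_le_mul_left (r ^ m) h3
        omega
    · have hcop : n.Coprime (r ^ m) := Nat.Coprime.pow_right m (hr.coprime_iff_not_dvd.2 hrn).symm
      have hd : n ∣ Nat.card (G ⧸ K) := hcop.dvd_of_dvd_mul_right (by rw [← hm, ← hsplit]; exact hn)
      obtain ⟨e, he1, he0⟩ := Nat.chineseRemainder hcop 1 0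
      have hle : Nat.card {y : G ⧸ K // y ^ n = 1} ≤ n := by
        conv_rhs => rw [← hcount]
        refine Nat.card_le_card_of_surjective
          (fun x : {x : G // x ^ n = 1} => (⟨QuotientGroup.mk x.1, by rw [← QuotientGroup.mk_pow, x.2]; rfl⟩ :
            {y : G ⧸ K // y ^ n = 1})) fun y => ?_
        obtain ⟨x, hx⟩ := QuotientGroup.mk_surjective y.1
        have hxn : x ^ n ∈ K := by rw [← QuotientGroup.eq_one_iff, QuotientGroup.mk_pow, hx, y.2]
        refine ⟨⟨x ^ e, ?_⟩, Subtype.ext ?_⟩
        · obtain ⟨c, hc⟩ := Nat.modEq_zero_iff_dvd.1 he0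
          rw [← pow_mul, mul_comm, pow_mul, hc, pow_mul]
          have := congrArg Subtype.val (pow_card_eq_one' (x := (⟨x ^ n, hxn⟩ : K)))
          rw [hm] at this
          rw [show (x ^ n) ^ r ^ m = 1 from this, one_pow]
        · show QuotientGroup.mk (x ^ e) = y.1
          rw [QuotientGroup.mk_pow, hx]
          conv_rhs => rw [← pow_one y.1]
          exact pow_eq_pow_iff_modEq.2 (he1.of_dvd (orderOf_dvd_of_pow_eq_one y.2))
      obtain ⟨H, hH, hHc⟩ := hrec n hd hle
      set H₁ := H.comap (QuotientGroup.mk' K)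
      have hKH : K ≤ H₁ := fun x hx => by
        show (x : G ⧸ K) ∈ H
        rw [(QuotientGroup.eq_one_iff x).2 hx]; exact one_mem H
      have hH₁c : Nat.card H₁ = r ^ m * n := by
        have h1 : Nat.card ((H₁ : Subgroup G) : Set G) = Nat.card K * Nat.card (H : Set (G ⧸ K)) :=
          card_image_cosets K _
        rwa [SetLike.coe_sort_coe, SetLike.coe_sort_coe, hHc, hm] at h1
      have hKc : Nat.card (K.subgroupOf H₁) = r ^ m := by
        rw [Nat.card_congr (Subgroup.subgroupOfEquivOfLe hKH).toEquiv, hm]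
      have hidx : (K.subgroupOf H₁).index = n := by
        have h1 := (K.subgroupOf H₁).card_mul_index
        rw [hKc, hH₁c] at h1
        exact Nat.eq_of_mul_eq_mul_left (pow_pos hr.pos m) h1
      obtain ⟨L, hL⟩ := Subgroup.exists_right_complement'_of_coprime (N := K.subgroupOf H₁)
        (by rw [hKc, hidx]; exact hcop.symm)
      have hLc : Nat.card L = n := by
        have h1 := hL.card_mul
        rw [hKc, hH₁c] at h1
        exact Nat.eq_of_mul_eq_mul_left (pow_pos hr.pos m) h1
      have heq : ((L.map H₁.subtype : Subgroup G) : Set G) = {x : G | x ^ n = 1} := by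
        refine Set.eq_of_subset_of_ncard_le ?_ ?_ (Set.toFinite _)
        · rintro _ ⟨y, hy, rfl⟩
          have := congrArg (fun z : L => ((z : H₁) : G)) (pow_card_eq_one' (x := (⟨y, hy⟩ : L)))
          rw [hLc] at this
          exact this
        · rw [← Nat.card_coe_set_eq, ← Nat.card_coe_set_eq, hsol, SetLike.coe_sort_coe,
            Subgroup.card_map_of_injective H₁.subtype_injective, hLc]
      exact ⟨_, hfin _ heq, heq⟩

end Cfsg.Lib.Counting
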