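import Mathlib

set_option autoImplicit false

/-!
Wielandt's proof that the number of subgroups of order `p ^ β` is `1` modulo `p`.
-/

namespace Cfsg.Lib.Counting

open Subgroup
open scoped Pointwise

universe u

variable {G : Type u} [Group G] [Finite G]

/-- The subsets of size `k`. -/
abbrev KSet (G : Type u) (k : ℕ) : Type u := {S : Finset G // S.card = k}

open Classical in
noncomputable instance kSetAction (k : ℕ) : MulAction G (KSet G k) where
  smul g S := ⟨g • S.1, by rw [Finset.card_smul_finset]; exact S.2⟩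
  one_smul S := Subtype.ext (one_smul G S.1)
  mul_smul a b S := Subtype.ext (mul_smul a b S.1)

theorem card_stabilizer_dvd {k : ℕ} (hk : 0 < k) (S : KSet G k) :
    Nat.card (MulAction.stabilizer G S) ∣ k ∧
      (Nat.card (MulAction.stabilizer G S) = k → ∀ x ∈ S.1, ∀ y,
        y ∈ S.1 ↔ y * x⁻¹ ∈ MulAction.stabilizer G S) := by
  classical
  set H := MulAction.stabilizer G S
  have hmem : ∀ h ∈ H, ∀ x ∈ S.1, h * x ∈ S.1 := fun h hh x hx => by
    have e : h • S.1 = S.1 := congrArg Subtype.val (MulAction.mem_stabilizer_iff.mp hh)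
    have hx' : h • x ∈ h • S.1 := Finset.smul_mem_smul_finset hx
    rw [e] at hx'
    exact hx'
  let : MulAction H {x : G // x ∈ S.1} :=
    { smul := fun h x => ⟨(h : G) * x.1, hmem h h.2 x.1 x.2⟩
      one_smul := fun x => Subtype.ext (one_mul x.1)
      mul_smul := fun a b x => Subtype.ext (mul_assoc (a : G) b x.1) }
  have hfree : ∀ x : {x : G // x ∈ S.1}, MulAction.stabilizer H x = ⊥ := fun x =>
    (Subgroup.eq_bot_iff_forall _).2 fun a ha => Subtype.ext
      (mul_eq_right.mp (congrArg Subtype.val (MulAction.mem_stabilizer_iff.mp ha) : (a : G) * x.1 = x.1))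
  have hScard : Nat.card {x : G // x ∈ S.1} = k := by
    rw [Nat.card_eq_fintype_card, Fintype.card_coe, S.2]
  refine ⟨?_, fun hHk x hx y => ?_⟩
  · rw [← hScard, Nat.card_congr (MulAction.selfEquivOrbitsQuotientProd hfree), Nat.card_prod]
    exact dvd_mul_left _ _
  · have hbij : Function.Bijective (fun h : H => (⟨(h : G) * x, hmem h h.2 x hx⟩ : {x : G // x ∈ S.1})) :=
      (Nat.bijective_iff_injective_and_card _).mpr
        ⟨fun a b h => Subtype.ext (mul_right_cancel (congrArg Subtype.val h)), hHk.trans hScard.symm⟩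
    refine ⟨fun hy => ?_, fun hy => ?_⟩
    · obtain ⟨h, hh⟩ := hbij.2 ⟨y, hy⟩
      have hh' : (h : G) * x = y := congrArg Subtype.val hh
      have : y * x⁻¹ = (h : G) := by rw [← hh']; exact mul_inv_cancel_right _ _
      rw [this]; exact h.2
    · simpa using hmem _ hy x hx

/-- Wielandt's congruence. -/
theorem choose_modEq {p β t : ℕ} (hp : p.Prime) (hG : Nat.card G = p ^ β * t) :
    (Nat.card G).choose (p ^ β) ≡ Nat.card {H : Subgroup G // Nat.card H = p ^ β} * t [MOD p * t] := by
  classical
  have := Fintype.ofFinite G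
  set k := p ^ β with hk
  have hk0 : 0 < k := Nat.pow_pos hp.pos
  have hX : Nat.card (KSet G k) = (Nat.card G).choose k := by
    rw [Nat.card_eq_fintype_card (α := KSet G k), Fintype.card_finset_len, Nat.card_eq_fintype_card]
  let A := Finset.univ.filter (fun S : KSet G k => Nat.card (MulAction.stabilizer G S) = k)
  let B := Finset.univ.filter (fun S : KSet G k => ¬ Nat.card (MulAction.stabilizer G S) = k)
  have hAB : Nat.card (KSet G k) = A.card + B.card := by
    rw [Nat.card_eq_fintype_card, ← Finset.card_univ, Finset.card_filter_add_card_filter_not]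
  have hB : p * t ∣ B.card := by
    rw [Finset.card_eq_sum_card_image (fun S => MulAction.orbit G S) B]
    refine Finset.dvd_sum fun O hO => ?_
    obtain ⟨S, hS, rfl⟩ := Finset.mem_image.mp hO
    have hne := (Finset.mem_filter.mp hS).2
    have hfib : B.filter (fun T => MulAction.orbit G T = MulAction.orbit G S) =
        (MulAction.orbit G S).toFinset := by
      ext T
      simp only [B, Finset.mem_filter, Finset.mem_univ, true_and, Set.mem_toFinset,
        MulAction.orbit_eq_iff]
      refine ⟨fun h => h.2, fun h => ⟨?_, h⟩⟩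
      obtain ⟨g, rfl⟩ := h
      rw [Nat.card_congr (MulAction.stabilizerEquivStabilizer rfl).symm.toEquiv] at *
      exact hne
    rw [hfib, Set.toFinset_card, ← Nat.card_eq_fintype_card, Nat.card_coe_set_eq,
      ← MulAction.index_stabilizer]
    obtain ⟨j, hj, hjc⟩ := (Nat.dvd_prime_pow hp).mp (card_stabilizer_dvd hk0 S).1
    have hlt : j < β := hj.lt_of_ne fun e => hne (by rw [hjc, e])
    have h := (MulAction.stabilizer G S).card_mul_index
    rw [hjc, hG] at h
    have h' : p ^ j * (MulAction.stabilizer G S).index = p ^ j * (p ^ (β - j) * t) := by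
      rw [← mul_assoc, ← pow_add, Nat.add_sub_of_le hj]; exact h
    rw [Nat.eq_of_mul_eq_mul_left (Nat.pow_pos hp.pos) h']
    exact mul_dvd_mul_right (dvd_pow_self p (by omega)) t
  have hA : A.card = Nat.card {H : Subgroup G // Nat.card H = k} * t := by
    have hst : ∀ (H : Subgroup G) (x : G), Nat.card H = k →
        ∀ S : KSet G k, (∀ y, y ∈ S.1 ↔ y * x⁻¹ ∈ H) → MulAction.stabilizer G S = H := by
      intro H x hH S hS
      have hle : H ≤ MulAction.stabilizer G S := fun h hh => by
        refine MulAction.mem_stabilizer_iff.mpr (Subtype.ext ?_)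
        ext y
        show y ∈ h • S.1 ↔ y ∈ S.1
        rw [← Finset.inv_smul_mem_iff, hS, hS, smul_eq_mul, mul_assoc]
        exact H.mul_mem_cancel_left (inv_mem hh)
      refine (Subgroup.eq_of_le_of_card_ge hle ?_).symm
      rw [hH]
      exact Nat.le_of_dvd hk0 (card_stabilizer_dvd hk0 S).1
    let mkS : {H : Subgroup G // Nat.card H = k} × G → KSet G k := fun q =>
      ⟨Finset.univ.filter (fun y => y * q.2⁻¹ ∈ q.1.1), by
        refine Eq.trans ?_ q.1.2
        rw [Nat.card_eq_fintype_card]
        refine (Fintype.card_subtype _).symm.trans (Fintype.card_congr ((Equiv.mulRight q.2⁻¹).subtypeEquiv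
          fun y => Iff.rfl))⟩
    have hmk : ∀ q y, y ∈ (mkS q).1 ↔ y * q.2⁻¹ ∈ q.1.1 := fun q y => by simp [mkS]
    let e : ({H : Subgroup G // Nat.card H = k} × G) ≃ Σ S : A, {x : G // x ∈ (S : KSet G k).1} :=
      { toFun := fun q => ⟨⟨mkS q, Finset.mem_filter.mpr ⟨Finset.mem_univ _, by
          rw [hst q.1.1 q.2 q.1.2 _ (hmk q)]; exact q.1.2⟩⟩,
          q.2, (hmk q q.2).mpr (by rw [mul_inv_cancel]; exact one_mem _)⟩
        invFun := fun s => (⟨MulAction.stabilizer G s.1.1, (Finset.mem_filter.mp s.1.2).2⟩, s.2.1)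
        left_inv := fun q => Prod.ext (Subtype.ext (hst q.1.1 q.2 q.1.2 _ (hmk q))) rfl
        right_inv := fun ⟨⟨S, hS⟩, ⟨x, hx⟩⟩ => by
          have hq : mkS (⟨MulAction.stabilizer G S, (Finset.mem_filter.mp hS).2⟩, x) = S :=
            Subtype.ext (Finset.ext fun y => (hmk _ y).trans
              (((card_stabilizer_dvd hk0 S).2 (Finset.mem_filter.mp hS).2 x hx y).symm))
          refine Sigma.ext (Subtype.ext hq) ?_
          refine (Subtype.heq_iff_coe_eq fun y => ?_).mpr rfl
          show y ∈ (mkS _).1 ↔ y ∈ S.1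
          rw [hq] }
    have hc := Nat.card_congr e
    rw [Nat.card_prod, Nat.card_sigma, Finset.sum_congr rfl (fun (S : A) _ =>
      show Nat.card {x : G // x ∈ (S : KSet G k).1} = k by
        rw [Nat.card_eq_fintype_card, Fintype.card_coe, S.1.2]), Finset.sum_const, Finset.card_univ,
      Fintype.card_coe, smul_eq_mul, hG] at hc
    refine Nat.eq_of_mul_eq_mul_right hk0 ?_
    rw [← hc]; ring
  rw [← hX, hAB, hA]
  obtain ⟨m, hm⟩ := hB
  rw [hm, Nat.ModEq, Nat.add_mul_mod_self_left]

/-- The number of subgroups of order `p ^ β` is `1` modulo `p`. -/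
theorem card_subgroups_modEq_one {p β : ℕ} (hp : p.Prime) (hdiv : p ^ β ∣ Nat.card G) :
    Nat.card {H : Subgroup G // Nat.card H = p ^ β} ≡ 1 [MOD p] := by
  classical
  obtain ⟨t, ht⟩ := hdiv
  have hn0 : 0 < Nat.card G := Nat.card_pos
  have ht0 : t ≠ 0 := fun h => by rw [h, mul_zero] at ht; omega
  have : NeZero (Nat.card G) := ⟨hn0.ne'⟩
  let C := Multiplicative (ZMod (Nat.card G))
  have hC : Nat.card C = p ^ β * t := by
    rw [Nat.card_congr Multiplicative.toAdd, Nat.card_zmod, ht]
  have : Fact p.Prime := ⟨hp⟩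
  obtain ⟨H₀, hH₀⟩ := Sylow.exists_subgroup_card_pow_prime (G := C) p (n := β) (hC ▸ dvd_mul_right _ _)
  have huniq : ∀ H : Subgroup C, Nat.card H = p ^ β → H = H₀ := by
    intro H hH
    have := Fintype.ofFinite C
    have key : ∀ K : Subgroup C, Nat.card K = p ^ β →
        (Finset.univ.filter fun x : C => x ∈ K) = Finset.univ.filter fun x : C => x ^ p ^ β = 1 := by
      intro K hK
      refine Finset.eq_of_subset_of_card_le (fun x hx => ?_) ?_
      · simp only [Finset.mem_filter, Finset.mem_univ, true_and] at hx ⊢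
        exact orderOf_dvd_iff_pow_eq_one.mp (hK ▸ Subgroup.orderOf_dvd_natCard K hx)
      · refine (IsCyclic.card_pow_eq_one_le (Nat.pow_pos hp.pos)).trans ?_
        rw [← hK, Nat.card_eq_fintype_card, Fintype.card_subtype]
    ext x
    have := congrArg (fun s : Finset C => x ∈ s) ((key H hH).trans (key H₀ hH₀).symm)
    simpa using this
  have hone : Nat.card {H : Subgroup C // Nat.card H = p ^ β} = 1 :=
    Nat.card_eq_one_iff_unique.mpr
      ⟨⟨fun a b => Subtype.ext ((huniq a.1 a.2).trans (huniq b.1 b.2).symm)⟩, ⟨⟨H₀, hH₀⟩⟩⟩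
  have h1 := choose_modEq (G := G) hp ht
  have h2 := choose_modEq (G := C) hp hC
  rw [hC, hone] at h2
  rw [ht] at h1
  exact Nat.ModEq.mul_right_cancel' ht0 (h1.symm.trans h2)

end Cfsg.Lib.Counting
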