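/-
Kulakoff's theorem: in a non-cyclic p-group (p odd) the number of subgroups of each intermediate
order is 1 + p modulo p².
-/
import Cfsg.Agent.Counting.Wielandt
import Cfsg.Agent.PGroups.CyclicIndexOdd

set_option linter.style.haveILetI false
set_option linter.unusedSectionVars false

namespace Cfsg.Lib.Kulakoff

open Subgroup Finset
open scoped commutatorElement

universe u

variable {G : Type u} [Group G] [Finite G] {p : ℕ} [hp : Fact p.Prime]

/-- The group of order `p` receiving the linear forms. -/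
abbrev Cp (p : ℕ) : Type := Multiplicative (ZMod p)

theorem card_Cp : Nat.card (Cp p) = p := by
  rw [Nat.card_congr Multiplicative.toAdd, Nat.card_zmod]

instance : Finite (Cp p) := Finite.of_equiv (ZMod p) Multiplicative.ofAdd

instance : Finite (G →* Cp p) := Finite.of_injective _ DFunLike.coe_injective

/-- The homomorphisms to the group of order `p` killing `H`. -/
def ann (p : ℕ) (H : Subgroup G) : Subgroup (G →* Cp p) where
  carrier := {f | ∀ x ∈ H, f x = 1}
  one_mem' := fun _ _ => rfl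
  mul_mem' := fun ha hb x hx => by simp [ha x hx, hb x hx]
  inv_mem' := fun ha x hx => by simp [ha x hx]

theorem mem_ann {H : Subgroup G} {f : G →* Cp p} : f ∈ ann p H ↔ H ≤ f.ker := Iff.rfl

/-- The common kernel. -/
def kerAll (W : Subgroup (G →* Cp p)) : Subgroup G where
  carrier := {x | ∀ f ∈ W, f x = 1}
  one_mem' := fun f _ => map_one f
  mul_mem' := fun ha hb f hf => by simp [ha f hf, hb f hf]
  inv_mem' := fun ha f hf => by simp [ha f hf]

theorem le_kerAll_iff {H : Subgroup G} {W : Subgroup (G →* Cp p)} :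
    H ≤ kerAll W ↔ W ≤ ann p H :=
  ⟨fun h f hf _ hx => h hx f hf, fun h _ hx f hf => h hf _ hx⟩

theorem exists_card_ann (H : Subgroup G) : ∃ d, Nat.card (ann p H) = p ^ d :=
  IsPGroup.iff_card.1 fun f => ⟨1, Subtype.ext (MonoidHom.ext fun x => by
    rw [pow_one]
    show ((f : G →* Cp p) ^ p) x = 1
    rw [MonoidHom.pow_apply]
    conv_lhs => arg 2; rw [← card_Cp (p := p)]
    exact pow_card_eq_one')⟩

theorem index_ker {f : G →* Cp p} (hf : f ≠ 1) : f.ker.index = p := by
  haveI : Fact (Nat.card (Cp p)).Prime := ⟨by rw [card_Cp]; exact hp.out⟩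
  rcases f.range.eq_bot_or_eq_top_of_prime_card with h | h
  · exact absurd (MonoidHom.range_eq_bot_iff.1 h) hf
  · rw [Subgroup.index_ker, h, Subgroup.card_top, card_Cp]

theorem hom_ext_of_index {M : Subgroup G} [M.Normal] (hM : M.index = p) {g0 : G} (hg0 : g0 ∉ M)
    {f f' : G →* Cp p} (h1 : M ≤ f.ker) (h2 : M ≤ f'.ker) (h : f g0 = f' g0) : f = f' := by
  refine MonoidHom.ext fun x => ?_
  have hc : Nat.card (G ⧸ M) = p := by rw [← Subgroup.index_eq_card, hM]
  have hne : (g0 : G ⧸ M) ≠ 1 := fun e => hg0 ((QuotientGroup.eq_one_iff _).1 e)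
  obtain ⟨i, hi⟩ := mem_zpowers_iff.1 (mem_zpowers_of_prime_card (g' := (x : G ⧸ M)) hc hne)
  have hi' : ((g0 ^ i : G) : G ⧸ M) = (x : G ⧸ M) := by rw [QuotientGroup.mk_zpow]; exact hi
  have hxy : (g0 ^ i)⁻¹ * x ∈ M := QuotientGroup.eq.1 hi'
  have e1 := MonoidHom.mem_ker.1 (h1 hxy)
  have e2 := MonoidHom.mem_ker.1 (h2 hxy)
  rw [map_mul, map_inv, inv_mul_eq_one] at e1 e2
  rw [← e1, ← e2, map_zpow, map_zpow, h]

variable (hG : IsPGroup p G)
include hG

theorem normal_index {M : Subgroup G} (hM : M.index = p) : M.Normal :=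
  Cfsg.Lib.PGroups.CyclicIndexOdd.normal_of_index hG hM

theorem exists_index_ge {H : Subgroup G} (hH : H ≠ ⊤) : ∃ M : Subgroup G, H ≤ M ∧ M.index = p := by
  obtain ⟨m, hm⟩ := IsPGroup.iff_card.1 hG
  obtain ⟨i, hi⟩ := IsPGroup.iff_card.1 (hG.to_subgroup H)
  have hlt : Nat.card H < Nat.card G :=
    lt_of_le_of_ne (card_le_card_group H) fun he => hH (eq_top_of_card_eq H he)
  rw [hi, hm] at hlt
  have him : i < m := (Nat.pow_lt_pow_iff_right hp.out.one_lt).1 hlt
  obtain ⟨M, hMc, hHM⟩ := Sylow.exists_subgroup_card_pow_prime_le p (m := m - 1)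
    (hm ▸ pow_dvd_pow p (Nat.sub_le _ _)) H hi (by omega)
  refine ⟨M, hHM, ?_⟩
  have h := M.card_mul_index
  rw [hMc, hm, show p ^ m = p ^ (m - 1) * p by rw [← pow_succ]; congr 1; omega] at h
  exact Nat.eq_of_mul_eq_mul_left (pow_pos hp.out.pos _) h

open Classical in
/-- The subgroups of index `p`. -/
noncomputable def maxs (G : Type u) [Group G] [Finite G] (p : ℕ) : Finset (Subgroup G) :=
  haveI := Fintype.ofFinite (Subgroup G)
  Finset.univ.filter fun M => M.index = p

theorem mem_maxs {M : Subgroup G} : M ∈ maxs G p ↔ M.index = p := by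
  simp [maxs]

open Classical in
/-- Index-`p` subgroups over `H`, counted by linear forms. -/
theorem card_maxs_ge_mul (H : Subgroup G) :
    #((maxs G p).filter fun M => H ≤ M) * (p - 1) + 1 = Nat.card (ann p H) := by
  haveI := Fintype.ofFinite (G →* Cp p)
  haveI := Fintype.ofFinite (Cp p)
  set A : Finset (G →* Cp p) := Finset.univ.filter fun f => f ∈ ann p H ∧ f ≠ 1 with hA
  have hfib : ∀ M ∈ (maxs G p).filter (fun M => H ≤ M), #(A.filter fun f => f.ker = M) = p - 1 := by
    intro M hM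
    rw [Finset.mem_filter, mem_maxs hG] at hM
    haveI := normal_index hG hM.1
    obtain ⟨g0, hg0⟩ : ∃ g0, g0 ∉ M := by
      by_contra hh
      push Not at hh
      rw [(eq_top_iff' _).2 hh, index_top] at hM
      exact hp.out.ne_one hM.1.symm
    have e : G ⧸ M ≃* Cp p := mulEquivOfPrimeCardEq (p := p) (by rw [← Subgroup.index_eq_card, hM.1]) card_Cp
    set f0 : G →* Cp p := e.toMonoidHom.comp (QuotientGroup.mk' M) with hf0
    have hk0 : M ≤ f0.ker := fun x hx => by simp [hf0]; exact hx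
    have hg1 : f0 g0 ≠ 1 := fun h => hg0 ((QuotientGroup.eq_one_iff g0).1 (e.injective (h.trans (map_one e).symm)))
    have hker : ∀ f : G →* Cp p, M ≤ f.ker → f g0 ≠ 1 → f.ker = M := fun f h1 h2 =>
      (eq_of_le_of_card_ge h1 (by
        have h3 : f.ker.index = M.index := by
          rw [hM.1, index_ker]
          rintro rfl; exact h2 rfl
        have e1 := f.ker.card_mul_index
        rw [← M.card_mul_index, h3] at e1
        exact (Nat.eq_of_mul_eq_mul_right (Nat.pos_of_ne_zero index_ne_zero_of_finite) e1).le)).symm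
    rw [show p - 1 = #((Finset.univ : Finset (Cp p)).erase 1) by
      rw [Finset.card_erase_of_mem (Finset.mem_univ _), Finset.card_univ, ← Nat.card_eq_fintype_card, card_Cp]]
    refine Finset.card_bij (fun f _ => f g0) (fun f hf => ?_) (fun f hf f' hf' h => ?_) (fun c hc => ?_)
    · rw [Finset.mem_filter] at hf
      exact Finset.mem_erase.2 ⟨fun h => hg0 (hf.2 ▸ h), Finset.mem_univ _⟩
    · rw [Finset.mem_filter] at hf hf'
      exact hom_ext_of_index hM.1 hg0 hf.2.ge hf'.2.ge h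
    · obtain ⟨i, hi⟩ := mem_zpowers_iff.1 (mem_zpowers_of_prime_card (g' := c) card_Cp hg1)
      have h1 : M ≤ (f0 ^ i).ker := fun x hx => by
        rw [MonoidHom.mem_ker, MonoidHom.zpow_apply, MonoidHom.mem_ker.1 (hk0 hx), one_zpow]
      have h2 : (f0 ^ i) g0 ≠ 1 := by
        rw [MonoidHom.zpow_apply, hi]
        exact (Finset.mem_erase.1 hc).1
      refine ⟨f0 ^ i, ?_, by rw [MonoidHom.zpow_apply, hi]⟩
      simp only [hA, Finset.mem_filter, Finset.mem_univ, true_and, mem_ann]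
      exact ⟨⟨hM.2.trans h1, fun h => h2 (by rw [h]; rfl)⟩, hker _ h1 h2⟩
  have hmap : ∀ f ∈ A, f.ker ∈ (maxs G p).filter (fun M => H ≤ M) := fun f hf => by
    simp only [hA, Finset.mem_filter, Finset.mem_univ, true_and, mem_ann] at hf
    exact Finset.mem_filter.2 ⟨(mem_maxs hG).2 (index_ker hf.2), hf.1⟩
  have h := Finset.card_eq_sum_card_fiberwise hmap
  rw [Finset.sum_congr rfl hfib, Finset.sum_const, smul_eq_mul] at h
  rw [← h]
  have h2 : A = (Finset.univ.filter fun f => f ∈ ann p H).erase 1 := by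
    ext f; simp [hA, and_comm]
  rw [h2, Finset.card_erase_add_one (by simp [one_mem]), Nat.card_eq_fintype_card, Fintype.card_subtype]

omit hG in
theorem pow_ge_two_zero {d : ℕ} (hd : 2 ≤ d) : ((p : ℕ) : ZMod (p ^ 2)) ^ d = 0 := by
  rw [← Nat.cast_pow, ZMod.natCast_eq_zero_iff]
  exact pow_dvd_pow p hd

omit hG in
theorem mul_cast_congr {a b : ℕ} (h : a ≡ b [MOD p]) :
    (p : ZMod (p ^ 2)) * a = (p : ZMod (p ^ 2)) * b := by
  rw [← Nat.cast_mul, ← Nat.cast_mul, ZMod.natCast_eq_natCast_iff, pow_two]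
  exact h.mul_left' p

open Classical in
/-- The subgroups of order `p²` of the space of linear forms killing `H`. -/
noncomputable def planes (p : ℕ) [Fact p.Prime] (H : Subgroup G) : Finset (Subgroup (G →* Cp p)) :=
  haveI : Finite (Subgroup (G →* Cp p)) := Finite.of_injective ((↑) : _ → Set (G →* Cp p)) SetLike.coe_injective
  haveI := Fintype.ofFinite (Subgroup (G →* Cp p))
  Finset.univ.filter fun W => Nat.card W = p ^ 2 ∧ W ≤ ann p H

omit hG in
theorem mem_planes {H : Subgroup G} {W : Subgroup (G →* Cp p)} :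
    W ∈ planes p H ↔ Nat.card W = p ^ 2 ∧ W ≤ ann p H := by
  simp [planes]

omit hG in
theorem card_planes {H : Subgroup G} {d : ℕ} (hd : Nat.card (ann p H) = p ^ d) (h2 : 2 ≤ d) :
    #(planes p H) ≡ 1 [MOD p] := by
  have h := Cfsg.Lib.Counting.card_subgroups_modEq_one (G := ann p H) (β := 2) hp.out
    (hd ▸ pow_dvd_pow p h2)
  refine (Nat.ModEq.symm ?_).trans h
  rw [← Fintype.card_coe, ← Nat.card_eq_fintype_card]
  refine Nat.ModEq.symm (Eq.subst (Nat.card_congr ?_) rfl)
  refine ⟨fun W => ⟨W.1.subgroupOf (ann p H), ?_⟩, fun W => ⟨W.1.map (ann p H).subtype, ?_⟩, ?_, ?_⟩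
  · rw [Nat.card_congr (subgroupOfEquivOfLe (mem_planes.1 W.2).2).toEquiv]
    exact (mem_planes.1 W.2).1
  · rw [mem_planes]
    exact ⟨(Subgroup.card_subtype _ _).trans W.2, map_subtype_le _⟩
  · intro W
    exact Subtype.ext (map_subgroupOf_eq_of_le (mem_planes.1 W.2).2)
  · intro W
    exact Subtype.ext (comap_map_eq_self_of_injective (ann p H).subtype_injective W.1)

open Classical in
theorem card_maxs_ge {H : Subgroup G} (hH : H ≠ ⊤) :
    (#((maxs G p).filter fun M => H ≤ M) : ZMod (p ^ 2)) = 1 + (p : ZMod (p ^ 2)) * #(planes p H) := by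
  obtain ⟨d, hd⟩ := exists_card_ann (p := p) H
  have h := card_maxs_ge_mul hG H
  rw [hd] at h
  set f := #((maxs G p).filter fun M => H ≤ M)
  have hf : f ≠ 0 := by
    obtain ⟨M, hHM, hM⟩ := exists_index_ge hG hH
    exact Finset.card_ne_zero.2 ⟨M, Finset.mem_filter.2 ⟨(mem_maxs hG).2 hM, hHM⟩⟩
  have hp1 := hp.out.two_le
  rcases Nat.lt_or_ge d 2 with hlt | h2
  · have he : planes p H = ∅ := Finset.eq_empty_of_forall_notMem fun W hW => by
      obtain ⟨hc, hle⟩ := mem_planes.1 hW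
      have h3 := card_dvd_of_le hle
      rw [hc, hd] at h3
      exact absurd ((Nat.pow_dvd_pow_iff_le_right hp.out.one_lt).1 h3) (by omega)
    rw [he, Finset.card_empty, Nat.cast_zero, mul_zero, add_zero]
    interval_cases d
    · rw [pow_zero, Nat.add_eq_right, mul_eq_zero] at h
      omega
    · have : f * (p - 1) = 1 * (p - 1) := by rw [pow_one] at h; omega
      rw [Nat.eq_of_mul_eq_mul_right (by omega) this, Nat.cast_one]
  · rw [mul_cast_congr (card_planes hd h2), Nat.cast_one, mul_one]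
    have h3 : (f : ZMod (p ^ 2)) * ((p : ZMod (p ^ 2)) - 1) + 1 = 0 := by
      rw [← pow_ge_two_zero h2, ← Nat.cast_pow, ← h, Nat.cast_add, Nat.cast_mul, Nat.cast_sub hp.out.one_le,
        Nat.cast_one]
    have h4 : (p : ZMod (p ^ 2)) ^ 2 = 0 := pow_ge_two_zero le_rfl
    linear_combination (-(1 + (p : ZMod (p ^ 2)))) * h3 + (f : ZMod (p ^ 2)) * h4

/-- Two different linear forms: the plane they span has kernel of index `p²`. -/
theorem card_kerAll {m : ℕ} (hm : Nat.card G = p ^ m) {W : Subgroup (G →* Cp p)}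
    (hW : Nat.card W = p ^ 2) : 2 ≤ m ∧ Nat.card (kerAll W) = p ^ (m - 2) := by
  have hp1 := hp.out.one_lt
  obtain ⟨f1, hf1W, hf1⟩ : ∃ f ∈ W, f ≠ 1 := by
    refine (Subgroup.nontrivial_iff_exists_ne_one W).1 (Finite.one_lt_card_iff_nontrivial.1 ?_)
    rw [hW]; exact Nat.one_lt_pow two_ne_zero hp1
  have hz : Nat.card (zpowers f1) = p := by
    rw [Nat.card_zpowers]
    refine orderOf_eq_prime (MonoidHom.ext fun x => ?_) hf1
    rw [MonoidHom.pow_apply]
    conv_lhs => arg 2; rw [← card_Cp (p := p)]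
    exact pow_card_eq_one'
  obtain ⟨f2, hf2W, hf2⟩ : ∃ f ∈ W, f ∉ zpowers f1 := by
    by_contra hh
    push Not at hh
    have := card_dvd_of_le hh
    rw [hW, hz] at this
    have := Nat.le_of_dvd hp.out.pos this
    nlinarith
  have hf2' : f2 ≠ 1 := fun e => hf2 (e ▸ one_mem _)
  haveI := normal_index hG (index_ker hf1)
  have hnle : ¬ f1.ker ≤ f2.ker := fun hle => by
    obtain ⟨g0, hg0⟩ : ∃ g0, g0 ∉ f1.ker := by
      by_contra hh
      push Not at hh
      exact hf1 (MonoidHom.ext fun x => hh x)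
    obtain ⟨i, hi⟩ := mem_zpowers_iff.1 (mem_zpowers_of_prime_card (g' := f2 g0) card_Cp
      (show f1 g0 ≠ 1 from hg0))
    refine hf2 (mem_zpowers_iff.2 ⟨i, hom_ext_of_index (index_ker hf1) hg0 ?_ hle (by rw [MonoidHom.zpow_apply, hi])⟩)
    intro x hx
    rw [MonoidHom.mem_ker, MonoidHom.zpow_apply, MonoidHom.mem_ker.1 hx, one_zpow]
  have hnle' : ¬ f2.ker ≤ f1.ker := fun hle => hnle (le_of_eq (eq_of_le_of_card_ge hle (by
    have e1 := f1.ker.card_mul_index
    rw [← f2.ker.card_mul_index, index_ker hf1, index_ker hf2'] at e1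
    exact (Nat.eq_of_mul_eq_mul_right hp.out.pos e1).le)).symm)
  obtain ⟨a, ha1, ha2⟩ := SetLike.not_le_iff_exists.1 hnle
  obtain ⟨b, hb2, hb1⟩ := SetLike.not_le_iff_exists.1 hnle'
  rw [MonoidHom.mem_ker] at ha1 ha2 hb1 hb2
  have hrange : (f1.prod f2).range = ⊤ := by
    refine (eq_top_iff' _).2 fun ⟨u, v⟩ => ?_
    obtain ⟨i, hi⟩ := mem_zpowers_iff.1 (mem_zpowers_of_prime_card (g' := u) card_Cp hb1)
    obtain ⟨j, hj⟩ := mem_zpowers_iff.1 (mem_zpowers_of_prime_card (g' := v) card_Cp ha2)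
    exact ⟨b ^ i * a ^ j, Prod.ext (by simp [ha1, hi]) (by simp [hb2, hj])⟩
  have hker : kerAll W = (f1.prod f2).ker := by
    refine le_antisymm (fun x hx => Prod.ext (hx f1 hf1W) (hx f2 hf2W)) (le_kerAll_iff.2 ?_)
    have hsub : zpowers f1 ⊔ zpowers f2 = W := by
      refine eq_of_le_of_card_ge (sup_le (zpowers_le.2 hf1W) (zpowers_le.2 hf2W)) ?_
      have hlt : p < Nat.card ↥(zpowers f1 ⊔ zpowers f2) := by
        have hle : zpowers f1 ≤ zpowers f1 ⊔ zpowers f2 := le_sup_left
        refine hz.symm.trans_lt ?_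
        refine lt_of_le_of_ne (Nat.le_of_dvd Nat.card_pos (card_dvd_of_le hle)) fun e => hf2 ?_
        rw [eq_of_le_of_card_ge hle e.ge]
        exact mem_sup_right (mem_zpowers f2)
      have hdvd : Nat.card ↥(zpowers f1 ⊔ zpowers f2) ∣ p ^ 2 :=
        hW ▸ card_dvd_of_le (sup_le (zpowers_le.2 hf1W) (zpowers_le.2 hf2W))
      obtain ⟨i, hi, hie⟩ := (Nat.dvd_prime_pow hp.out).1 hdvd
      rw [hie] at hlt ⊢
      rw [hW]
      refine Nat.pow_le_pow_right hp.out.pos ?_
      by_contra hc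
      have : p ^ i ≤ p ^ 1 := Nat.pow_le_pow_right hp.out.pos (by omega)
      rw [pow_one] at this
      omega
    rw [← hsub, sup_le_iff, zpowers_le, zpowers_le]
    exact ⟨fun x hx => (Prod.ext_iff.1 hx).1, fun x hx => (Prod.ext_iff.1 hx).2⟩
  have h := (f1.prod f2).ker.card_mul_index
  rw [Subgroup.index_ker, hrange, Subgroup.card_top, Nat.card_prod, card_Cp, ← hker, hm] at h
  have h2m : 2 ≤ m := by
    refine (Nat.pow_dvd_pow_iff_le_right hp1).1 ?_
    rw [← h, pow_two]
    exact Dvd.intro_left _ rfl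
  refine ⟨h2m, Nat.eq_of_mul_eq_mul_right (Nat.mul_pos hp.out.pos hp.out.pos) ?_⟩
  rw [h, ← pow_two, ← pow_add]
  congr 1
  omega

theorem two_le_ann_bot (hnc : ¬ IsCyclic G) :
    ∃ d, 2 ≤ d ∧ Nat.card (ann p (⊥ : Subgroup G)) = p ^ d := by
  classical
  obtain ⟨d, hd⟩ := exists_card_ann (p := p) (⊥ : Subgroup G)
  refine ⟨d, ?_, hd⟩
  by_contra hlt
  have h := card_maxs_ge_mul hG (⊥ : Subgroup G)
  rw [hd] at h
  have hp1 := hp.out.two_le
  have hone : #((maxs G p).filter fun M => (⊥ : Subgroup G) ≤ M) ≤ 1 := by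
    have h1 : p ^ d ≤ p ^ 1 := Nat.pow_le_pow_right hp.out.pos (by omega)
    rw [pow_one] at h1
    by_contra hh
    have : 2 * (p - 1) ≤ #((maxs G p).filter fun M => (⊥ : Subgroup G) ≤ M) * (p - 1) :=
      Nat.mul_le_mul_right _ (by omega)
    omega
  rw [Finset.card_le_one] at hone
  refine hnc ?_
  have hne : (⊥ : Subgroup G) ≠ ⊤ := fun e => hnc (by
    haveI : Subsingleton G := (Subgroup.subsingleton_iff (G := G)).1 (subsingleton_of_bot_eq_top e)
    infer_instance)
  obtain ⟨M, -, hM⟩ := exists_index_ge hG hne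
  obtain ⟨g, hg⟩ : ∃ g, g ∉ M := by
    by_contra hh
    push Not at hh
    rw [(eq_top_iff' _).2 hh, index_top] at hM
    exact hp.out.ne_one hM.symm
  refine ⟨g, fun x => ?_⟩
  suffices h2 : zpowers g = ⊤ from mem_zpowers_iff.1 (h2 ▸ mem_top x)
  by_contra hne'
  obtain ⟨M', hgM, hM'⟩ := exists_index_ge hG hne'
  have := hone M (Finset.mem_filter.2 ⟨(mem_maxs hG).2 hM, bot_le⟩) M'
    (Finset.mem_filter.2 ⟨(mem_maxs hG).2 hM', bot_le⟩)
  exact hg (this ▸ hgM (mem_zpowers g))

omit hG in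
open Classical in
/-- The subgroups of order `p ^ k`. -/
noncomputable def subs (G : Type u) [Group G] [Finite G] (p k : ℕ) : Finset (Subgroup G) :=
  haveI := Fintype.ofFinite (Subgroup G)
  Finset.univ.filter fun H => Nat.card H = p ^ k

omit hG in
theorem mem_subs {k : ℕ} {H : Subgroup G} : H ∈ subs G p k ↔ Nat.card H = p ^ k := by
  simp [subs]

omit hG in
theorem card_subs (k : ℕ) : #(subs G p k) = Nat.card {H : Subgroup G // Nat.card H = p ^ k} := by
  rw [← Fintype.card_coe, ← Nat.card_eq_fintype_card]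
  exact Nat.card_congr (Equiv.subtypeEquivRight fun H => mem_subs)

omit hG in
open Classical in
theorem card_subs_le (k : ℕ) (M : Subgroup G) :
    #((subs G p k).filter fun H => H ≤ M) = #(subs M p k) := by
  refine Finset.card_bij (fun H _ => H.subgroupOf M) (fun H hH => ?_) (fun H hH H' hH' h => ?_)
    (fun K hK => ⟨K.map M.subtype, ?_, ?_⟩)
  · rw [Finset.mem_filter, mem_subs] at hH
    rw [mem_subs, Nat.card_congr (subgroupOfEquivOfLe hH.2).toEquiv]
    exact hH.1
  · rw [Finset.mem_filter] at hH hH'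
    rw [← map_subgroupOf_eq_of_le hH.2, ← map_subgroupOf_eq_of_le hH'.2, h]
  · rw [Finset.mem_filter, mem_subs]
    exact ⟨(Subgroup.card_subtype _ _).trans (mem_subs.1 hK), map_subtype_le _⟩
  · exact comap_map_eq_self_of_injective M.subtype_injective K

open Classical in
theorem subs_max {m : ℕ} (hm : Nat.card G = p ^ (m + 1)) : subs G p m = maxs G p := by
  ext H
  rw [mem_subs, mem_maxs hG]
  have h := H.card_mul_index
  rw [hm, pow_succ] at h
  constructor <;> intro h1
  · rw [h1] at h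
    exact Nat.eq_of_mul_eq_mul_left (pow_pos hp.out.pos _) h
  · rw [h1] at h
    exact Nat.eq_of_mul_eq_mul_right hp.out.pos h

open Classical in
theorem card_maxs (hnc : ¬ IsCyclic G) : (#(maxs G p) : ZMod (p ^ 2)) = 1 + p := by
  obtain ⟨d, hd2, hd⟩ := two_le_ann_bot hG hnc
  have hne : (⊥ : Subgroup G) ≠ ⊤ := fun e => hnc (by
    haveI : Subsingleton G := (Subgroup.subsingleton_iff (G := G)).1 (subsingleton_of_bot_eq_top e)
    infer_instance)
  have h := card_maxs_ge hG hne
  rw [mul_cast_congr (card_planes hd hd2), Nat.cast_one, mul_one,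
    Finset.filter_true_of_mem (fun _ _ => bot_le)] at h
  exact h

open Classical in
/-- Hall's enumeration principle, one step. -/
theorem step {m k : ℕ} (hm : Nat.card G = p ^ m) (hnc : ¬ IsCyclic G) (hk : k + 2 ≤ m) :
    (#(subs G p k) : ZMod (p ^ 2)) + p = ∑ M ∈ maxs G p, (#(subs M p k) : ZMod (p ^ 2)) := by
  obtain ⟨d, hd2, hd⟩ := two_le_ann_bot hG hnc
  have hp1 := hp.out.one_lt
  have e1 := Finset.sum_card_bipartiteAbove_eq_sum_card_bipartiteBelow
    (fun (M : Subgroup G) (H : Subgroup G) => H ≤ M) (s := maxs G p) (t := subs G p k)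
  simp only [Finset.bipartiteAbove, Finset.bipartiteBelow] at e1
  have e2 := Finset.sum_card_bipartiteAbove_eq_sum_card_bipartiteBelow
    (fun (W : Subgroup (G →* Cp p)) (H : Subgroup G) => H ≤ kerAll W) (s := planes p (⊥ : Subgroup G))
    (t := subs G p k)
  simp only [Finset.bipartiteAbove, Finset.bipartiteBelow] at e2
  have h1 : ∑ M ∈ maxs G p, #(subs M p k) = ∑ H ∈ subs G p k, #((maxs G p).filter fun M => H ≤ M) := by
    rw [← e1]; exact Finset.sum_congr rfl fun M _ => (card_subs_le k M).symm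
  have h2 : ∀ H : Subgroup G, (planes p (⊥ : Subgroup G)).filter (fun W => H ≤ kerAll W) = planes p H := by
    intro H
    ext W
    simp only [Finset.mem_filter, mem_planes, le_kerAll_iff]
    exact ⟨fun h => ⟨h.1.1, h.2⟩, fun h => ⟨⟨h.1, fun f _ x hx => by rw [mem_bot] at hx; simp [hx]⟩, h.2⟩⟩
  have h3 : ∑ H ∈ subs G p k, #(planes p H) ≡ 1 [MOD p] := by
    rw [← Finset.sum_congr rfl fun H _ => congrArg Finset.card (h2 H), ← e2]
    have hW : ∀ W ∈ planes p (⊥ : Subgroup G), #((subs G p k).filter fun H => H ≤ kerAll W) ≡ 1 [MOD p] := by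
      intro W hW
      rw [card_subs_le, card_subs]
      refine Cfsg.Lib.Counting.card_subgroups_modEq_one hp.out ?_
      rw [(card_kerAll hG hm (mem_planes.1 hW).1).2]
      exact pow_dvd_pow p (by omega)
    refine (Nat.ModEq.sum hW).trans ?_
    rw [Finset.sum_const, smul_eq_mul, mul_one]
    exact card_planes hd hd2
  rw [← Nat.cast_sum, h1, Nat.cast_sum, Finset.sum_congr rfl fun H hH => card_maxs_ge hG (H := H) ?_,
    Finset.sum_add_distrib, Finset.sum_const, nsmul_one, ← Finset.mul_sum, ← Nat.cast_sum,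
    mul_cast_congr h3, Nat.cast_one, mul_one]
  intro e
  rw [mem_subs, e, Subgroup.card_top, hm] at hH
  have := (Nat.pow_right_injective hp.out.two_le) hH
  omega

open Classical in
/-- If the `p ^ n`-th power map of a non-cyclic group of order `p ^ (n + 2)` is multiplicative,
the number of cyclic maximal subgroups is divisible by `p`. -/
theorem dvd_card_cyclic_maxs_of_hom {n : ℕ} (hm : Nat.card G = p ^ (n + 2)) (hn : 1 ≤ n)
    (hnc : ¬ IsCyclic G)
    (hmul : ∀ x y : G, (x * y) ^ p ^ n = x ^ p ^ n * y ^ p ^ n) : p ∣ #((maxs G p).filter fun M : Subgroup G => IsCyclic M) := by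
  rcases ((maxs G p).filter fun M : Subgroup G => IsCyclic M).eq_empty_or_nonempty with h0 | ⟨C, hCmem⟩
  · simp [h0]
  rw [Finset.mem_filter, mem_maxs hG] at hCmem
  obtain ⟨hCi, hC⟩ := hCmem
  haveI := Fintype.ofFinite G
  haveI := normal_index hG hCi
  have hCc : Nat.card C = p ^ (n + 1) := by
    have h := C.card_mul_index
    rw [hCi, hm, pow_succ] at h
    exact Nat.eq_of_mul_eq_mul_right hp.out.pos h
  have hexp : ∀ x : G, x ^ p ^ (n + 1) = 1 := fun x => by
    obtain ⟨i, hi, hie⟩ := (Nat.dvd_prime_pow hp.out).1 (hm ▸ orderOf_dvd_natCard x)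
    refine orderOf_dvd_iff_pow_eq_one.1 (hie ▸ pow_dvd_pow p ?_)
    by_contra hh
    exact hnc (isCyclic_of_orderOf_eq_card x (by rw [hie, hm]; congr 1; omega))
  have hpC : ∀ x : G, x ^ p ∈ C := fun x => hCi ▸ Subgroup.pow_index_mem C x
  obtain ⟨c, hcgen⟩ := (Subgroup.isCyclic_iff_exists_zpowers_eq_top C).1 hC
  have hoc : orderOf c = p ^ (n + 1) := by rw [← Nat.card_zpowers, hcgen, hCc]
  have hzc : c ^ p ^ n ≠ 1 := fun h => by
    have h1 := Nat.le_of_dvd (pow_pos hp.out.pos _) (orderOf_dvd_iff_pow_eq_one.2 h)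
    rw [hoc] at h1
    exact absurd ((Nat.pow_le_pow_iff_right hp.out.one_lt).1 h1) (by omega)
  -- the image of `x ↦ x ^ p ^ n` lies in the subgroup of order `p` of `C`
  have himg : ∀ x : G, x ^ p ^ n ∈ zpowers (c ^ p ^ n) := fun x => by
    have h1 : x ^ p ^ n ∈ C := by
      rw [show n = n - 1 + 1 by omega, pow_succ', pow_mul]
      exact pow_mem (hpC x) _
    rw [← hcgen] at h1
    obtain ⟨i, hi⟩ := mem_zpowers_iff.1 h1
    have h2 : c ^ (i * p) = 1 := by
      rw [zpow_mul, hi, zpow_natCast, ← pow_mul, ← pow_succ, hexp]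
    rw [← orderOf_dvd_iff_zpow_eq_one, hoc] at h2
    obtain ⟨j, hj⟩ : ((p ^ n : ℕ) : ℤ) ∣ i := by
      have hp0 : (p : ℤ) ≠ 0 := by exact_mod_cast hp.out.ne_zero
      rw [pow_succ, Nat.cast_mul] at h2
      exact Int.dvd_of_mul_dvd_mul_right hp0 h2
    refine mem_zpowers_iff.2 ⟨j, ?_⟩
    rw [← hi, hj, zpow_mul, zpow_natCast]
  have hzord : Nat.card (zpowers (c ^ p ^ n)) = p := by
    rw [Nat.card_zpowers]
    refine orderOf_eq_prime ?_ hzc
    rw [← pow_mul, ← pow_succ, hexp]
  let f : G →* G :=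
    { toFun := fun x => x ^ p ^ n
      map_one' := one_pow _
      map_mul' := hmul }
  have hfker : Nat.card f.ker = p ^ (n + 1) := by
    have hr : f.range = zpowers (c ^ p ^ n) := by
      refine le_antisymm ?_ (zpowers_le.2 ⟨c, rfl⟩)
      rintro _ ⟨x, rfl⟩
      exact himg x
    have h := f.ker.card_mul_index
    rw [Subgroup.index_ker, hr, hzord, hm, pow_succ] at h
    exact Nat.eq_of_mul_eq_mul_right hp.out.pos h
  set S : Finset G := Finset.univ.filter fun x => x ∉ f.ker
  have hS : #S = p ^ (n + 2) - p ^ (n + 1) := by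
    rw [← hm, ← hfker, Nat.card_eq_fintype_card, Nat.card_eq_fintype_card, Fintype.card_subtype]
    simp only [S]
    rw [← Finset.compl_filter, Finset.card_compl]
  have hord : ∀ x : G, x ∈ S ↔ orderOf x = p ^ (n + 1) := fun x => by
    simp only [S, Finset.mem_filter, Finset.mem_univ, true_and]
    constructor
    · intro hx
      exact orderOf_eq_prime_pow hx (hexp x)
    · intro hx hk
      have h1 := Nat.le_of_dvd (pow_pos hp.out.pos _) (orderOf_dvd_iff_pow_eq_one.2 (show x ^ p ^ n = 1 from hk))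
      rw [hx] at h1
      exact absurd ((Nat.pow_le_pow_iff_right hp.out.one_lt).1 h1) (by omega)
  have hmap : ∀ x ∈ S, zpowers x ∈ (maxs G p).filter (fun M : Subgroup G => IsCyclic M) := fun x hx => by
    have h := (zpowers x).card_mul_index
    rw [Nat.card_zpowers, (hord x).1 hx, hm, pow_succ p (n + 1)] at h
    exact Finset.mem_filter.2
      ⟨(mem_maxs hG).2 (Nat.eq_of_mul_eq_mul_left (pow_pos hp.out.pos _) h), inferInstance⟩
  have hfib : ∀ M ∈ (maxs G p).filter (fun M : Subgroup G => IsCyclic M),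
      #(S.filter fun x => zpowers x = M) = p ^ n * (p - 1) := by
    intro M hM
    rw [Finset.mem_filter, mem_maxs hG] at hM
    haveI := hM.2
    have hMc : Nat.card M = p ^ (n + 1) := by
      have h := M.card_mul_index
      rw [hM.1, hm, pow_succ] at h
      exact Nat.eq_of_mul_eq_mul_right hp.out.pos h
    rw [← Nat.totient_prime_pow_succ hp.out n, ← IsCyclic.card_orderOf_eq_totient (α := M)
      (d := p ^ (n + 1)) (by rw [← Nat.card_eq_fintype_card, hMc])]
    refine Finset.card_bij (fun x hx => (⟨x, (Finset.mem_filter.1 hx).2 ▸ mem_zpowers x⟩ : M))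
      (fun x hx => ?_) (fun x _ y _ h => congrArg Subtype.val h) (fun y hy => ⟨y, ?_, rfl⟩)
    · exact Finset.mem_filter.2 ⟨Finset.mem_univ _,
        (Subgroup.orderOf_mk x _).trans ((hord x).1 (Finset.mem_filter.1 hx).1)⟩
    · have hy' : orderOf (y : G) = p ^ (n + 1) := by
        rw [Subgroup.orderOf_coe]; exact (Finset.mem_filter.1 hy).2
      refine Finset.mem_filter.2 ⟨(hord _).2 hy', eq_of_le_of_card_ge (zpowers_le.2 y.2) ?_⟩
      rw [Nat.card_zpowers, hy', hMc]
  have h := Finset.card_eq_sum_card_fiberwise hmap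
  rw [Finset.sum_congr rfl hfib, Finset.sum_const, smul_eq_mul, hS] at h
  have h5 : p ^ (n + 2) - p ^ (n + 1) = p * (p ^ n * (p - 1)) := by
    rw [Nat.mul_sub, mul_one, Nat.mul_sub, pow_succ p (n + 1), pow_succ p n]
    congr 1 <;> ring
  rw [h5] at h
  exact ⟨1, by rw [mul_one]; exact (Nat.eq_of_mul_eq_mul_right
    (Nat.mul_pos (pow_pos hp.out.pos _) (by have := hp.out.two_le; omega)) h).symm⟩

open Classical in
/-- A non-cyclic group of order `p ^ (n + 2)` (`p` odd) with a cyclic maximal subgroup has a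
number of them divisible by `p`. -/
theorem dvd_card_cyclic_maxs (hp2 : p ≠ 2) {n : ℕ} (hm : Nat.card G = p ^ (n + 2)) (hn : 1 ≤ n)
    (hnc : ¬ IsCyclic G) : p ∣ #((maxs G p).filter fun M : Subgroup G => IsCyclic M) := by
  rcases ((maxs G p).filter fun M : Subgroup G => IsCyclic M).eq_empty_or_nonempty with h0 | ⟨C, hCmem⟩
  · simp [h0]
  rw [Finset.mem_filter, mem_maxs hG] at hCmem
  obtain ⟨hCi, hC⟩ := hCmem
  haveI := Fintype.ofFinite G
  haveI := normal_index hG hCi
  have hc2 := Cfsg.Lib.PGroups.CyclicIndexOdd.class_two hp2 hG C hC hCi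
  have hCc : Nat.card C = p ^ (n + 1) := by
    have h := C.card_mul_index
    rw [hCi, hm, pow_succ] at h
    exact Nat.eq_of_mul_eq_mul_right hp.out.pos h
  have hexp : ∀ x : G, x ^ p ^ (n + 1) = 1 := fun x => by
    obtain ⟨i, hi, hie⟩ := (Nat.dvd_prime_pow hp.out).1 (hm ▸ orderOf_dvd_natCard x)
    refine orderOf_dvd_iff_pow_eq_one.1 (hie ▸ pow_dvd_pow p ?_)
    by_contra hh
    exact hnc (isCyclic_of_orderOf_eq_card x (by rw [hie, hm]; congr 1; omega))
  have hpC : ∀ x : G, x ^ p ∈ C := fun x => hCi ▸ Subgroup.pow_index_mem C x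
  obtain ⟨c, hcgen⟩ := (Subgroup.isCyclic_iff_exists_zpowers_eq_top C).1 hC
  have hoc : orderOf c = p ^ (n + 1) := by rw [← Nat.card_zpowers, hcgen, hCc]
  have hzc : c ^ p ^ n ≠ 1 := fun h => by
    have h1 := Nat.le_of_dvd (pow_pos hp.out.pos _) (orderOf_dvd_iff_pow_eq_one.2 h)
    rw [hoc] at h1
    exact absurd ((Nat.pow_le_pow_iff_right hp.out.one_lt).1 h1) (by omega)
  -- the image of `x ↦ x ^ p ^ n` lies in the subgroup of order `p` of `C`
  have himg : ∀ x : G, x ^ p ^ n ∈ zpowers (c ^ p ^ n) := fun x => by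
    have h1 : x ^ p ^ n ∈ C := by
      rw [show n = n - 1 + 1 by omega, pow_succ', pow_mul]
      exact pow_mem (hpC x) _
    rw [← hcgen] at h1
    obtain ⟨i, hi⟩ := mem_zpowers_iff.1 h1
    have h2 : c ^ (i * p) = 1 := by
      rw [zpow_mul, hi, zpow_natCast, ← pow_mul, ← pow_succ, hexp]
    rw [← orderOf_dvd_iff_zpow_eq_one, hoc] at h2
    obtain ⟨j, hj⟩ : ((p ^ n : ℕ) : ℤ) ∣ i := by
      have hp0 : (p : ℤ) ≠ 0 := by exact_mod_cast hp.out.ne_zero
      rw [pow_succ, Nat.cast_mul] at h2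
      exact Int.dvd_of_mul_dvd_mul_right hp0 h2
    refine mem_zpowers_iff.2 ⟨j, ?_⟩
    rw [← hi, hj, zpow_mul, zpow_natCast]
  have hzord : Nat.card (zpowers (c ^ p ^ n)) = p := by
    rw [Nat.card_zpowers]
    refine orderOf_eq_prime ?_ hzc
    rw [← pow_mul, ← pow_succ, hexp]
  have hzcen : c ^ p ^ n ∈ center G := by
    haveI : (zpowers (c ^ p ^ n)).Normal := ⟨fun z hz g => by
      obtain ⟨i, rfl⟩ := mem_zpowers_iff.1 hz
      have h3 : c ^ p ^ n ∈ zpowers (c ^ p ^ n) := mem_zpowers _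
      have h4 := himg (g * c * g⁻¹)
      rw [conj_pow] at h4
      rw [← conj_zpow]
      exact zpow_mem h4 i⟩
    haveI : Nontrivial ↥(zpowers (c ^ p ^ n)) :=
      (Finite.one_lt_card_iff_nontrivial).1 (by rw [hzord]; exact hp.out.one_lt)
    have hh := Cfsg.Lib.PGroups.le_center_of_card_eq_prime (p := p) hG hzord
    exact hh (mem_zpowers _)
  have hcomm : ∀ x y : G, ⁅y, x⁆ ∈ center G := fun x y =>
    Cfsg.Lib.PGroups.commutator_mem_center_of_class_two hc2 y x
  refine dvd_card_cyclic_maxs_of_hom hG hm hn hnc fun x y => ?_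
  rw [Cfsg.Lib.PGroups.mul_pow_of_central (hcomm x y)]
  have hx : x ^ p ^ n ∈ center G := by
    obtain ⟨i, hi⟩ := mem_zpowers_iff.1 (himg x)
    rw [← hi]; exact zpow_mem hzcen i
  have hy : ⁅y, x⁆ ^ p ^ n = 1 := by
    rw [← Cfsg.Lib.PGroups.commutator_pow_right_of_commute
      ((mem_center_iff.1 (hcomm x y) x).symm) (p ^ n), commutatorElement_eq_one_iff_mul_comm]
    exact mem_center_iff.1 hx y
  obtain ⟨l, hl⟩ : p ^ n ∣ (p ^ n).choose 2 := by
    rw [Nat.choose_two_right]
    refine ⟨(p ^ n - 1) / 2, ?_⟩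
    have ho : Odd (p ^ n) := (hp.out.odd_of_ne_two hp2).pow
    obtain ⟨r, hr⟩ := ho
    rw [Nat.mul_div_assoc _ (by rw [hr]; exact ⟨r, by omega⟩)]
  rw [hl, pow_mul, hy, one_pow, mul_one]

omit hG in
open Classical in
theorem card_subs_cyclic [IsCyclic G] {m k : ℕ} (hm : Nat.card G = p ^ m) (hk : k ≤ m) :
    #(subs G p k) = 1 := by
  rw [Finset.card_eq_one]
  obtain ⟨H, hH⟩ := Sylow.exists_subgroup_card_pow_prime (G := G) p (n := k) (hm ▸ pow_dvd_pow p hk)
  refine ⟨H, Finset.eq_singleton_iff_unique_mem.2 ⟨mem_subs.2 hH, fun K hK => ?_⟩⟩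
  haveI := Fintype.ofFinite G
  have key : ∀ L : Subgroup G, Nat.card L = p ^ k →
      (Finset.univ.filter fun x : G => x ∈ L) = Finset.univ.filter fun x : G => x ^ p ^ k = 1 := by
    intro L hL
    refine Finset.eq_of_subset_of_card_le (fun x hx => ?_) ?_
    · simp only [Finset.mem_filter, Finset.mem_univ, true_and] at hx ⊢
      exact orderOf_dvd_iff_pow_eq_one.mp (hL ▸ Subgroup.orderOf_dvd_natCard L hx)
    · refine (IsCyclic.card_pow_eq_one_le (Nat.pow_pos hp.out.pos)).trans ?_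
      rw [← hL, Nat.card_eq_fintype_card, Fintype.card_subtype]
  ext x
  simpa using congrArg (fun t : Finset G => x ∈ t) ((key K (mem_subs.1 hK)).trans (key H hH).symm)

end Cfsg.Lib.Kulakoff
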