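/-
Kulakoff's theorem for arbitrary finite groups.
-/
import Cfsg.Agent.Counting.Kulakoff
import Cfsg.Agent.Transfer.Basic

set_option linter.style.haveILetI false
set_option linter.unusedSectionVars false

namespace Cfsg.Lib.Kulakoff

open Subgroup Finset

universe u

variable {p : ℕ} [hp : Fact p.Prime]

open Classical in
theorem pgroup_odd (hp2 : p ≠ 2) : ∀ (m : ℕ) (G : Type u) [Group G] [Finite G],
    Nat.card G = p ^ m → ¬ IsCyclic G → ∀ k, 1 ≤ k → k < m →
      (#(subs G p k) : ZMod (p ^ 2)) = 1 + p := by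
  intro m
  induction m with
  | zero => intro G _ _ _ _ k hk1 hk2; omega
  | succ m ih =>
    intro G _ _ hm hnc k hk1 hk2
    have hG : IsPGroup p G := IsPGroup.of_card hm
    rcases Nat.lt_or_ge k m with hlt | hge
    swap
    · obtain rfl : k = m := by omega
      rw [subs_max hG hm]
      exact card_maxs hG hnc
    have h := step hG hm hnc (k := k) (by omega)
    have hM : ∀ M ∈ maxs G p, Nat.card M = p ^ m := fun M hM => by
      have h := M.card_mul_index
      rw [(mem_maxs hG).1 hM, hm, pow_succ] at h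
      exact Nat.eq_of_mul_eq_mul_right hp.out.pos h
    have hsum : ∀ M ∈ maxs G p, (#(subs M p k) : ZMod (p ^ 2)) =
        1 + p - (if IsCyclic M then (p : ZMod (p ^ 2)) else 0) := by
      intro M hMm
      split_ifs with hc
      · rw [card_subs_cyclic (hM M hMm) hlt.le, Nat.cast_one, add_sub_cancel_right]
      · rw [sub_zero]
        exact ih M (hM M hMm) hc k hk1 hlt
    obtain ⟨n, rfl⟩ : ∃ n, m = n + 1 := ⟨m - 1, by omega⟩
    obtain ⟨l, hl⟩ := dvd_card_cyclic_maxs hG hp2 hm (by omega) hnc
    rw [Finset.sum_congr rfl hsum, Finset.sum_sub_distrib, Finset.sum_const, nsmul_eq_mul,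
      card_maxs hG hnc, ← Finset.sum_filter, Finset.sum_const, nsmul_eq_mul, hl, Nat.cast_mul] at h
    have h4 : (p : ZMod (p ^ 2)) ^ 2 = 0 := by
      rw [← Nat.cast_pow, ZMod.natCast_self]
    linear_combination h + (1 - (l : ZMod (p ^ 2))) * h4

variable {G : Type u} [Group G] [Finite G]

/-- An invariant function whose value times each orbit length is divisible by `q`. -/
theorem dvd_sum_of_orbits {A Y : Type*} [Group A] [MulAction A Y] [Fintype Y] {q : ℕ} (f : Y → ℕ)
    (hinv : ∀ (a : A) y, f (a • y) = f y)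
    (h : ∀ y, f y ≠ 0 → q ∣ Nat.card (MulAction.orbit A y) * f y) : q ∣ ∑ y, f y := by
  classical
  haveI : Fintype (MulAction.orbitRel.Quotient A Y) := Fintype.ofFinite _
  rw [← Finset.sum_fiberwise Finset.univ (fun y => (Quotient.mk'' y : MulAction.orbitRel.Quotient A Y)) f]
  refine Finset.dvd_sum fun ω _ => ?_
  induction ω using Quotient.inductionOn' with
  | h y =>
  have hval : ∀ z ∈ Finset.univ.filter (fun z : Y => (Quotient.mk'' z : MulAction.orbitRel.Quotient A Y) = Quotient.mk'' y),
      f z = f y := fun z hz => by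
    obtain ⟨a, rfl⟩ := MulAction.orbitRel_apply.1 (Quotient.eq''.1 (Finset.mem_filter.1 hz).2)
    exact hinv a y
  rw [Finset.sum_congr rfl hval, Finset.sum_const, smul_eq_mul]
  by_cases h0 : f y = 0
  · simp [h0]
  refine (h y h0).trans (dvd_of_eq ?_)
  rw [Nat.card_eq_fintype_card, Fintype.card_of_subtype]
  intro z
  simp only [Finset.mem_filter, Finset.mem_univ, true_and, Quotient.eq'']
  exact MulAction.orbitRel_apply

theorem orbit_cases {A Y : Type*} [Group A] [Finite A] [MulAction A Y] (hA : IsPGroup p A) (y : Y) :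
    (∀ a : A, a • y = y) ∨ p ∣ Nat.card (MulAction.orbit A y) := by
  obtain ⟨n, hn⟩ := hA.index (MulAction.stabilizer A y)
  rw [MulAction.index_stabilizer] at hn
  rcases n with _ | n
  · left
    intro a
    have h1 : (MulAction.stabilizer A y).index = 1 := by rw [MulAction.index_stabilizer, hn, pow_zero]
    exact MulAction.mem_stabilizer_iff.1 ((index_eq_one.1 h1).symm ▸ mem_top a)
  · right
    rw [Nat.card_coe_set_eq, hn]
    exact dvd_pow_self p n.succ_ne_zero

/-- The conjugation action of a subgroup on subgroups. -/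
@[reducible] def conjAction (P : Subgroup G) : MulAction P (Subgroup G) where
  smul u H := H.map (MulAut.conj (u : G)).toMonoidHom
  one_smul H := by
    show H.map (MulAut.conj ((1 : P) : G)).toMonoidHom = H
    rw [OneMemClass.coe_one, map_one]
    exact H.map_id
  mul_smul a b H := by
    show H.map (MulAut.conj ((a * b : P) : G)).toMonoidHom = (H.map _).map _
    rw [Subgroup.map_map, Subgroup.coe_mul, map_mul]
    rfl

theorem conjAction_smul (P : Subgroup G) (u : P) (H : Subgroup G) :
    letI := conjAction P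
    u • H = H.map (MulAut.conj (u : G)).toMonoidHom := rfl

theorem card_conj (g : G) (H : Subgroup G) :
    Nat.card (H.map (MulAut.conj g).toMonoidHom) = Nat.card H :=
  card_map_of_injective (MulAut.conj g).injective

theorem mem_normalizer_of_fix {g : G} {H : Subgroup G} (h : H.map (MulAut.conj g).toMonoidHom = H) :
    g ∈ normalizer (H : Set G) := mem_normalizer_iff.2 fun x => by
  conv_rhs => rw [← h]
  refine ⟨fun hx => ⟨x, hx, by simp⟩, ?_⟩
  rintro ⟨y, hy, hyx⟩
  simp only [MulEquiv.coe_toMonoidHom, MulAut.conj_apply, mul_left_inj, mul_right_inj] at hyx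
  exact hyx ▸ hy

theorem le_map_conj_iff {g : G} {H Q : Subgroup G} (hQ : Q.map (MulAut.conj g).toMonoidHom = Q) :
    H.map (MulAut.conj g).toMonoidHom ≤ Q ↔ H ≤ Q := by
  conv_lhs => rw [← hQ]
  exact map_le_map_iff_of_injective (MulAut.conj g).injective

theorem map_conj_self {P : Subgroup G} {g : G} (hg : g ∈ normalizer (P : Set G)) :
    P.map (MulAut.conj g).toMonoidHom = P := by
  refine eq_of_le_of_card_ge ?_ (card_conj g P).ge
  rintro _ ⟨x, hx, rfl⟩
  exact (mem_normalizer_iff.1 hg x).1 hx

/-- Fixed subgroups of order `p ^ a` inside a `p`-subgroup number one modulo `p`. -/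
theorem fixed_modEq_one {M Q : Subgroup G} (hM : IsPGroup p M) (hMQ : M ≤ normalizer (Q : Set G)) {a : ℕ}
    (ha : p ^ a ∣ Nat.card Q) :
    Nat.card {H : Subgroup G // (Nat.card H = p ^ a ∧ H ≤ Q) ∧ M ≤ normalizer (H : Set G)} ≡ 1 [MOD p] := by
  classical
  haveI := Fintype.ofFinite (Subgroup G)
  letI := conjAction M
  have hdvd : p ∣ ∑ H : Subgroup G,
      if (Nat.card H = p ^ a ∧ H ≤ Q) ∧ ¬ M ≤ normalizer (H : Set G) then 1 else 0 := by
    refine dvd_sum_of_orbits (A := M) _ (fun u H => ?_) (fun H hH => ?_)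
    · have e1 : (u • H : Subgroup G) = H.map (MulAut.conj (u : G)).toMonoidHom := rfl
      have hn : M ≤ normalizer ((u • H : Subgroup G) : Set G) ↔ M ≤ normalizer (H : Set G) := by
        constructor <;> intro hle
        · intro x hx
          have h2 : H = ((u⁻¹ : M) • (u • H : Subgroup G)) := (inv_smul_smul u H).symm
          have h3 : (u : G) * x * (u : G)⁻¹ ∈ M := mul_mem (mul_mem u.2 hx) (inv_mem u.2)
          refine mem_normalizer_of_fix ?_
          have h4 := map_conj_self (hle h3)
          rw [e1, Subgroup.map_map] at h4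
          refine Subgroup.map_injective (f := (MulAut.conj (u : G)).toMonoidHom) (MulAut.conj (u : G)).injective ?_
          rw [Subgroup.map_map]
          convert h4 using 2
          ext z
          simp [mul_assoc]
        · rw [e1, map_conj_self (hle u.2)]
          exact hle
      simp only [e1, card_conj, le_map_conj_iff (map_conj_self (hMQ u.2))]
      rw [e1] at hn
      simp only [hn]
    · rw [if_pos (by by_contra hh; exact hH (if_neg hh)), mul_one]
      rcases orbit_cases hM H with hfix | h
      · exfalso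
        refine hH (if_neg fun hh => hh.2 fun x hx => mem_normalizer_of_fix ?_)
        exact hfix ⟨x, hx⟩
      · exact h
  have hall : Nat.card {H : Subgroup G // Nat.card H = p ^ a ∧ H ≤ Q} ≡ 1 [MOD p] := by
    have h1 := Cfsg.Lib.Counting.card_subgroups_modEq_one (G := Q) hp.out ha
    rw [← card_subs, ← card_subs_le] at h1
    rw [Nat.card_eq_fintype_card, Fintype.card_subtype]
    convert h1 using 2
    ext H; simp [mem_subs]
  rw [Finset.sum_boole, Nat.cast_id] at hdvd
  rw [Nat.card_eq_fintype_card, Fintype.card_subtype] at hall ⊢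
  have h2 := Finset.card_filter_add_card_filter_not
    (s := Finset.univ.filter fun H : Subgroup G => Nat.card H = p ^ a ∧ H ≤ Q)
    (p := fun H => M ≤ normalizer (H : Set G))
  rw [Finset.filter_filter, Finset.filter_filter] at h2
  rw [← h2] at hall
  exact ((Nat.ModEq.refl _).add (Nat.modEq_zero_iff_dvd.2 hdvd)).symm.trans hall

/-- The subgroups of order `p ^ a` outside a Sylow subgroup number a multiple of `p²`. -/
theorem dvd_card_outside (P : Sylow p G) {n a : ℕ} (hn : Nat.card P = p ^ n) (ha : a < n) :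
    p ^ 2 ∣ Nat.card {H : Subgroup G // Nat.card H = p ^ a ∧ ¬ H ≤ (P : Subgroup G)} := by
  classical
  haveI := Fintype.ofFinite (Subgroup G)
  haveI := Fintype.ofFinite (Sylow p G)
  letI := conjAction (P : Subgroup G)
  let X : Subgroup G → Prop := fun H => Nat.card H = p ^ a ∧ ¬ H ≤ (P : Subgroup G)
  let O : Subgroup G → ℕ := fun H => Nat.card (MulAction.orbit (P : Subgroup G) H)
  have hXinv : ∀ (u : (P : Subgroup G)) H, X (u • H) ↔ X H := fun u H => by
    simp only [X]
    rw [show (u • H : Subgroup G) = H.map (MulAut.conj (u : G)).toMonoidHom from rfl, card_conj,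
      le_map_conj_iff (map_conj_self (le_normalizer u.2))]
  have hOinv : ∀ (u : (P : Subgroup G)) H, O (u • H) = O H := fun u H => by
    simp only [O, MulAction.orbit_smul]
  have hcard : ∀ Q : Subgroup G, IsPGroup p Q → ∃ i, i ≤ n ∧ Nat.card Q = p ^ i := fun Q hQ => by
    obtain ⟨T, hT⟩ := hQ.exists_le_sylow
    have h1 := card_dvd_of_le hT
    rw [Sylow.card_eq_multiplicity T, ← Sylow.card_eq_multiplicity P, hn] at h1
    exact (Nat.dvd_prime_pow hp.out).1 h1
  have hsup : ∀ (H M : Subgroup G), IsPGroup p H → IsPGroup p M → M ≤ normalizer (H : Set G) →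
      IsPGroup p ↥(H ⊔ M) := fun H M h1 h2 h3 => h1.to_sup_of_normal_left' h2 h3
  -- the orbits of length `p`
  let Y : Sylow p G → Prop := fun P' => Nat.card ↥((P' : Subgroup G) ⊓ P) = p ^ (n - 1)
  let R : Sylow p G → Subgroup G → Prop := fun P' H => Nat.card H = p ^ a ∧ H ≤ (P' : Subgroup G) ∧
      ¬ H ≤ (P : Subgroup G) ∧ (P' : Subgroup G) ⊓ P ≤ normalizer (H : Set G)
  let fib : Sylow p G → ℕ := fun P' => Nat.card {H : Subgroup G // R P' H}
  have hfib : ∀ P', Y P' → p ∣ fib P' := by
    intro P' hY
    set M : Subgroup G := (P' : Subgroup G) ⊓ P with hMdef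
    have hMp : IsPGroup p M := P'.2.to_le inf_le_left
    have ha1 : p ^ a ∣ Nat.card M := by rw [hY]; exact pow_dvd_pow p (by omega)
    have h1 := fixed_modEq_one hMp (Q := (P' : Subgroup G)) (inf_le_left.trans le_normalizer) (a := a)
      (ha1.trans (card_dvd_of_le inf_le_left))
    have h2 := fixed_modEq_one hMp (Q := M) le_normalizer (a := a) ha1
    rw [Nat.card_eq_fintype_card, Fintype.card_subtype] at h1 h2
    have h3 := Finset.card_filter_add_card_filter_not
      (s := Finset.univ.filter fun H : Subgroup G =>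
        (Nat.card H = p ^ a ∧ H ≤ (P' : Subgroup G)) ∧ M ≤ normalizer (H : Set G))
      (p := fun H => H ≤ M)
    rw [Finset.filter_filter, Finset.filter_filter] at h3
    have e2 : (Finset.univ.filter fun H : Subgroup G =>
        ((Nat.card H = p ^ a ∧ H ≤ (P' : Subgroup G)) ∧ M ≤ normalizer (H : Set G)) ∧ H ≤ M) =
        Finset.univ.filter fun H : Subgroup G =>
          (Nat.card H = p ^ a ∧ H ≤ M) ∧ M ≤ normalizer (H : Set G) := by
      ext H; simp only [Finset.mem_filter, Finset.mem_univ, true_and]
      exact ⟨fun h => ⟨⟨h.1.1.1, h.2⟩, h.1.2⟩, fun h => ⟨⟨⟨h.1.1, h.1.2.trans inf_le_left⟩, h.2⟩, h.1.2⟩⟩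
    have e3 : (Finset.univ.filter fun H : Subgroup G =>
        ((Nat.card H = p ^ a ∧ H ≤ (P' : Subgroup G)) ∧ M ≤ normalizer (H : Set G)) ∧ ¬ H ≤ M) =
        Finset.univ.filter fun H : Subgroup G => R P' H := by
      ext H; simp only [Finset.mem_filter, Finset.mem_univ, true_and, R]
      exact ⟨fun h => ⟨h.1.1.1, h.1.1.2, fun hle => h.2 (le_inf h.1.1.2 hle), h.1.2⟩,
        fun h => ⟨⟨⟨h.1, h.2.1⟩, h.2.2.2⟩, fun hle => h.2.2.1 (hle.trans inf_le_right)⟩⟩
    rw [e2, e3] at h3
    rw [← h3] at h1
    simp only [fib, Nat.card_eq_fintype_card, Fintype.card_subtype]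
    refine Nat.modEq_zero_iff_dvd.1 (Nat.ModEq.add_left_cancel h2 ?_)
    rwa [add_zero]
  have hsmul : ∀ (u : (P : Subgroup G)) (P' : Sylow p G),
      ((u • P' : Sylow p G) : Subgroup G) = (P' : Subgroup G).map (MulAut.conj (u : G)).toMonoidHom :=
    fun u P' => Cfsg.Lib.Transfer.sylow_smul_coe (u : G) P'
  have hinf : ∀ (u : (P : Subgroup G)) (P' : Sylow p G),
      ((u • P' : Sylow p G) : Subgroup G) ⊓ P =
        ((P' : Subgroup G) ⊓ P).map (MulAut.conj (u : G)).toMonoidHom := fun u P' => by
    rw [hsmul, map_inf _ _ _ (MulAut.conj (u : G)).injective, map_conj_self (le_normalizer u.2)]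
  have hfinv : ∀ (u : (P : Subgroup G)) (P' : Sylow p G),
      (if Y (u • P') then fib (u • P') else 0) = if Y P' then fib P' else 0 := by
    intro u P'
    have hY : Y (u • P') ↔ Y P' := by simp only [Y]; rw [hinf, card_conj]
    have hR : ∀ H, R (u • P') (u • H) ↔ R P' H := fun H => by
      simp only [R]
      rw [hinf, hsmul, show (u • H : Subgroup G) = H.map (MulAut.conj (u : G)).toMonoidHom from rfl,
        card_conj, map_le_map_iff_of_injective (MulAut.conj (u : G)).injective,
        le_map_conj_iff (map_conj_self (le_normalizer u.2)),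
        show normalizer ((H.map (MulAut.conj (u : G)).toMonoidHom : Subgroup G) : Set G) =
          (normalizer (H : Set G)).map (MulAut.conj (u : G)).toMonoidHom from
          (map_equiv_normalizer_eq H (MulAut.conj (u : G))).symm,
        map_le_map_iff_of_injective (MulAut.conj (u : G)).injective]
    have hf : fib (u • P') = fib P' :=
      (Nat.card_congr ((MulAction.toPerm u).subtypeEquiv fun H => (hR H).symm)).symm
    simp only [hY, hf]
  have hsylow : p ^ 2 ∣ ∑ P' : Sylow p G, (if Y P' then fib P' else 0) := by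
    refine dvd_sum_of_orbits (A := (P : Subgroup G)) _ hfinv fun P' h0 => ?_
    by_cases hY : Y P'
    swap
    · exact absurd (if_neg hY) h0
    rw [if_pos hY, pow_two]
    refine Nat.mul_dvd_mul ?_ (hfib P' hY)
    rcases orbit_cases P.2 P' with hfix | h
    · exfalso
      have hle : (P : Subgroup G) ≤ normalizer ((P' : Subgroup G) : Set G) := fun x hx =>
        mem_normalizer_of_fix ((hsmul ⟨x, hx⟩ P').symm.trans (congrArg _ (hfix ⟨x, hx⟩)))
      have h1 : (P : Subgroup G) ≤ P' :=
        le_sup_right.trans (P'.3 (hsup _ _ P'.2 P.2 hle) le_sup_left).le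
      have h2 : Nat.card ↥((P' : Subgroup G) ⊓ P) = p ^ (n - 1) := hY
      rw [inf_eq_right.2 h1, hn] at h2
      have := Nat.pow_right_injective hp.out.two_le h2
      omega
    · exact h
  have hX1 : ∑ P' : Sylow p G, (if Y P' then fib P' else 0) =
      #(Finset.univ.filter fun H => X H ∧ O H = p) := by
    have huniq : ∀ H : Subgroup G, #(Finset.univ.filter fun P' : Sylow p G => Y P' ∧ R P' H) =
        if X H ∧ O H = p then 1 else 0 := by
      intro H
      have hstab : ∀ M : Subgroup G, M ≤ (P : Subgroup G) → M ≤ normalizer (H : Set G) →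
          Nat.card M = p ^ (n - 1) → X H →
          O H = p ∧ (P : Subgroup G) ⊓ normalizer (H : Set G) = M := by
        intro M hMP hMN hMc hX
        have hS : (MulAction.stabilizer (P : Subgroup G) H).map (P : Subgroup G).subtype =
            (P : Subgroup G) ⊓ normalizer (H : Set G) := by
          refine le_antisymm ?_ ?_
          · rintro _ ⟨u, hu, rfl⟩
            exact ⟨u.2, mem_normalizer_of_fix (MulAction.mem_stabilizer_iff.1 hu)⟩
          · rintro x ⟨hxP, hxN⟩
            exact ⟨⟨x, hxP⟩, MulAction.mem_stabilizer_iff.2 (map_conj_self hxN), rfl⟩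
        have hS' : Nat.card ↥((P : Subgroup G) ⊓ normalizer (H : Set G)) * O H = p ^ n := by
          rw [← hS, Subgroup.card_subtype, ← hn]
          show _ * Nat.card _ = _
          rw [Nat.card_coe_set_eq, ← MulAction.index_stabilizer]
          exact Subgroup.card_mul_index _
        obtain ⟨i, -, hi⟩ := hcard _ (P.2.to_le (inf_le_left : (P : Subgroup G) ⊓ normalizer (H : Set G) ≤ P))
        have hle : M ≤ (P : Subgroup G) ⊓ normalizer (H : Set G) := le_inf hMP hMN
        have hd := card_dvd_of_le hle
        rw [hMc, hi] at hd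
        have hi1 := (Nat.pow_dvd_pow_iff_le_right hp.out.one_lt).1 hd
        have hne : ¬ (P : Subgroup G) ≤ normalizer (H : Set G) := fun hh => by
          have h1 : IsPGroup p H := IsPGroup.of_card hX.1
          obtain ⟨j, hj, hje⟩ := hcard _ (hsup H P h1 P.2 hh)
          have h2 := eq_of_le_of_card_ge (le_sup_right : (P : Subgroup G) ≤ H ⊔ P)
            (by rw [hje, hn]; exact Nat.pow_le_pow_right hp.out.pos hj)
          exact hX.2 (h2 ▸ le_sup_left)
        have hin : i ≠ n := fun e => hne (inf_eq_left.1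
          (eq_of_le_of_card_ge inf_le_left (by rw [hi, hn, e])))
        have hile : i ≤ n := by
          have := card_dvd_of_le (inf_le_left : (P : Subgroup G) ⊓ normalizer (H : Set G) ≤ P)
          rw [hi, hn] at this
          exact (Nat.pow_dvd_pow_iff_le_right hp.out.one_lt).1 this
        obtain rfl : i = n - 1 := by omega
        refine ⟨?_, (eq_of_le_of_card_ge hle (by rw [hi, hMc])).symm⟩
        rw [hi, show p ^ n = p ^ (n - 1) * p by rw [← pow_succ]; congr 1; omega] at hS'
        exact Nat.eq_of_mul_eq_mul_left (pow_pos hp.out.pos _) hS'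
      split_ifs with hh
      · obtain ⟨hX, hO⟩ := hh
        set M := (P : Subgroup G) ⊓ normalizer (H : Set G) with hMdef
        have hMc : Nat.card M = p ^ (n - 1) := by
          have hS : (MulAction.stabilizer (P : Subgroup G) H).map (P : Subgroup G).subtype = M := by
            refine le_antisymm ?_ ?_
            · rintro _ ⟨u, hu, rfl⟩
              exact ⟨u.2, mem_normalizer_of_fix (MulAction.mem_stabilizer_iff.1 hu)⟩
            · rintro x ⟨hxP, hxN⟩
              exact ⟨⟨x, hxP⟩, MulAction.mem_stabilizer_iff.2 (map_conj_self hxN), rfl⟩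
          have h1 := Subgroup.card_mul_index (MulAction.stabilizer (P : Subgroup G) H)
          rw [MulAction.index_stabilizer, ← Nat.card_coe_set_eq] at h1
          simp only [O] at hO
          rw [hO, hn, show p ^ n = p ^ (n - 1) * p by rw [← pow_succ]; congr 1; omega] at h1
          rw [← hS, Subgroup.card_subtype]
          exact Nat.eq_of_mul_eq_mul_right hp.out.pos h1
        have hJ : IsPGroup p ↥(H ⊔ M) :=
          hsup H M (IsPGroup.of_card hX.1) (P.2.to_le inf_le_left) inf_le_right
        obtain ⟨j, hj, hje⟩ := hcard _ hJ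
        have hlt : p ^ (n - 1) < p ^ j := by
          rw [← hje, ← hMc]
          refine lt_of_le_of_ne (Nat.le_of_dvd Nat.card_pos (card_dvd_of_le le_sup_right)) fun e => ?_
          have := eq_of_le_of_card_ge (le_sup_right : M ≤ H ⊔ M) e.ge
          exact hX.2 ((le_sup_left.trans this.ge).trans inf_le_left)
        have hjn : j = n := by
          have := (Nat.pow_lt_pow_iff_right hp.out.one_lt).1 hlt
          omega
        obtain ⟨T, hT⟩ := hJ.exists_le_sylow
        have hTc : Nat.card T = p ^ n := by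
          rw [Sylow.card_eq_multiplicity T, ← Sylow.card_eq_multiplicity P, hn]
        have hTJ : H ⊔ M = (T : Subgroup G) :=
          eq_of_le_of_card_ge hT (by rw [hTc, hje, hjn])
        have hTM : (T : Subgroup G) ⊓ P = M := by
          obtain ⟨i, -, hi⟩ := hcard _ (T.2.to_le (inf_le_left : (T : Subgroup G) ⊓ P ≤ T))
          have hMT : M ≤ (T : Subgroup G) ⊓ P := le_inf (hTJ ▸ le_sup_right) inf_le_left
          refine (eq_of_le_of_card_ge hMT ?_).symm
          have hd := card_dvd_of_le (inf_le_right : (T : Subgroup G) ⊓ P ≤ P)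
          rw [hi, hn] at hd
          have hin : i ≠ n := fun e => hX.2 ((hTJ ▸ le_sup_left : H ≤ (T : Subgroup G)).trans
            (inf_eq_left.1 (eq_of_le_of_card_ge inf_le_left (by rw [hTc, hi, e]))))
          have := (Nat.pow_dvd_pow_iff_le_right hp.out.one_lt).1 hd
          rw [hi, hMc]
          exact Nat.pow_le_pow_right hp.out.pos (by omega)
        refine Finset.card_eq_one.2 ⟨T, Finset.eq_singleton_iff_unique_mem.2 ⟨?_, fun P' hP' => ?_⟩⟩
        · simp only [Finset.mem_filter, Finset.mem_univ, true_and, Y, R]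
          exact ⟨by rw [hTM, hMc], hX.1, hTJ ▸ le_sup_left, hX.2, hTM ▸ inf_le_right⟩
        · simp only [Finset.mem_filter, Finset.mem_univ, true_and, Y, R] at hP'
          obtain ⟨hY, -, hHP', -, hN⟩ := hP'
          have h1 := (hstab _ inf_le_right hN hY hX).2
          have h2 : H ⊔ M ≤ (P' : Subgroup G) := sup_le hHP' (h1.le.trans inf_le_left)
          exact (Sylow.ext ((hTJ ▸ h2 : (T : Subgroup G) ≤ P').antisymm
            (T.3 P'.2 (hTJ ▸ h2)).le)).symm
      · refine Finset.card_eq_zero.2 (Finset.eq_empty_of_forall_notMem fun P' hP' => hh ?_)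
        simp only [Finset.mem_filter, Finset.mem_univ, true_and, Y, R] at hP'
        obtain ⟨hY, hc, -, hnle, hN⟩ := hP'
        exact ⟨⟨hc, hnle⟩, (hstab _ inf_le_right hN hY ⟨hc, hnle⟩).1⟩
    have e := Finset.sum_card_bipartiteAbove_eq_sum_card_bipartiteBelow
      (fun (P' : Sylow p G) (H : Subgroup G) => Y P' ∧ R P' H) (s := Finset.univ) (t := Finset.univ)
    simp only [Finset.bipartiteAbove, Finset.bipartiteBelow] at e
    rw [Finset.sum_congr rfl fun H _ => huniq H, Finset.sum_boole, Nat.cast_id] at e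
    rw [← e]
    refine Finset.sum_congr rfl fun P' _ => ?_
    split_ifs with hY
    · simp only [fib, Nat.card_eq_fintype_card, Fintype.card_subtype, hY, true_and]
    · simp [hY]
  -- the longer orbits
  have hX2 : p ^ 2 ∣ ∑ H : Subgroup G, if X H ∧ O H ≠ p then 1 else 0 := by
    refine dvd_sum_of_orbits (A := (P : Subgroup G)) _ (fun u H => by simp only [hXinv, hOinv]) fun H h0 => ?_
    by_cases hh : X H ∧ O H ≠ p
    swap
    · exact absurd (if_neg hh) h0
    rw [if_pos hh, mul_one]
    obtain ⟨i, hi⟩ := P.2.index (MulAction.stabilizer (P : Subgroup G) H)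
    have hOi : O H = p ^ i := by
      simp only [O]
      rw [Nat.card_coe_set_eq, ← MulAction.index_stabilizer, hi]
    show p ^ 2 ∣ O H
    rw [hOi]
    refine pow_dvd_pow p ?_
    by_contra hlt
    rcases (show i = 0 ∨ i = 1 by omega) with rfl | rfl
    · have hle : (P : Subgroup G) ≤ normalizer (H : Set G) := fun x hx =>
        mem_normalizer_of_fix (MulAction.mem_stabilizer_iff.1
          ((index_eq_one.1 (by simpa using hi)).symm ▸ mem_top (⟨x, hx⟩ : (P : Subgroup G))))
      obtain ⟨j, hj, hje⟩ := hcard _ (hsup H P (IsPGroup.of_card hh.1.1) P.2 hle)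
      have h2 := eq_of_le_of_card_ge (le_sup_right : (P : Subgroup G) ≤ H ⊔ P)
        (by rw [hje, hn]; exact Nat.pow_le_pow_right hp.out.pos hj)
      exact hh.1.2 (h2 ▸ le_sup_left)
    · exact hh.2 (by rw [hOi, pow_one])
  rw [hX1] at hsylow
  rw [Finset.sum_boole, Nat.cast_id] at hX2
  rw [Nat.card_eq_fintype_card, Fintype.card_subtype]
  have h := Finset.card_filter_add_card_filter_not (s := Finset.univ.filter X) (p := fun H => O H = p)
  rw [Finset.filter_filter, Finset.filter_filter] at h
  rw [← h]
  exact dvd_add hsylow hX2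

/-- Kulakoff–Hall: the number of subgroups of order `p ^ a` is `1` or `1 + p` modulo `p²`. -/
theorem modEq_of_dvd {a : ℕ} (hdvd : p ^ (a + 1) ∣ Nat.card G) :
    Nat.card {H : Subgroup G // Nat.card H = p ^ a} ≡ 1 [MOD p ^ 2] ∨
      Nat.card {H : Subgroup G // Nat.card H = p ^ a} ≡ 1 + p [MOD p ^ 2] := by
  classical
  by_cases hp2 : p = 2
  · subst hp2
    have h := Cfsg.Lib.Counting.card_subgroups_modEq_one (G := G) (β := a) hp.out
      ((pow_dvd_pow 2 a.le_succ).trans hdvd)
    unfold Nat.ModEq at h ⊢
    omega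
  obtain ⟨P⟩ : Nonempty (Sylow p G) := inferInstance
  obtain ⟨n, hn⟩ := IsPGroup.iff_card.1 P.2
  have ha : a < n := (Nat.pow_dvd_pow_iff_le_right hp.out.one_lt).1
    (hn ▸ P.pow_dvd_card_of_pow_dvd_card hdvd)
  have hsplit : Nat.card {H : Subgroup G // Nat.card H = p ^ a} =
      #(subs (P : Subgroup G) p a) + Nat.card {H : Subgroup G // Nat.card H = p ^ a ∧ ¬ H ≤ (P : Subgroup G)} := by
    haveI := Fintype.ofFinite (Subgroup G)
    rw [← card_subs, ← Finset.card_filter_add_card_filter_not (s := subs G p a)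
      (p := fun H => H ≤ (P : Subgroup G)), card_subs_le, Nat.card_eq_fintype_card, Fintype.card_subtype]
    congr 2
    ext H; simp [mem_subs]
  have hmod : Nat.card {H : Subgroup G // Nat.card H = p ^ a} ≡ #(subs (P : Subgroup G) p a) [MOD p ^ 2] := by
    rw [hsplit]
    simpa using (Nat.ModEq.refl (#(subs (P : Subgroup G) p a))).add
      (Nat.modEq_zero_iff_dvd.2 (dvd_card_outside P hn ha))
  rcases Nat.eq_zero_or_pos a with rfl | hapos
  · left
    refine hmod.trans ?_
    rw [show #(subs (P : Subgroup G) p 0) = 1 from Finset.card_eq_one.2 ⟨⊥, ?_⟩]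
    refine Finset.eq_singleton_iff_unique_mem.2 ⟨by simp [mem_subs], fun K hK => ?_⟩
    rw [mem_subs, pow_zero] at hK
    exact Subgroup.card_eq_one.1 hK
  by_cases hc : IsCyclic (P : Subgroup G)
  · left
    rw [card_subs_cyclic hn ha.le] at hmod
    exact hmod
  · right
    refine hmod.trans ?_
    rw [← ZMod.natCast_eq_natCast_iff, pgroup_odd hp2 n _ hn hc a hapos ha]
    simp

end Cfsg.Lib.Kulakoff
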