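/-
Kulakoff's theorem for the prime 2: a non-cyclic 2-group not of maximal class has 3 modulo 4
subgroups of each intermediate order.
-/
import Cfsg.Agent.Counting.KulakoffGeneral
import Cfsg.Agent.PGroups.CyclicMaximal
import Cfsg.Agent.PGroups.MaxClass
import Cfsg.Agent.PGroups.CommutatorIndexFour

set_option linter.style.haveILetI false
set_option linter.unusedSectionVars false

namespace Cfsg.Lib.Kulakoff

open Subgroup Finset Cfsg.Lib.CyclicMax
open scoped commutatorElement

universe u

instance fact_two : Fact (Nat.Prime 2) := ⟨Nat.prime_two⟩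

variable {G : Type u} [Group G] [Finite G]

open Classical in
theorem card_maxs_odd (hG : IsPGroup 2 G) {H : Subgroup G} (hH : H ≠ ⊤) :
    #((maxs G 2).filter fun M => H ≤ M) % 2 = 1 := by
  obtain ⟨d, hd⟩ := exists_card_ann (p := 2) H
  have h := card_maxs_ge_mul hG H
  rw [hd] at h
  rcases d with _ | d
  · obtain ⟨M, hHM, hM⟩ := exists_index_ge hG hH
    have h1 : 0 < #((maxs G 2).filter fun M => H ≤ M) :=
      Finset.card_pos.2 ⟨M, Finset.mem_filter.2 ⟨(mem_maxs hG).2 hM, hHM⟩⟩
    rw [pow_zero] at h
    omega
  · rw [pow_succ] at h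
    omega

theorem card_of_index_two {n : ℕ} (hm : Nat.card G = 2 ^ (n + 1)) {M : Subgroup G} (hM : M.index = 2) :
    Nat.card M = 2 ^ n := by
  have h := M.card_mul_index
  rw [hM, hm, pow_succ] at h
  exact Nat.eq_of_mul_eq_mul_right two_pos h

theorem commutator_le_of_index_two {M : Subgroup G} (hM : M.index = 2) : commutator G ≤ M := by
  haveI : M.Normal := normal_of_index_eq_two hM
  have hc : Nat.card (G ⧸ M) = 2 := by rw [← Subgroup.index_eq_card, hM]
  haveI : IsCyclic (G ⧸ M) := isCyclic_of_prime_card hc
  letI : CommGroup (G ⧸ M) := IsCyclic.commGroup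
  rw [_root_.commutator_def, commutator_le]
  intro x _ y _
  rw [← QuotientGroup.eq_one_iff]
  show QuotientGroup.mk' M ⁅x, y⁆ = 1
  rw [map_commutatorElement, commutatorElement_eq_one_iff_mul_comm]
  exact mul_comm _ _

theorem index_commutator_ge {n : ℕ} (hm : Nat.card G = 2 ^ n) (hnc : ¬ IsCyclic G) :
    4 ≤ (commutator G).index := by
  have hP : IsPGroup 2 G := IsPGroup.of_card hm
  obtain ⟨r, hr⟩ := hP.index (commutator G)
  rcases Nat.lt_or_ge r 2 with h | h
  · exfalso
    refine hnc ?_
    have hq : Nat.card (G ⧸ commutator G) = 2 ^ r := by rw [← Subgroup.index_eq_card, hr]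
    haveI : IsCyclic (G ⧸ frattini G) := by
      haveI : IsCyclic (G ⧸ commutator G) := by
        interval_cases r
        · haveI : Subsingleton (G ⧸ commutator G) := (Nat.card_eq_one_iff_unique.1 (by simpa using hq)).1
          infer_instance
        · exact isCyclic_of_prime_card (by simpa using hq)
      exact isCyclic_of_surjective
        (QuotientGroup.map (commutator G) (frattini G) (MonoidHom.id G)
          (Cfsg.Lib.PGroups.commutator_le_frattini hP))
        fun y => QuotientGroup.induction_on y fun x => ⟨(x : G ⧸ commutator G), rfl⟩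
    exact Cfsg.Lib.PGroups.isCyclic_of_isCyclic_quotient_frattini
  · rw [hr]
    exact le_trans (by norm_num) (Nat.pow_le_pow_right two_pos h)

theorem class_of_index_commutator {n : ℕ} (hm : Nat.card G = 2 ^ n) (hn : 3 ≤ n)
    (hi : (commutator G).index = 4) : Group.nilpotencyClass G = n - 1 := by
  haveI : Group.IsNilpotent G := (IsPGroup.of_card hm : IsPGroup 2 G).isNilpotent
  exact Cfsg.Lib.IndexFour.class_eq n G hm hn hi

theorem not_isCyclic_of_class {n : ℕ} (hm : Nat.card G = 2 ^ n) (hn : 3 ≤ n)
    (hc : Group.nilpotencyClass G = n - 1) : ¬ IsCyclic G := fun h => by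
  haveI : Group.IsNilpotent G := (IsPGroup.of_card hm : IsPGroup 2 G).isNilpotent
  letI : CommGroup G := IsCyclic.commGroup
  exact Cfsg.Lib.MaxClass.not_comm hn hc fun a b => mul_comm a b

/-- A cyclic maximal subgroup: maximal class, or a multiplicative power map. -/
theorem cyclic_max_dichotomy {n : ℕ} (hm : Nat.card G = 2 ^ (n + 2)) (hn : 1 ≤ n) {C : Subgroup G}
    (hC : IsCyclic C) (hCi : C.index = 2) :
    Group.nilpotencyClass G = n + 1 ∨ ∀ x y : G, (x * y) ^ 2 ^ n = x ^ 2 ^ n * y ^ 2 ^ n := by
  by_cases hna : ∃ x y : G, x * y ≠ y * x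
  swap
  · push Not at hna
    exact Or.inr fun x y => Commute.mul_pow (hna x y) _
  obtain ⟨a, b, haC, hcases⟩ := classify (n + 2) (by omega) hm C hC hCi hna
  have hcls : ∀ (r s u v : ℤ), TwoGen a b (n + 1) r s → u * (r - 1) + v * 2 ^ (n + 1) = 2 →
      Group.nilpotencyClass G = n + 1 := by
    intro r s u v h huv
    rw [show n + 1 = n + 2 - 1 by omega]
    refine class_of_index_commutator hm (by omega) (le_antisymm ?_ ?_)
    · have h2 : a ^ (2 : ℤ) ∈ commutator G := by
        have h3 : a ^ (r - 1) ∈ commutator G := by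
          have h4 : ⁅b, a⁆ = a ^ (r - 1) := by
            rw [commutatorElement_def, h.conj, zpow_sub_one]
          rw [← h4]
          exact commutator_mem_commutator (mem_top _) (mem_top _)
        rw [← huv, zpow_add, mul_comm v, zpow_mul a ((2 : ℤ) ^ (n + 1)),
          (zpow_eq_one h _).2 dvd_rfl, one_zpow, mul_one, mul_comm, zpow_mul]
        exact zpow_mem h3 u
      have h5 := index_dvd_of_le (zpowers_le.2 h2)
      have h6 := (zpowers (a ^ (2 : ℤ))).card_mul_index
      have h7 : orderOf (a ^ (2 : ℤ)) = 2 ^ n := by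
        rw [show (2 : ℤ) = ((2 : ℕ) : ℤ) from rfl, zpow_natCast, orderOf_pow, h.ord,
          show (2 : ℕ) ^ (n + 1) = 2 * 2 ^ n by ring, Nat.gcd_eq_right (Dvd.intro _ rfl),
          Nat.mul_div_cancel_left _ two_pos]
      rw [Nat.card_zpowers, h7, hm, show 2 ^ (n + 2) = 2 ^ n * 4 by rw [pow_add]; norm_num] at h6
      rw [Nat.eq_of_mul_eq_mul_left (pow_pos two_pos _) h6] at h5
      exact Nat.le_of_dvd (by norm_num) h5
    · refine index_commutator_ge hm fun hcyc => ?_
      letI : CommGroup G := IsCyclic.commGroup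
      obtain ⟨x, y, hxy⟩ := hna
      exact hxy (mul_comm x y)
  rcases hcases with h | h | ⟨hn4, h⟩ | ⟨hn4, h⟩
  · exact Or.inl (hcls _ _ (-1) 0 h (by ring))
  · exact Or.inl (hcls _ _ (-1) 0 h (by ring))
  · right
    obtain ⟨k, rfl⟩ : ∃ k, n = k + 2 := ⟨n - 2, by omega⟩
    obtain ⟨h1, -⟩ := sq_mem_center_of_modular (k := k) h
    have hg : ∀ g : G, g * g ∈ center G := by
      intro g
      rcases cases h g with ⟨i, rfl⟩ | ⟨i, rfl⟩
      · rw [← zpow_add, ← two_mul, zpow_mul]
        exact zpow_mem h1 i
      · rw [mul_b_mul_b h, show k + 2 + 2 - 2 = k + 2 by omega, show i + (2 ^ (k + 2) + 1) * i + 0 = 2 * (i * (2 ^ (k + 1) + 1)) by ring,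
          zpow_mul]
        exact zpow_mem h1 _
    have ha : ∀ x y : G, ⁅y, x⁆ ∈ center G := by
      -- the central quotient has exponent two
      intro x y
      rw [← QuotientGroup.eq_one_iff]
      show QuotientGroup.mk' (center G) ⁅y, x⁆ = 1
      have he : ∀ z : G, (QuotientGroup.mk' (center G) z)⁻¹ = QuotientGroup.mk' (center G) z := fun z =>
        inv_eq_of_mul_eq_one_right (by rw [← map_mul]; exact (QuotientGroup.eq_one_iff _).2 (hg z))
      rw [map_commutatorElement, commutatorElement_eq_one_iff_mul_comm]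
      have e := he (y * x)
      rw [map_mul, mul_inv_rev, he, he] at e
      exact e.symm
    intro x y
    rw [Cfsg.Lib.PGroups.mul_pow_of_central (ha x y)]
    have h2 : ⁅y, x⁆ ^ 2 = 1 := by
      rw [← Cfsg.Lib.PGroups.commutator_pow_right_of_commute ((mem_center_iff.1 (ha x y) x).symm) 2,
        commutatorElement_eq_one_iff_mul_comm, pow_two]
      exact mem_center_iff.1 (hg x) y
    obtain ⟨l, hl⟩ : 2 ∣ (2 ^ (k + 2)).choose 2 := by
      rw [Nat.choose_two_right, show 2 ^ (k + 2) * (2 ^ (k + 2) - 1) = 2 * (2 * (2 ^ k * (2 ^ (k + 2) - 1))) by ring,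
        Nat.mul_div_cancel_left _ two_pos]
      exact Dvd.intro _ rfl
    rw [hl, pow_mul, h2, one_pow, mul_one]
  · obtain ⟨k, rfl⟩ : ∃ k, n = k + 2 := ⟨n - 2, by omega⟩
    refine Or.inl (hcls _ _ (-(2 ^ (k + 1) + 1)) (2 ^ k) h ?_)
    show -(2 ^ (k + 1) + 1) * (2 ^ (k + 2 + 2 - 2) - 1 - 1) + 2 ^ k * 2 ^ (k + 2 + 1) = (2 : ℤ)
    rw [show k + 2 + 2 - 2 = k + 2 by omega]
    ring

open Classical in
/-- In maximal class the number of cyclic maximal subgroups is odd. -/
theorem card_cyclic_odd {n : ℕ} (hm : Nat.card G = 2 ^ (n + 2)) (hn : 1 ≤ n)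
    (hc : Group.nilpotencyClass G = n + 1) :
    #((maxs G 2).filter fun M : Subgroup G => IsCyclic M) % 2 = 1 := by
  have hG : IsPGroup 2 G := IsPGroup.of_card hm
  haveI : Group.IsNilpotent G := hG.isNilpotent
  obtain ⟨C, hC, hCi⟩ := Cfsg.Lib.MaxClass.exists_cyclic_index_two (n + 2) G hm (by omega) (by omega)
  have hCm : C ∈ (maxs G 2).filter fun M : Subgroup G => IsCyclic M :=
    Finset.mem_filter.2 ⟨(mem_maxs hG).2 hCi, hC⟩
  have hna : ∃ x y : G, x * y ≠ y * x := by
    by_contra hh
    push Not at hh
    exact Cfsg.Lib.MaxClass.not_comm (n := n + 2) (by omega) (by omega) hh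
  rcases Nat.lt_or_ge 1 n with hn2 | hn1
  · -- only one
    have huniq : (maxs G 2).filter (fun M : Subgroup G => IsCyclic M) = {C} := by
      refine Finset.eq_singleton_iff_unique_mem.2 ⟨hCm, fun D hD => ?_⟩
      rw [Finset.mem_filter, mem_maxs hG] at hD
      by_contra hne
      have hcomm : ∀ (E : Subgroup G), IsCyclic E → ∀ x ∈ E, ∀ y ∈ E, x * y = y * x := by
        intro E hE x hx y hy
        letI : CommGroup E := IsCyclic.commGroup
        exact congrArg Subtype.val (mul_comm (⟨x, hx⟩ : E) ⟨y, hy⟩)
      have hDC : ¬ D ≤ C := fun hle => hne (eq_of_le_of_card_ge hle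
        (by rw [card_of_index_two hm hD.1, card_of_index_two hm hCi]))
      obtain ⟨d, hdD, hdC⟩ := SetLike.not_le_iff_exists.1 hDC
      have hle : C ⊓ D ≤ center G := by
        intro z hz
        refine mem_center_iff.2 fun g => ?_
        have hsup : C ⊔ zpowers d ≤ centralizer {z} := sup_le
          (fun c hc' => mem_centralizer_singleton_iff.2 (hcomm C hC c hc' z hz.1))
          (zpowers_le.2 (mem_centralizer_singleton_iff.2 (hcomm D hD.2 d hdD z hz.2)))
        rw [Cfsg.Lib.MaxClass.sup_zpowers_eq_top hCi hdC] at hsup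
        exact mem_centralizer_singleton_iff.1 (hsup (mem_top g))
      obtain ⟨hZ, -, -⟩ := Cfsg.Lib.MaxClass.center_facts (n + 2) G hm (by omega) (by omega)
      have h1 := index_inf_le (H := C) (K := D)
      rw [hCi, hD.1] at h1
      have h2 := (C ⊓ D).card_mul_index
      have h3 : Nat.card ↥(C ⊓ D) ≤ 2 := hZ ▸ Nat.le_of_dvd Nat.card_pos (card_dvd_of_le hle)
      have h4 : 2 ^ 4 ≤ 2 ^ (n + 2) := Nat.pow_le_pow_right two_pos (by omega)
      rw [hm] at h2
      have := Nat.mul_le_mul h3 h1
      omega
    rw [huniq, Finset.card_singleton]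
  · obtain rfl : n = 1 := by omega
    obtain ⟨a, b, haC, hcases⟩ := classify 3 le_rfl hm C hC hCi hna
    have key : ∀ s : ℤ, TwoGen a b 2 (-1) s →
        #((maxs G 2).filter fun M : Subgroup G => IsCyclic M) % 2 = 1 := by
      intro s h
      haveI := Fintype.ofFinite G
      by_cases hs : a ^ s = 1
      · -- dihedral: only one
        have huniq : (maxs G 2).filter (fun M : Subgroup G => IsCyclic M) = {C} := by
          refine Finset.eq_singleton_iff_unique_mem.2 ⟨hCm, fun D hD => ?_⟩
          rw [Finset.mem_filter, mem_maxs hG] at hD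
          obtain ⟨d, rfl⟩ := (Subgroup.isCyclic_iff_exists_zpowers_eq_top D).1 hD.2
          have hd := card_of_index_two hm hD.1
          rcases cases h d with ⟨i, rfl⟩ | ⟨i, rfl⟩
          · refine eq_of_le_of_card_ge (zpowers_le.2 (haC ▸ zpow_mem (mem_zpowers a) i)) ?_
            rw [card_of_index_two hm hCi, hd]
          · exfalso
            rw [Nat.card_zpowers] at hd
            have h2 : (a ^ i * b) ^ 2 = 1 := by
              rw [pow_two, mul_b_mul_b h, show i + -1 * i + s = s by ring, hs]
            have h3 := Nat.le_of_dvd two_pos (orderOf_dvd_iff_pow_eq_one.2 h2)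
            rw [hd] at h3
            norm_num at h3
        rw [huniq, Finset.card_singleton]
      · -- quaternion: all three
        have hall : (maxs G 2).filter (fun M : Subgroup G => IsCyclic M) = maxs G 2 := by
          refine Finset.filter_true_of_mem fun M hM => ?_
          rw [mem_maxs hG] at hM
          by_cases hle : M ≤ C
          · rw [eq_of_le_of_card_ge hle (by rw [card_of_index_two hm hM, card_of_index_two hm hCi])]
            exact hC
          obtain ⟨d, hdM, hdC⟩ := SetLike.not_le_iff_exists.1 hle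
          rcases cases h d with ⟨i, rfl⟩ | ⟨i, rfl⟩
          · exact absurd (haC ▸ zpow_mem (mem_zpowers a) i) hdC
          have h2 : ¬ (a ^ i * b) ^ 2 ^ 1 = 1 := by
            rw [pow_one, pow_two, mul_b_mul_b h, show i + -1 * i + s = s by ring]
            exact hs
          have h4 : (a ^ i * b) ^ 2 ^ (1 + 1) = 1 := by
            have h5 : (a ^ i * b) ^ 2 ^ (1 + 1) = (a ^ s) * (a ^ s) := by
              rw [show 2 ^ (1 + 1) = 2 + 2 by norm_num, pow_add, pow_two, mul_b_mul_b h,
                show i + -1 * i + s = s by ring]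
            rw [h5, ← zpow_add]
            -- `a ^ s` is inverted by `b` and commutes with it
            have h6 : b * a ^ s = a ^ s * b := by rw [← h.sq, mul_assoc]
            rw [conj_b h, mul_left_inj, zpow_eq_iff h] at h6
            rw [zpow_eq_one h]
            simpa [sub_neg_eq_add] using h6
          have h7 : zpowers (a ^ i * b) = M := by
            refine eq_of_le_of_card_ge (zpowers_le.2 hdM) ?_
            rw [card_of_index_two hm hM, Nat.card_zpowers, orderOf_eq_prime_pow h2 h4]
          exact h7 ▸ inferInstance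
        rw [hall]
        have hne : (⊥ : Subgroup G) ≠ ⊤ := fun e => by
          have h8 := congrArg (fun H : Subgroup G => Nat.card H) e
          simp only [Subgroup.card_bot, Subgroup.card_top, hm] at h8
          norm_num at h8
        have := card_maxs_odd hG hne
        rwa [Finset.filter_true_of_mem fun _ _ => bot_le] at this
    rcases hcases with h | h | ⟨h4, -⟩ | ⟨h4, -⟩
    · exact key _ h
    · exact key _ h
    · omega
    · omega

open Classical in
/-- Outside maximal class the number of cyclic maximal subgroups is even. -/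
theorem card_cyclic_even {n : ℕ} (hm : Nat.card G = 2 ^ (n + 2)) (hn : 1 ≤ n) (hnc : ¬ IsCyclic G)
    (hc : Group.nilpotencyClass G ≠ n + 1) :
    2 ∣ #((maxs G 2).filter fun M : Subgroup G => IsCyclic M) := by
  have hG : IsPGroup 2 G := IsPGroup.of_card hm
  rcases ((maxs G 2).filter fun M : Subgroup G => IsCyclic M).eq_empty_or_nonempty with h0 | ⟨C, hC⟩
  · simp [h0]
  rw [Finset.mem_filter, mem_maxs hG] at hC
  rcases cyclic_max_dichotomy hm hn hC.2 hC.1 with h | h
  · exact absurd h hc
  · exact dvd_card_cyclic_maxs_of_hom hG hm hn hnc h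

/-- Maximal subgroups of groups of maximal class are cyclic or of maximal class. -/
theorem max_of_class {n : ℕ} (hm : Nat.card G = 2 ^ (n + 1)) (hn : 3 ≤ n)
    (hc : Group.nilpotencyClass G = n) {M : Subgroup G} (hM : M.index = 2) :
    IsCyclic M ∨ Group.nilpotencyClass M = n - 1 := by
  have hG : IsPGroup 2 G := IsPGroup.of_card hm
  haveI : Group.IsNilpotent G := hG.isNilpotent
  obtain ⟨C, hC, hCi⟩ := Cfsg.Lib.MaxClass.exists_cyclic_index_two (n + 1) G hm (by omega) (by omega)
  by_cases hle : M ≤ C
  · left
    rw [eq_of_le_of_card_ge hle (by rw [card_of_index_two hm hM, card_of_index_two hm hCi])]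
    exact hC
  right
  obtain ⟨x, hxM, hxC⟩ := SetLike.not_le_iff_exists.1 hle
  obtain ⟨hZC, hout⟩ := Cfsg.Lib.MaxClass.outside hm (by omega) (by omega) hC hCi
  obtain ⟨hx2, hxcent⟩ := hout x hxC
  obtain ⟨hZ, -, -⟩ := Cfsg.Lib.MaxClass.center_facts (n + 1) G hm (by omega) (by omega)
  have hZM : center G ≤ M := by
    haveI : M.Normal := normal_of_index_eq_two hM
    refine Cfsg.Lib.MaxClass.center_le_of_normal hG hZ M fun hb => ?_
    rw [hb, index_bot, hm] at hM
    have := Nat.pow_right_injective le_rfl (hM.trans (pow_one 2).symm)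
    omega
  set A : Subgroup G := center G ⊔ zpowers x with hA
  have hAM : A ≤ M := sup_le hZM (zpowers_le.2 hxM)
  have hAx : A ≤ centralizer {x} := sup_le (center_le_centralizer _)
    (zpowers_le.2 (mem_centralizer_singleton_iff.2 rfl))
  have hAC : centralizer {x} ≤ A := by
    intro g hg
    by_cases hgC : g ∈ C
    · exact mem_sup_left (hxcent ▸ (show g ∈ C ⊓ centralizer {x} from ⟨hgC, hg⟩))
    · have h1 : g * x ∈ C := (mul_mem_iff_of_index_two hCi).2 (iff_of_false hgC hxC)
      have h2 : g * x ∈ center G := hxcent ▸ (show g * x ∈ C ⊓ centralizer {x} from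
        ⟨h1, mul_mem hg (mem_centralizer_singleton_iff.2 rfl)⟩)
      have h3 := mul_mem (mem_sup_left (T := zpowers x) h2) (mem_sup_right (inv_mem (mem_zpowers x)))
      rwa [mul_inv_cancel_right] at h3
  have hAc : Nat.card A = 4 := by
    have h1 := Cfsg.Lib.Coprime.card_sup_mul_card_inf (N := center G) (H := zpowers x)
      (by rw [normalizer_eq_top]; exact le_top)
    have hxne : x ≠ 1 := fun e => hxC (e ▸ one_mem C)
    have hord : orderOf x ∣ 4 := by
      refine orderOf_dvd_of_pow_eq_one ?_
      rw [show 4 = 2 * 2 by norm_num, pow_mul]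
      exact congrArg Subtype.val (hZ ▸ (pow_card_eq_one' : (⟨x ^ 2, hx2⟩ : center G) ^ Nat.card (center G) = 1))
    have hinf : Nat.card ↥(center G ⊓ zpowers x) * 2 = orderOf x := by
      have h2 : (center G ⊓ zpowers x) = zpowers (x ^ 2) := by
        refine le_antisymm ?_ (zpowers_le.2 ⟨hx2, pow_mem (mem_zpowers x) 2⟩)
        rintro z ⟨hz1, hz2⟩
        obtain ⟨i, rfl⟩ := mem_zpowers_iff.1 hz2
        rcases Int.even_or_odd i with ⟨j, rfl⟩ | ⟨j, rfl⟩
        · rw [← two_mul, zpow_mul, zpow_two, ← pow_two]
          exact zpow_mem (mem_zpowers _) j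
        · exfalso
          refine hxC ?_
          rw [zpow_add, zpow_mul, zpow_two, ← pow_two, zpow_one] at hz1
          exact hZC (by simpa using mul_mem (inv_mem (zpow_mem hx2 j)) hz1)
      rw [h2, Nat.card_zpowers, orderOf_pow, Nat.gcd_eq_right, Nat.div_mul_cancel]
      all_goals
        obtain ⟨i, hi, hie⟩ := (Nat.dvd_prime_pow Nat.prime_two).1 (show orderOf x ∣ 2 ^ 2 from hord)
        rw [hie]
        refine dvd_pow_self 2 ?_
        rintro rfl
        exact hxne (orderOf_eq_one_iff.1 hie)
    rw [hZ, Nat.card_zpowers, ← hinf] at h1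
    refine Nat.eq_of_mul_eq_mul_right (m := Nat.card ↥(center G ⊓ zpowers x)) Nat.card_pos ?_
    rw [h1]; ring
  haveI : Group.IsNilpotent M := (hG.to_subgroup M).isNilpotent
  refine Cfsg.Lib.MaxClass.of_self_centralizing (p := 2) n M (card_of_index_two hm hM) (A.subgroupOf M) ?_ ?_
  · rw [Nat.card_congr (subgroupOfEquivOfLe hAM).toEquiv, hAc]; norm_num
  · refine le_antisymm (fun g hg => ?_) fun g hg h hh => ?_
    · refine hAC (mem_centralizer_singleton_iff.2 ?_)
      exact (congrArg Subtype.val (hg ⟨x, hxM⟩ (mem_sup_right (T := zpowers x) (mem_zpowers x)))).symm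
    · have hcomm : IsMulCommutative A := IsPGroup.isMulCommutative_of_card_eq_prime_sq (p := 2) (by rw [hAc]; norm_num)
      exact Subtype.ext (congrArg (fun w : A => (w : G)) (hcomm.is_comm.comm (⟨(h : G), hh⟩ : A) ⟨(g : G), hg⟩))

open Classical in
/-- Outside maximal class, an even number of maximal subgroups have maximal class. -/
theorem card_class_even {n : ℕ} (hm : Nat.card G = 2 ^ (n + 1)) (hn : 3 ≤ n)
    (hc : Group.nilpotencyClass G ≠ n) :
    2 ∣ #((maxs G 2).filter fun M : Subgroup G => Group.nilpotencyClass M = n - 1) := by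
  have hG : IsPGroup 2 G := IsPGroup.of_card hm
  rcases ((maxs G 2).filter fun M : Subgroup G => Group.nilpotencyClass M = n - 1).eq_empty_or_nonempty with
    h0 | ⟨M, hM⟩
  · simp [h0]
  rw [Finset.mem_filter, mem_maxs hG] at hM
  obtain ⟨hMi, hMc⟩ := hM
  haveI : Group.IsNilpotent M := (hG.to_subgroup M).isNilpotent
  have hMcard := card_of_index_two hm hMi
  obtain ⟨A, hA, hAi⟩ := Cfsg.Lib.MaxClass.exists_cyclic_index_two n M hMcard hn hMc
  have hMd := Cfsg.Lib.MaxClass.commutator_index (p := 2) n M hMcard (by omega) hMc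
  have hDc : Nat.card ((commutator M).map M.subtype) = 2 ^ (n - 2) := by
    rw [Subgroup.card_subtype]
    have h := (commutator M).card_mul_index
    rw [hMd, hMcard, show 2 ^ n = 2 ^ (n - 2) * 2 ^ 2 by rw [← pow_add]; congr 1; omega] at h
    exact Nat.eq_of_mul_eq_mul_right (by norm_num) h
  have hDle : (commutator M).map M.subtype ≤ commutator G := by
    rw [_root_.commutator_def, _root_.commutator_def, map_commutator]
    exact commutator_mono le_top le_top
  have hnc : ¬ IsCyclic G := fun h => not_isCyclic_of_class hMcard hn hMc inferInstance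
  -- `G' = M'`
  have hDeq : (commutator M).map M.subtype = commutator G := by
    refine eq_of_le_of_card_ge hDle ?_
    have h := (commutator G).card_mul_index
    have h4 := index_commutator_ge hm hnc
    have hne : (commutator G).index ≠ 4 := fun he => hc (class_of_index_commutator hm (by omega) he)
    obtain ⟨r, hr⟩ := hG.index (commutator G)
    have hr3 : 3 ≤ r := by
      by_contra hlt
      interval_cases r <;> omega
    rw [hr, hm] at h
    rw [hDc]
    by_contra hlt
    push Not at hlt
    have h5 : 2 ^ (n - 2) * 2 ^ r < Nat.card (commutator G) * 2 ^ r :=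
      Nat.mul_lt_mul_of_pos_right hlt (pow_pos two_pos _)
    rw [h, ← pow_add] at h5
    have := (Nat.pow_lt_pow_iff_right one_lt_two).1 h5
    omega
  have hDcyc : IsCyclic (commutator G) := by
    haveI := hA
    rw [← hDeq]
    have h1 : commutator M ≤ A := commutator_le_of_index_two hAi
    haveI : IsCyclic (commutator M) := isCyclic_of_injective (inclusion h1) (inclusion_injective h1)
    exact isCyclic_of_surjective _ (equivMapOfInjective (commutator M) M.subtype M.subtype_injective).surjective
  obtain ⟨d, hd⟩ := (Subgroup.isCyclic_iff_exists_zpowers_eq_top (commutator G)).1 hDcyc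
  have hdo : orderOf d = 2 ^ (n - 2) := by rw [← Nat.card_zpowers, hd, ← hDeq, hDc]
  set K : Subgroup G := zpowers (d ^ 2) with hK
  haveI hKn : K.Normal := by
    refine ⟨fun z hz g => ?_⟩
    obtain ⟨i, rfl⟩ := mem_zpowers_iff.1 hz
    have h1 : g * d * g⁻¹ ∈ zpowers d := by
      rw [hd]
      exact (inferInstance : (commutator G).Normal).conj_mem d (hd ▸ mem_zpowers d) g
    obtain ⟨j, hj⟩ := mem_zpowers_iff.1 h1
    have h2 : (d ^ j) ^ 2 = (d ^ 2) ^ j := by
      rw [← zpow_natCast, ← zpow_natCast, ← zpow_mul, ← zpow_mul, mul_comm]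
    rw [← conj_zpow, ← conj_pow, ← hj, h2]
    exact zpow_mem (zpow_mem (mem_zpowers _) j) i
  have hKD : K ≤ commutator G := zpowers_le.2 (hd ▸ pow_mem (mem_zpowers d) 2)
  have hKc : Nat.card K = 2 ^ (n - 3) := by
    rw [hK, Nat.card_zpowers, orderOf_pow, hdo, show n - 2 = (n - 3) + 1 by omega, pow_succ',
      Nat.gcd_eq_right (Dvd.intro _ rfl), Nat.mul_div_cancel_left _ two_pos]
  set π := QuotientGroup.mk' K with hπdef
  have hπ : Function.Surjective π := QuotientGroup.mk'_surjective K
  have hH : Nat.card (G ⧸ K) = 16 := by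
    have h := card_eq_card_quotient_mul_card_subgroup K
    rw [hm, hKc, show 2 ^ (n + 1) = 16 * 2 ^ (n - 3) by
      rw [show 16 = 2 ^ 4 by norm_num, ← pow_add]; congr 1; omega] at h
    exact (Nat.eq_of_mul_eq_mul_right (pow_pos two_pos _) h).symm
  have hπD : ∀ z ∈ commutator G, π z = 1 ∨ π z = π d := by
    intro z hz
    rw [← hd] at hz
    obtain ⟨i, rfl⟩ := mem_zpowers_iff.1 hz
    have hd2 : π d ^ (2 : ℤ) = 1 := by
      rw [zpow_two, ← map_mul, ← pow_two]
      exact (QuotientGroup.eq_one_iff _).2 (mem_zpowers (d ^ 2))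
    rcases Int.even_or_odd i with ⟨j, rfl⟩ | ⟨j, rfl⟩
    · left; rw [map_zpow, ← two_mul, zpow_mul, hd2, one_zpow]
    · right; rw [map_zpow, zpow_add, zpow_mul, hd2, one_zpow, one_mul, zpow_one]
  have hdK : π d ≠ 1 := by
    intro h
    have h1 : d ∈ K := (QuotientGroup.eq_one_iff d).1 h
    have h2 : zpowers d ≤ K := zpowers_le.2 h1
    have h3 := Nat.le_of_dvd Nat.card_pos (card_dvd_of_le h2)
    rw [Nat.card_zpowers, hdo, hKc] at h3
    exact absurd ((Nat.pow_le_pow_iff_right one_lt_two).1 h3) (by omega)
  have hcval : ∀ x y : G, ⁅π x, π y⁆ = 1 ∨ ⁅π x, π y⁆ = π d := fun x y => by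
    rw [← map_commutatorElement]
    exact hπD _ (commutator_mem_commutator (mem_top x) (mem_top y))
  -- the centre of `G / K`
  set Z : Subgroup G := (center (G ⧸ K)).comap π with hZdef
  have hKZ : ∀ x y : G, ⁅π x, π y⁆ = 1 ↔ π x * π y = π y * π x := fun x y =>
    commutatorElement_eq_one_iff_mul_comm
  have hcrit : ∀ N ∈ maxs G 2, Group.nilpotencyClass N = n - 1 ↔ ¬ Z ≤ N := by
    intro N hN
    rw [mem_maxs hG] at hN
    haveI : Group.IsNilpotent N := (hG.to_subgroup N).isNilpotent
    have hNcard := card_of_index_two hm hN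
    have hGN : commutator G ≤ N := commutator_le_of_index_two hN
    have hN' : (commutator N).map N.subtype ≤ commutator G := by
      rw [_root_.commutator_def, _root_.commutator_def, map_commutator]
      exact commutator_mono le_top le_top
    have habel : Group.nilpotencyClass N = n - 1 ↔ ∃ x ∈ N, ∃ y ∈ N, π x * π y ≠ π y * π x := by
      constructor
      · intro h
        have h1 := Cfsg.Lib.MaxClass.commutator_index (p := 2) n N hNcard (by omega) h
        have h2 : Nat.card ((commutator N).map N.subtype) = 2 ^ (n - 2) := by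
          rw [Subgroup.card_subtype]
          have h3 := (commutator N).card_mul_index
          rw [h1, hNcard, show 2 ^ n = 2 ^ (n - 2) * 2 ^ 2 by rw [← pow_add]; congr 1; omega] at h3
          exact Nat.eq_of_mul_eq_mul_right (by norm_num) h3
        have heq : (commutator N).map N.subtype = commutator G :=
          eq_of_le_of_card_ge hN' (by rw [h2, ← hDeq, hDc])
        by_contra hh
        push Not at hh
        refine hdK ?_
        have h4 : (commutator N).map N.subtype ≤ K := by
          rw [_root_.commutator_def, map_commutator, ← MonoidHom.range_eq_map, range_subtype, commutator_le]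
          intro x hx y hy
          rw [← QuotientGroup.eq_one_iff]
          show π ⁅x, y⁆ = 1
          rw [map_commutatorElement, commutatorElement_eq_one_iff_mul_comm]
          exact hh x hx y hy
        exact (QuotientGroup.eq_one_iff d).2 (h4 (heq ▸ hd ▸ mem_zpowers d))
      · rintro ⟨x, hx, y, hy, hxy⟩
        have h1 : ⁅x, y⁆ ∈ (commutator N).map N.subtype :=
          ⟨⁅(⟨x, hx⟩ : N), ⟨y, hy⟩⁆, commutator_mem_commutator (mem_top _) (mem_top _), rfl⟩
        have h2 := hN' h1
        rw [← hd] at h2
        obtain ⟨i, hi⟩ := mem_zpowers_iff.1 h2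
        have hodd : ¬ (2 : ℤ) ∣ i := by
          rintro ⟨j, rfl⟩
          refine hxy ((hKZ x y).1 ?_)
          rw [← map_commutatorElement, ← hi, zpow_mul, zpow_two, ← pow_two]
          exact (QuotientGroup.eq_one_iff _).2 (zpow_mem (mem_zpowers _) j)
        have hdN : d ∈ (commutator N).map N.subtype := by
          obtain ⟨u, v, huv⟩ : IsCoprime i ((2 ^ (n - 2) : ℕ) : ℤ) := by
            push_cast
            exact (Int.prime_two.coprime_iff_not_dvd.2 hodd).symm.pow_right
          have h3 : d = (d ^ i) ^ u * (d ^ ((2 ^ (n - 2) : ℕ) : ℤ)) ^ v := by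
            rw [← zpow_mul, ← zpow_mul, ← zpow_add, mul_comm i, mul_comm (_ : ℤ) v, huv, zpow_one]
          rw [h3, zpow_natCast, ← hdo, pow_orderOf_eq_one, one_zpow, mul_one, hi]
          exact zpow_mem h1 u
        have heq : (commutator N).map N.subtype = commutator G :=
          le_antisymm hN' (hd ▸ zpowers_le.2 hdN)
        refine class_of_index_commutator hNcard hn ?_
        have h4 := (commutator N).card_mul_index
        rw [← Subgroup.card_subtype N (commutator N), heq, ← hDeq, hDc, hNcard,
          show 2 ^ n = 2 ^ (n - 2) * 4 by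
            rw [show (4 : ℕ) = 2 ^ 2 by norm_num, ← pow_add]; congr 1; omega] at h4
        exact Nat.eq_of_mul_eq_mul_left (pow_pos two_pos _) h4
    -- an element outside the centre of `G / K` has centraliser of index two
    have hprod : ∀ x y z : G, π x * π z ≠ π z * π x → π y * π z ≠ π z * π y →
        π (x * y) * π z = π z * π (x * y) := by
      intro x y z h1 h2
      have e1 := (hcval x z).resolve_left fun e => h1 ((hKZ x z).1 e)
      have e2 := (hcval y z).resolve_left fun e => h2 ((hKZ y z).1 e)
      rw [← hKZ, map_mul, Cfsg.Lib.PGroups.mul_left_commutator, e1, e2]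
      have h3 : π x * π d * (π x)⁻¹ = π d := by
        rw [← map_inv, ← map_mul, ← map_mul]
        refine (hπD _ ((inferInstance : (commutator G).Normal).conj_mem d (hd ▸ mem_zpowers d) x)).resolve_left ?_
        intro e
        rw [map_mul, map_mul, map_inv, mul_inv_eq_one, mul_eq_left] at e
        exact hdK e
      rw [h3, ← map_mul, ← pow_two]
      exact (QuotientGroup.eq_one_iff _).2 (mem_zpowers _)
    rw [habel]
    constructor
    · rintro ⟨x, hx, y, hy, hxy⟩ hZN
      -- two non-commuting elements and the centre generate everything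
      refine hxy ?_
      set Cx : Subgroup G := (centralizer ({π x} : Set (G ⧸ K))).comap π
      set Cy : Subgroup G := (centralizer ({π y} : Set (G ⧸ K))).comap π
      have hxCy : x ∉ Cy := fun h => hxy (mem_centralizer_singleton_iff.1 h)
      have hyCx : y ∉ Cx := fun h => hxy (mem_centralizer_singleton_iff.1 h).symm
      obtain ⟨g, hgN⟩ : ∃ g, g ∉ N := by
        by_contra hh
        push Not at hh
        rw [(eq_top_iff' _).2 hh, index_top] at hN
        omega
      -- correct `g` by `x, y` to commute with both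
      obtain ⟨g', hg', hgx⟩ : ∃ g', g' ∉ N ∧ g' ∈ Cx := by
        by_cases h : g ∈ Cx
        · exact ⟨g, hgN, h⟩
        · refine ⟨g * y, fun hh => hgN (by simpa using mul_mem hh (inv_mem hy)), mem_centralizer_singleton_iff.2 ?_⟩
          exact hprod g y x (fun e => h (mem_centralizer_singleton_iff.2 e)) (fun e => hyCx (mem_centralizer_singleton_iff.2 e))
      obtain ⟨g'', hg'', hgx'', hgy''⟩ : ∃ g'', g'' ∉ N ∧ g'' ∈ Cx ∧ g'' ∈ Cy := by
        by_cases h : g' ∈ Cy
        · exact ⟨g', hg', hgx, h⟩
        · refine ⟨g' * x, fun hh => hg' (by simpa using mul_mem hh (inv_mem hx)),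
            mul_mem hgx (mem_centralizer_singleton_iff.2 rfl), mem_centralizer_singleton_iff.2 ?_⟩
          exact hprod g' x y (fun e => h (mem_centralizer_singleton_iff.2 e)) (fun e => hxCy (mem_centralizer_singleton_iff.2 e))
      -- `Cx ⊓ Cy` is central modulo `K`
      have hWZ : Cx ⊓ Cy ≤ Z := by
        intro w hw
        have hKle : ∀ (t : G), t ∈ K → π t = 1 := fun t ht => (QuotientGroup.eq_one_iff t).2 ht
        set W : Subgroup (G ⧸ K) := (Cx ⊓ Cy).map π
        set T : Subgroup (G ⧸ K) := closure {π x, π y}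
        have hWc : ∀ u ∈ W, Commute u (π x) ∧ Commute u (π y) := by
          rintro _ ⟨t, ht, rfl⟩
          exact ⟨mem_centralizer_singleton_iff.1 ht.1, mem_centralizer_singleton_iff.1 ht.2⟩
        have hxW : π x ∉ W := fun h => hxy ((hWc _ h).2).eq
        have hyW : π y ∉ W ⊔ zpowers (π x) := fun h => by
          have hle : W ⊔ zpowers (π x) ≤ centralizer {π x} := sup_le
            (fun u hu => mem_centralizer_singleton_iff.2 (hWc u hu).1.eq)
            (zpowers_le.2 (mem_centralizer_singleton_iff.2 rfl))
          exact hxy (mem_centralizer_singleton_iff.1 (hle h)).symm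
        have hW4 : Nat.card W ≤ 4 := by
          have hlt1 : W < W ⊔ zpowers (π x) :=
            lt_of_le_of_ne le_sup_left fun e => hxW (e.symm ▸ mem_sup_right (mem_zpowers _))
          have hlt2 : W ⊔ zpowers (π x) < ⊤ :=
            lt_of_le_of_ne le_top fun e => hyW (e ▸ mem_top _)
          have key : ∀ {H1 H2 : Subgroup (G ⧸ K)}, H1 < H2 → 2 * Nat.card H1 ≤ Nat.card H2 := by
            intro H1 H2 h
            obtain ⟨q, hq⟩ := card_dvd_of_le h.le
            rcases q with _ | _ | q
            · have h0 : 0 < Nat.card H2 := Nat.card_pos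
              rw [hq, mul_zero] at h0
              omega
            · rw [zero_add, mul_one] at hq
              exact absurd (eq_of_le_of_card_ge h.le hq.le) h.ne
            · rw [hq, mul_comm 2]
              exact Nat.mul_le_mul_left _ (by omega)
          have h1 := key hlt1
          have h2 := key hlt2
          rw [Subgroup.card_top, hH] at h2
          omega
        have hWcomm : IsMulCommutative W := by
          have hWp : IsPGroup 2 W := (hG.to_quotient K).to_subgroup W
          obtain ⟨i, hi⟩ := IsPGroup.iff_card.1 hWp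
          rw [hi] at hW4
          have : i ≤ 2 := (Nat.pow_le_pow_iff_right one_lt_two).1 (by simpa using hW4)
          interval_cases i
          · haveI : Subsingleton W := (Nat.card_eq_one_iff_unique.1 (by simpa using hi)).1
            exact ⟨⟨fun _ _ => Subsingleton.elim _ _⟩⟩
          · haveI : IsCyclic W := isCyclic_of_prime_card (by simpa using hi)
            letI : CommGroup W := IsCyclic.commGroup
            exact ⟨⟨mul_comm⟩⟩
          · exact IsPGroup.isMulCommutative_of_card_eq_prime_sq hi
        -- every element is a product of `W`, `x` and `y`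
        refine mem_center_iff.2 fun u => ?_
        obtain ⟨t, rfl⟩ := hπ u
        have hfin : ∀ t : G, ∃ t', t' ∈ Cx ∧ t' ∈ Cy ∧ (∀ v : G ⧸ K, Commute v (π x) → Commute v (π y) →
            Commute v (π t') → Commute v (π t)) := by
          intro t
          obtain ⟨t1, ht1, h1⟩ : ∃ t1, t1 ∈ Cx ∧ ∀ v : G ⧸ K, Commute v (π y) → Commute v (π t1) → Commute v (π t) := by
            by_cases h : t ∈ Cx
            · exact ⟨t, h, fun v _ hv => hv⟩
            · refine ⟨t * y, mem_centralizer_singleton_iff.2 (hprod t y x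
                (fun e => h (mem_centralizer_singleton_iff.2 e)) (fun e => hyCx (mem_centralizer_singleton_iff.2 e))), ?_⟩
              intro v hv1 hv2
              rw [map_mul] at hv2
              simpa using hv2.mul_right hv1.inv_right
          by_cases h : t1 ∈ Cy
          · exact ⟨t1, ht1, h, fun v _ hv1 hv2 => h1 v hv1 hv2⟩
          · refine ⟨t1 * x, mul_mem ht1 (mem_centralizer_singleton_iff.2 rfl),
              mem_centralizer_singleton_iff.2 (hprod t1 x y (fun e => h (mem_centralizer_singleton_iff.2 e))
                (fun e => hxCy (mem_centralizer_singleton_iff.2 e))), ?_⟩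
            intro v hv0 hv1 hv2
            rw [map_mul] at hv2
            exact h1 v hv1 (by simpa using hv2.mul_right hv0.inv_right)
        obtain ⟨t', ht1, ht2, hh⟩ := hfin t
        have hwW : π w ∈ W := ⟨w, hw, rfl⟩
        have ht'W : π t' ∈ W := ⟨t', ⟨ht1, ht2⟩, rfl⟩
        exact (hh (π w) (hWc _ hwW).1 (hWc _ hwW).2
          (congrArg Subtype.val (hWcomm.is_comm.comm (⟨π w, hwW⟩ : W) ⟨π t', ht'W⟩))).eq.symm
      exact absurd (hZN (hWZ ⟨hgx'', hgy''⟩)) hg''
    · intro hZN
      obtain ⟨z, hzZ, hzN⟩ := SetLike.not_le_iff_exists.1 hZN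
      by_contra hh
      push Not at hh
      -- otherwise `G / K` is abelian
      refine hdK ?_
      have hz : ∀ g : G, π g * π z = π z * π g := fun g => mem_center_iff.1 hzZ (π g)
      have hcomm : ∀ g g' : G, π g * π g' = π g' * π g := by
        have h1 : ∀ g : G, ∀ u ∈ N, π g * π u = π u * π g := by
          intro g u hu
          by_cases hg : g ∈ N
          · exact hh g hg u hu
          · have h2 : g * z ∈ N := (mul_mem_iff_of_index_two hN).2 (iff_of_false hg hzN)
            have h3 := hh _ h2 u hu
            rw [map_mul] at h3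
            have h4 : Commute (π g * π z) (π u) := h3
            have h5 : Commute (π z) (π u) := (hz u).symm
            simpa using (h4.mul_left h5.inv_left).eq
        intro g g'
        by_cases hg : g' ∈ N
        · exact h1 g g' hg
        · have h2 : g' * z ∈ N := (mul_mem_iff_of_index_two hN).2 (iff_of_false hg hzN)
          have h4 : Commute (π g) (π g' * π z) := by
            have h3 := h1 g _ h2
            rwa [map_mul] at h3
          have h5 : Commute (π g) (π z) := hz g
          simpa using (h4.mul_right h5.inv_right).eq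
      refine (QuotientGroup.eq_one_iff d).2 ?_
      have hle : commutator G ≤ K := by
        rw [_root_.commutator_def, commutator_le]
        intro u _ v _
        rw [← QuotientGroup.eq_one_iff]
        show π ⁅u, v⁆ = 1
        rw [map_commutatorElement, commutatorElement_eq_one_iff_mul_comm]
        exact hcomm u v
      exact hle (hd ▸ mem_zpowers d)
  have hZtop : Z ≠ ⊤ := fun e => hdK (by
    refine (QuotientGroup.eq_one_iff d).2 ?_
    have hle : commutator G ≤ K := by
      rw [_root_.commutator_def, commutator_le]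
      intro u _ v _
      rw [← QuotientGroup.eq_one_iff]
      show π ⁅u, v⁆ = 1
      rw [map_commutatorElement, commutatorElement_eq_one_iff_mul_comm]
      exact (mem_center_iff.1 (show u ∈ Z from e ▸ mem_top u) (π v)).symm
    exact hle (hd ▸ mem_zpowers d))
  have hne : (⊥ : Subgroup G) ≠ ⊤ := fun e => hZtop (top_le_iff.1 (e ▸ bot_le))
  have h1 := card_maxs_odd hG hne
  rw [Finset.filter_true_of_mem fun _ _ => bot_le] at h1
  have h2 := card_maxs_odd hG hZtop
  have h3 := Finset.card_filter_add_card_filter_not (s := maxs G 2) (p := fun N => Z ≤ N)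
  rw [Finset.filter_congr hcrit]
  omega

open Classical in
/-- Subgroup numbers in maximal class. -/
theorem subs_of_class : ∀ (n : ℕ) (G : Type u) [Group G] [Finite G], Nat.card G = 2 ^ n → 3 ≤ n →
    Group.nilpotencyClass G = n - 1 → ∀ k, 1 ≤ k → k + 2 ≤ n → (#(subs G 2 k) : ZMod (2 ^ 2)) = 1 := by
  intro n
  induction n with
  | zero => intro G _ _ _ hn; omega
  | succ n ih =>
    intro G _ _ hm hn hc k hk1 hk2
    have hG : IsPGroup 2 G := IsPGroup.of_card hm
    have hnc := not_isCyclic_of_class hm hn hc
    have h := step hG hm hnc (k := k) hk2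
    have hmax := card_maxs hG hnc
    have hodd := card_cyclic_odd (n := n - 1) (G := G) (by rw [hm]; congr 1; omega) (by omega) (by omega)
    have hsum : ∀ M ∈ maxs G 2, (#(subs M 2 k) : ZMod (2 ^ 2)) =
        if IsCyclic M then 1 else (if k + 2 ≤ n then 1 else 3) := by
      intro M hM
      rw [mem_maxs hG] at hM
      have hMc := card_of_index_two hm hM
      split_ifs with hcy hkn
      · rw [card_subs_cyclic hMc (by omega)]; rfl
      · exact ih M hMc (by omega) ((max_of_class hm (by omega) (by omega) hM).resolve_left hcy) k hk1 hkn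
      · obtain ⟨j, rfl⟩ : ∃ j, n = j + 1 := ⟨n - 1, by omega⟩
        obtain rfl : k = j := by omega
        rw [subs_max (hG.to_subgroup M) hMc, card_maxs (hG.to_subgroup M) hcy]
        rfl
    rw [Finset.sum_congr rfl hsum] at h
    by_cases hkn : k + 2 ≤ n
    · simp only [hkn, if_true, ite_self, Finset.sum_const, nsmul_one, hmax] at h
      linear_combination h
    · simp only [hkn, if_false] at h
      rw [Finset.sum_ite, Finset.sum_const, Finset.sum_const, nsmul_eq_mul, nsmul_eq_mul] at h
      have h3 := Finset.card_filter_add_card_filter_not (s := maxs G 2) (p := fun M : Subgroup G => IsCyclic M)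
      rw [← h3, Nat.cast_add] at hmax
      obtain ⟨l, hl⟩ : ∃ l, #((maxs G 2).filter fun M : Subgroup G => IsCyclic M) = 2 * l + 1 := ⟨#((maxs G 2).filter fun M : Subgroup G => IsCyclic M) / 2, by omega⟩
      rw [hl, Nat.cast_add, Nat.cast_mul, Nat.cast_one] at hmax h
      have h4 : (4 : ZMod (2 ^ 2)) = 0 := by decide
      push_cast at hmax h
      linear_combination h + 3 * hmax + ((1 : ZMod (2 ^ 2)) - (l : ZMod (2 ^ 2))) * h4

open Classical in
theorem pgroup_two : ∀ (n : ℕ) (G : Type u) [Group G] [Finite G], Nat.card G = 2 ^ n → ¬ IsCyclic G →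
    (3 ≤ n → Group.nilpotencyClass G ≠ n - 1) → ∀ k, 1 ≤ k → k < n → (#(subs G 2 k) : ZMod (2 ^ 2)) = 3 := by
  intro n
  induction n with
  | zero => intro G _ _ _ _ _ k hk1 hk2; omega
  | succ n ih =>
    intro G _ _ hm hnc hc k hk1 hk2
    have hG : IsPGroup 2 G := IsPGroup.of_card hm
    rcases Nat.lt_or_ge k n with hlt | hge
    swap
    · obtain rfl : k = n := by omega
      rw [subs_max hG hm, card_maxs hG hnc]
      rfl
    have hn2 : 2 ≤ n := by omega
    have hc' := hc (by omega)
    have h := step hG hm hnc (k := k) (by omega)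
    let P : Subgroup G → Prop := fun M => IsCyclic M ∨ (k + 2 ≤ n ∧ 3 ≤ n ∧ Group.nilpotencyClass M = n - 1)
    have hsum : ∀ M ∈ maxs G 2, (#(subs M 2 k) : ZMod (2 ^ 2)) = if P M then 1 else 3 := by
      intro M hM
      rw [mem_maxs hG] at hM
      have hMc := card_of_index_two hm hM
      split_ifs with hP
      · rcases hP with hcy | ⟨hkn, hn3, hcl⟩
        · rw [card_subs_cyclic hMc hlt.le]; rfl
        · exact subs_of_class n M hMc hn3 hcl k hk1 hkn
      · simp only [P, not_or, not_and] at hP
        rcases Nat.lt_or_ge n (k + 2) with hkn | hkn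
        · obtain ⟨j, rfl⟩ : ∃ j, n = j + 1 := ⟨n - 1, by omega⟩
          obtain rfl : k = j := by omega
          rw [subs_max (hG.to_subgroup M) hMc, card_maxs (hG.to_subgroup M) hP.1]
          rfl
        · exact ih M hMc hP.1 (hP.2 hkn) k hk1 hlt
    have hev : 2 ∣ #((maxs G 2).filter P) := by
      have h1 := card_cyclic_even (n := n - 1) (G := G) (by rw [hm]; congr 1; omega) (by omega) hnc (by omega)
      by_cases hkn : k + 2 ≤ n
      · have h2 := card_class_even hm (by omega) (by omega)
        have hd : Disjoint ((maxs G 2).filter fun M : Subgroup G => IsCyclic M)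
            ((maxs G 2).filter fun M : Subgroup G => Group.nilpotencyClass M = n - 1) := by
          rw [Finset.disjoint_left]
          intro M hM hM'
          simp only [Finset.mem_filter, mem_maxs hG] at hM hM'
          exact not_isCyclic_of_class (card_of_index_two hm hM.1) (by omega) hM'.2 hM.2
        have h3 : (maxs G 2).filter P = ((maxs G 2).filter fun M : Subgroup G => IsCyclic M) ∪
            ((maxs G 2).filter fun M : Subgroup G => Group.nilpotencyClass M = n - 1) := by
          ext M
          simp only [P, Finset.mem_filter, Finset.mem_union, hkn, show 3 ≤ n by omega, true_and]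
          tauto
        rw [h3, Finset.card_union_of_disjoint hd]
        exact dvd_add h1 h2
      · rw [show (maxs G 2).filter P = (maxs G 2).filter fun M : Subgroup G => IsCyclic M from
          Finset.filter_congr fun M _ => by simp [P, hkn]]
        exact h1
    rw [Finset.sum_congr rfl hsum, Finset.sum_ite, Finset.sum_const, Finset.sum_const, nsmul_eq_mul,
      nsmul_eq_mul] at h
    have hmax := card_maxs hG hnc
    have h3 := Finset.card_filter_add_card_filter_not (s := maxs G 2) (p := P)
    rw [← h3, Nat.cast_add] at hmax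
    obtain ⟨l, hl⟩ := hev
    rw [hl, Nat.cast_mul] at hmax h
    have h4 : (4 : ZMod (2 ^ 2)) = 0 := by decide
    push_cast at hmax h
    linear_combination h + 3 * hmax + ((1 : ZMod (2 ^ 2)) - (l : ZMod (2 ^ 2))) * h4

end Cfsg.Lib.Kulakoff
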