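import Mathlib

set_option autoImplicit false

/-! Small facts on trivial-intersection Sylow subgroups. -/

namespace Cfsg.Lib.LocalSmall

open Subgroup
open scoped Pointwise

variable {G : Type*} [Group G] [Finite G] {p : ℕ} [Fact p.Prime]

/-- If the conjugates of one Sylow subgroup meet trivially, so do any two distinct ones. -/
theorem sylow_inf_eq_bot (P : Sylow p G)
    (hTI : ∀ g : G, g ∉ normalizer ((P : Subgroup G) : Set G) →
      (P : Subgroup G) ⊓ (MulAut.conj g • (P : Subgroup G)) = ⊥)
    (R R' : Sylow p G) (hne : R ≠ R') : (R : Subgroup G) ⊓ (R' : Subgroup G) = ⊥ := by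
  obtain ⟨a, rfl⟩ := MulAction.exists_smul_eq G P R
  obtain ⟨b, rfl⟩ := MulAction.exists_smul_eq G P R'
  have hn : a⁻¹ * b ∉ normalizer ((P : Subgroup G) : Set G) := fun h => hne (by
    have h' : (a⁻¹ * b) • P = P := Sylow.smul_eq_iff_mem_normalizer.mpr h
    rw [mul_smul] at h'
    exact (inv_smul_eq_iff.mp h').symm)
  rw [Sylow.coe_subgroup_smul, Sylow.coe_subgroup_smul]
  have h := congrArg (fun H : Subgroup G => MulAut.conj a • H) (hTI _ hn)
  simp only [Subgroup.smul_inf, ← mul_smul, ← map_mul, mul_inv_cancel_left, Subgroup.smul_bot] at h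
  exact h

end Cfsg.Lib.LocalSmall
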