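/-
Counting elements of p-power order in a quotient.
-/
import Cfsg.Agent.SolvStruct.SylowNumber

set_option linter.style.haveILetI false
set_option linter.unusedSectionVars false

namespace Cfsg.Lib.Counting.PElementsQuotient

open Subgroup

variable {G : Type*} [Group G] [Finite G] (p : ℕ) [hp : Fact p.Prime] (N : Subgroup G) [N.Normal]

theorem pGroup_zpowers {x : G} (hx : ∃ k : ℕ, orderOf x = p ^ k) : IsPGroup p (zpowers x) := by
  obtain ⟨k, hk⟩ := hx
  exact IsPGroup.of_card (n := k) (by rw [Nat.card_zpowers, hk])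

/-- The p-elements of a coset. -/
theorem coset_count (x : G ⧸ N) (hx : ∃ k : ℕ, orderOf x = p ^ k) (PN : Sylow p N) :
    Nat.card (PN : Subgroup N) ≤ Nat.card {g : G // (∃ k : ℕ, orderOf g = p ^ k) ∧ QuotientGroup.mk' N g = x} ∧
    (N ≤ center G → Nat.card {g : G // (∃ k : ℕ, orderOf g = p ^ k) ∧ QuotientGroup.mk' N g = x}
      ≤ Nat.card (PN : Subgroup N)) := by
  set π := QuotientGroup.mk' N
  set H := (zpowers x).comap π with hH
  have hNH : N ≤ H := fun n hn => by
    show π n ∈ zpowers x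
    rw [show π n = 1 from (QuotientGroup.eq_one_iff n).2 hn]
    exact one_mem _
  obtain ⟨S⟩ := (inferInstance : Nonempty (Sylow p H))
  set T := (S : Subgroup H).map H.subtype with hT
  have hTp : IsPGroup p T := S.2.map _
  have hpel : ∀ g ∈ T, ∃ k : ℕ, orderOf g = p ^ k := fun g hg => by
    obtain ⟨k, hk⟩ := IsPGroup.iff_orderOf.1 hTp ⟨g, hg⟩
    exact ⟨k, by rwa [orderOf_mk] at hk⟩
  haveI : (N.subgroupOf H).Normal := inferInstance
  -- the Sylow subgroup maps onto the cyclic quotient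
  have honto : T.map π = zpowers x := by
    refine le_antisymm (Subgroup.map_le_iff_le_comap.2 (map_subtype_le _)) ?_
    have h1 : (T.map π).relIndex (zpowers x) = 1 := by
      have h2 : (T.map π).relIndex (zpowers x) ∣ (S : Subgroup H).index := by
        have h3 : T.relIndex H = (S : Subgroup H).index := by
          rw [hT, relIndex, subgroupOf, comap_map_eq_self_of_injective H.subtype_injective]
        have h4 : H.map π = zpowers x := map_comap_eq_self_of_surjective (QuotientGroup.mk'_surjective N) _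
        rw [← h3, ← h4, Subgroup.relIndex_map_map, QuotientGroup.ker_mk', sup_eq_left.2 hNH]
        exact relIndex_dvd_of_le_left _ le_sup_left
      have h5 : (T.map π).relIndex (zpowers x) ∣ Nat.card (zpowers x) := relIndex_dvd_card _ _
      obtain ⟨k, hk⟩ := hx
      rw [Nat.card_zpowers, hk] at h5
      exact Nat.eq_one_of_dvd_coprimes ((Nat.Coprime.pow_left k ((hp.out.coprime_iff_not_dvd).2 S.not_dvd_index))) h5 h2
    exact relIndex_eq_one.1 h1
  obtain ⟨t, ht, htx⟩ : x ∈ T.map π := honto ▸ mem_zpowers x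
  -- the part inside `N` has full order
  obtain ⟨a, ha⟩ := IsPGroup.iff_card.1 PN.2
  have hTN : Nat.card (PN : Subgroup N) ≤ Nat.card (T ⊓ N : Subgroup G) := by
    have h1 : Nat.card (T ⊓ N : Subgroup G) = Nat.card (T.subgroupOf N) := by
      rw [← Nat.card_congr (subgroupOfEquivOfLe (inf_le_right : T ⊓ N ≤ N)).toEquiv, inf_subgroupOf_right]
    have h2 : (T.subgroupOf N).index ∣ (S : Subgroup H).index := by
      have h3 : T.relIndex H = (S : Subgroup H).index := by
        rw [hT, relIndex, subgroupOf, comap_map_eq_self_of_injective H.subtype_injective]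
      show T.relIndex N ∣ _
      rw [← h3]
      rw [Cfsg.Lib.SolvStruct.SylowNumber.relIndex_eq_sup (le_refl T),
        ← relIndex_mul_relIndex T (T ⊔ N) H le_sup_left (sup_le (map_subtype_le _) hNH)]
      exact dvd_mul_right _ _
    rw [h1]
    refine Nat.le_of_dvd Nat.card_pos ((Nat.Coprime.dvd_of_dvd_mul_right (k := Nat.card (PN : Subgroup N)) (n := (T.subgroupOf N).index) ?_ ?_))
    · rw [ha]
      exact Nat.Coprime.pow_left a ((hp.out.coprime_iff_not_dvd).2 fun h => S.not_dvd_index (h.trans h2))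
    · rw [card_mul_index]
      exact card_subgroup_dvd_card _
  refine ⟨hTN.trans (Nat.card_le_card_of_injective (fun n => ⟨t * (n : G), hpel _ (mul_mem ht n.2.1), ?_⟩)
    fun n m e => Subtype.ext (mul_left_cancel (congrArg Subtype.val e))), fun hc => ?_⟩
  · rw [map_mul, show π (n : G) = 1 from (QuotientGroup.eq_one_iff _).2 n.2.2, mul_one, htx]
  · have hcen : ∀ g : G, (∃ k : ℕ, orderOf g = p ^ k) → π g = x → t⁻¹ * g ∈ N ∧ ∃ k : ℕ, orderOf (t⁻¹ * g) = p ^ k := by
      intro g hg hgx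
      have hn : t⁻¹ * g ∈ N := by
        rw [← QuotientGroup.eq_one_iff]
        show π (t⁻¹ * g) = 1
        rw [map_mul, map_inv, htx, hgx, inv_mul_cancel]
      refine ⟨hn, ?_⟩
      have hcom : Commute t g := by
        have h1 : Commute t (t⁻¹ * g) := mem_center_iff.1 (hc hn) t
        simpa using (Commute.refl t).mul_right h1
      obtain ⟨i, hi⟩ := hpel t ht
      obtain ⟨j, hj⟩ := hg
      have h2 : (t⁻¹ * g) ^ p ^ (i + j) = 1 := by
        rw [(hcom.inv_left).mul_pow, pow_add, inv_pow, pow_mul, ← hi, pow_orderOf_eq_one, one_pow, inv_one, one_mul,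
          mul_comm, pow_mul, ← hj, pow_orderOf_eq_one, one_pow]
      obtain ⟨k, -, hk⟩ := (Nat.dvd_prime_pow hp.out).1 (orderOf_dvd_of_pow_eq_one h2)
      exact ⟨k, hk⟩
    haveI : IsMulCommutative N := ⟨⟨fun u v => Subtype.ext (mem_center_iff.1 (hc v.2) u)⟩⟩
    haveI : (PN : Subgroup N).Normal := inferInstance
    haveI := Sylow.unique_of_normal PN ‹_›
    refine Nat.card_le_card_of_injective (fun g : {g : G // (∃ k : ℕ, orderOf g = p ^ k) ∧ π g = x} =>
      (⟨⟨t⁻¹ * g.1, (hcen g.1 g.2.1 g.2.2).1⟩, ?_⟩ : (PN : Subgroup N))) fun g g' e => ?_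
    · obtain ⟨R, hR⟩ := (pGroup_zpowers p (x := (⟨t⁻¹ * g.1, (hcen g.1 g.2.1 g.2.2).1⟩ : N)) (by
        obtain ⟨k, hk⟩ := (hcen g.1 g.2.1 g.2.2).2
        exact ⟨k, by rw [orderOf_mk]; exact hk⟩)).exists_le_sylow
      rw [Subsingleton.elim PN R]
      exact hR (mem_zpowers _)
    · exact Subtype.ext (mul_left_cancel (congrArg (fun z : (PN : Subgroup N) => ((z : N) : G)) e))

theorem count (P : Sylow p G) (Pbar : Sylow p (G ⧸ N)) :
    Nat.card {g : (G ⧸ N) // ∃ k : ℕ, orderOf g = p ^ k} * Nat.card (P : Subgroup G) ≤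
      Nat.card {g : G // ∃ k : ℕ, orderOf g = p ^ k} * Nat.card (Pbar : Subgroup (G ⧸ N)) ∧
    (N ≤ center G → Nat.card {g : (G ⧸ N) // ∃ k : ℕ, orderOf g = p ^ k} * Nat.card (P : Subgroup G) =
      Nat.card {g : G // ∃ k : ℕ, orderOf g = p ^ k} * Nat.card (Pbar : Subgroup (G ⧸ N))) := by
  obtain ⟨PN⟩ := (inferInstance : Nonempty (Sylow p N))
  have hP : Nat.card (P : Subgroup G) = Nat.card (Pbar : Subgroup (G ⧸ N)) * Nat.card (PN : Subgroup N) := by
    rw [P.card_eq_multiplicity, Pbar.card_eq_multiplicity, PN.card_eq_multiplicity,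
      card_eq_card_quotient_mul_card_subgroup N,
      Nat.factorization_mul Nat.card_pos.ne' Nat.card_pos.ne', Finsupp.add_apply, pow_add]
  set π := QuotientGroup.mk' N
  let T := fun x : {g : (G ⧸ N) // ∃ k : ℕ, orderOf g = p ^ k} =>
    {g : G // (∃ k : ℕ, orderOf g = p ^ k) ∧ π g = x.1}
  have hsum : Nat.card {g : G // ∃ k : ℕ, orderOf g = p ^ k} = Nat.card (Σ x, T x) := by
    refine Nat.card_congr
      { toFun := fun g => ⟨⟨π g.1, ?_⟩, ⟨g.1, g.2, rfl⟩⟩
        invFun := fun s => ⟨s.2.1, s.2.2.1⟩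
        left_inv := fun g => rfl
        right_inv := fun ⟨⟨x, hx⟩, ⟨g, hg, e⟩⟩ => by cases e; rfl }
    obtain ⟨k, hk⟩ := g.2
    obtain ⟨j, -, hj⟩ := (Nat.dvd_prime_pow hp.out).1 (hk ▸ orderOf_map_dvd π g.1)
    exact ⟨j, hj⟩
  haveI := Fintype.ofFinite {g : (G ⧸ N) // ∃ k : ℕ, orderOf g = p ^ k}
  rw [hsum, Nat.card_sigma, hP, mul_comm (Nat.card (Pbar : Subgroup (G ⧸ N))) (Nat.card (PN : Subgroup N)),
    ← mul_assoc, Nat.card_eq_fintype_card (α := {g : (G ⧸ N) // ∃ k : ℕ, orderOf g = p ^ k}), ← Finset.card_univ]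
  refine ⟨Nat.mul_le_mul_right _ ?_, fun hc => congrArg (· * _) (le_antisymm ?_ ?_)⟩
  · rw [← smul_eq_mul, ← Finset.sum_const]
    exact Finset.sum_le_sum fun x _ => (coset_count p N x.1 x.2 PN).1
  · rw [← smul_eq_mul, ← Finset.sum_const]
    exact Finset.sum_le_sum fun x _ => (coset_count p N x.1 x.2 PN).1
  · rw [← smul_eq_mul, ← Finset.sum_const]
    exact Finset.sum_le_sum fun x _ => (coset_count p N x.1 x.2 PN).2 hc

end Cfsg.Lib.Counting.PElementsQuotient
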