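import Mathlib
import Cfsg.Agent.PGroups.AutOrder
import Cfsg.Agent.Transfer.FrobeniusApps

set_option autoImplicit false

namespace Cfsg.Lib.RankComplement

open Subgroup

variable {G : Type*} [Group G] [Finite G] {p : ℕ} [hp : Fact p.Prime]

theorem exists_index_frattini {P : Type*} [Group P] [Finite P] (hP : IsPGroup p P) :
    ∃ r, r ≤ Group.rank P ∧ (frattini P).index = p ^ r := by
  obtain ⟨r, hr⟩ := hP.index (frattini P)
  refine ⟨r, ?_, hr⟩
  have hc := Cfsg.Lib.PGroups.isMulCommutative_quotient_frattini hP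
  let : CommGroup (P ⧸ frattini P) :=
    { (inferInstance : Group (P ⧸ frattini P)) with mul_comm := hc.is_comm.comm }
  have h1 := card_dvd_exponent_pow_rank' (P ⧸ frattini P)
    (Cfsg.Lib.PGroups.pow_prime_quotient_frattini hP)
  rw [← Subgroup.index_eq_card, hr] at h1
  exact ((Nat.pow_dvd_pow_iff_le_right hp.out.one_lt).mp h1).trans
    (Group.rank_le_of_surjective _ (QuotientGroup.mk'_surjective (frattini P)))

/-- A `p'`-element normalising a `p`-group `Q` centralises it if no prime divisor of `|G|` other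
than `p` divides `p ^ i - 1` for `1 ≤ i ≤ rank Q`. -/
theorem centralize_of_rank {Q : Subgroup G} (hQ : IsPGroup p Q)
    (h : ∀ q : ℕ, q.Prime → q ≠ p → q ∣ Nat.card G → ∀ i, 1 ≤ i → i ≤ Group.rank Q → ¬ q ∣ p ^ i - 1)
    {g : G} (hg : g ∈ normalizer (Q : Set G)) (hcop : (orderOf g).Coprime p) :
    g ∈ centralizer (Q : Set G) := by
  obtain ⟨r, hr, hidx⟩ := exists_index_frattini hQ
  obtain ⟨n, hn⟩ := IsPGroup.iff_card.mp hQ
  have hdvd := Cfsg.Lib.PGroups.card_aut_dvd hn hidx
  let f : normalizer (Q : Set G) →* MulAut Q := Q.normalizerMonoidHom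
  have hker : f ⟨g, hg⟩ = 1 → g ∈ centralizer (Q : Set G) := fun h1 => by
    have h2 : (⟨g, hg⟩ : normalizer (Q : Set G)) ∈ f.ker := h1
    rw [normalizerMonoidHom_ker] at h2
    exact h2
  refine hker (orderOf_eq_one_iff.mp (Nat.eq_one_iff_not_exists_prime_dvd.mpr fun q hq hqd => ?_))
  have hqg : q ∣ orderOf g := hqd.trans
    ((orderOf_map_dvd f _).trans (dvd_of_eq (Subgroup.orderOf_mk g hg)))
  have hqp : q ≠ p := fun e => hq.ne_one (Nat.eq_one_of_dvd_coprimes hcop hqg (e ▸ dvd_rfl))
  have hqprod : q ∣ ∏ i ∈ Finset.range r, (p ^ r - p ^ i) := by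
    refine (Nat.Coprime.dvd_of_dvd_mul_left ?_ ((hqd.trans (_root_.orderOf_dvd_natCard _)).trans hdvd))
    exact ((Nat.coprime_primes hq hp.out).mpr hqp).pow_right _
  obtain ⟨i, hi, hqi⟩ := hq.prime.exists_mem_finset_dvd hqprod
  rw [Finset.mem_range] at hi
  have e : p ^ r - p ^ i = p ^ i * (p ^ (r - i) - 1) := by
    rw [Nat.mul_sub, mul_one, ← pow_add]
    congr 2
    omega
  rw [e] at hqi
  refine h q hq hqp (hqg.trans (_root_.orderOf_dvd_natCard g)) (r - i) (by omega) (by omega) ?_
  exact (((Nat.coprime_primes hq hp.out).mpr hqp).pow_right i).dvd_of_dvd_mul_left hqi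

/-- Burnside's criterion, with the rank. -/
theorem hasNormalPComplement_of_abelian_rank (P : Sylow p G)
    (hab : IsMulCommutative (P : Subgroup G))
    (h : ∀ q : ℕ, q.Prime → q ≠ p → q ∣ Nat.card G →
      ∀ i, 1 ≤ i → i ≤ Group.rank (P : Subgroup G) → ¬ q ∣ p ^ i - 1) :
    Cfsg.HasNormalPComplement p G := by
  have hN : normalizer ((P : Subgroup G) : Set G) ≤ centralizer ((P : Subgroup G) : Set G) := by
    refine Cfsg.Lib.Transfer.le_of_forall_prime_pow fun g hg r k hr hk => ?_
    by_cases h2 : r = p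
    · subst h2
      have h1 := (IsPGroup.of_card (p := r) ((Nat.card_zpowers g).trans hk)).inf_normalizer_sylow P
      have h3 : g ∈ zpowers g ⊓ normalizer ((P : Subgroup G) : Set G) := ⟨mem_zpowers g, hg⟩
      exact (P : Subgroup G).le_centralizer (h1.le h3).2
    refine centralize_of_rank P.2 h hg ?_
    rw [hk]
    exact ((Nat.coprime_primes hr hp.out).mpr h2).pow_left k
  exact Cfsg.Lib.Transfer.hasNormalPComplement_of_isComplement'
    (MonoidHom.ker_transferSylow_isComplement' P hN)

/-- Frobenius' criterion, with the rank. -/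
theorem hasNormalPComplement_of_rank
    (h : ∀ Q : Subgroup G, IsPGroup p Q → ∀ q : ℕ, q.Prime → q ≠ p → q ∣ Nat.card G →
      ∀ i, 1 ≤ i → i ≤ Group.rank Q → ¬ q ∣ p ^ i - 1) :
    Cfsg.HasNormalPComplement p G :=
  Cfsg.Lib.Transfer.hasNormalPComplement_of_frobenius fun Q hQ _ hg hcop =>
    centralize_of_rank hQ (h Q hQ) hg hcop

end Cfsg.Lib.RankComplement

namespace Cfsg.Lib.RankComplement

open Subgroup

/-- Every subgroup of a group with a cyclic subgroup of index at most two needs two generators. -/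
theorem rank_le_two_of_cyclic_index {S : Type*} [Group S] [Finite S] (C : Subgroup S)
    (hC : IsCyclic C) (hidx : C.index ≤ 2) (H : Subgroup S) : Group.rank H ≤ 2 := by
  classical
  let K : Subgroup H := C.subgroupOf H
  have hKc : IsCyclic K := by
    refine isCyclic_of_injective
      ((H.subtype.comp K.subtype).codRestrict C fun z => z.2) (fun u v h => ?_)
    exact Subtype.ext (Subtype.ext (show ((u : H) : S) = ((v : H) : S) from
      congrArg (fun w : C => (w : S)) h))
  have hKi : K.index ≤ 2 := by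
    refine le_trans (Subgroup.relIndex_le_of_le_right (L := ⊤) le_top ?_) ?_
    · rw [Subgroup.relIndex_top_right]; exact Subgroup.index_ne_zero_of_finite
    · rw [Subgroup.relIndex_top_right]; exact hidx
  obtain ⟨z, hz⟩ := hKc.exists_generator
  have hmem : ∀ w : H, ∀ y ∈ K, y ∈ Subgroup.closure ({(z : H), w} : Set H) := by
    intro w y hy
    obtain ⟨k, hk⟩ := Subgroup.mem_zpowers_iff.mp (hz ⟨y, hy⟩)
    have hyz : y = (z : H) ^ k := by rw [← Subgroup.coe_zpow, hk]
    rw [hyz]
    exact Subgroup.zpow_mem _ (Subgroup.subset_closure (Set.mem_insert _ _)) k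
  obtain ⟨w, hw⟩ : ∃ w : H, ∀ y : H, y ∈ K ∨ y * w⁻¹ ∈ K := by
    by_cases hK : K = ⊤
    · exact ⟨1, fun y => Or.inl (hK ▸ Subgroup.mem_top y)⟩
    have hK2 : K.index = 2 := by
      have h1 : K.index ≠ 1 := fun h => hK (Subgroup.index_eq_one.mp h)
      have h0 : K.index ≠ 0 := Subgroup.index_ne_zero_of_finite
      omega
    obtain ⟨w, hw⟩ : ∃ w, w ∉ K := by
      by_contra hall
      push Not at hall
      exact hK (eq_top_iff.mpr fun y _ => hall y)
    refine ⟨w, fun y => (em (y ∈ K)).imp_right fun hy => ?_⟩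
    rw [Subgroup.mul_mem_iff_of_index_two hK2, Subgroup.inv_mem_iff]
    exact iff_of_false hy hw
  refine (Group.rank_le (S := ({(z : H), w} : Finset H)) ?_).trans Finset.card_le_two
  rw [Finset.coe_pair, eq_top_iff]
  intro y _
  rcases hw y with hy | hy
  · exact hmem w y hy
  · simpa using Subgroup.mul_mem _ (hmem w _ hy)
      (Subgroup.subset_closure (Set.mem_insert_of_mem _ rfl) :
        w ∈ Subgroup.closure ({(z : H), w} : Set H))

end Cfsg.Lib.RankComplement
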