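import Cfsg.Agent.Counting.Frobenius

set_option autoImplicit false

/-! Elementary facts about real elements. -/

namespace Cfsg.Lib.Real'

open Subgroup

variable {G : Type*} [Group G] [Finite G]

/-- A real element is inverted by a 2-element. -/
theorem exists_two_element_inverting {g x : G} (h : g * x * g⁻¹ = x⁻¹) :
    ∃ t : G, (∃ j : ℕ, orderOf t = 2 ^ j) ∧ t * x * t⁻¹ = x⁻¹ := by
  obtain ⟨k, m, hm, hkm⟩ := Nat.exists_eq_pow_mul_and_not_dvd (orderOf_pos g).ne' 2 (by norm_num)
  have hodd : ∀ l : ℕ, g ^ (2 * l + 1) * x * (g ^ (2 * l + 1))⁻¹ = x⁻¹ := by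
    intro l
    induction l with
    | zero => simpa using h
    | succ l ih =>
      have h2 : g * x⁻¹ * g⁻¹ = x := by rw [← conj_inv, h, inv_inv]
      have e : g ^ (2 * (l + 1) + 1) = g * (g * g ^ (2 * l + 1)) := by
        rw [← pow_succ', ← pow_succ', show 2 * (l + 1) + 1 = 2 * l + 1 + 1 + 1 by ring]
      calc g ^ (2 * (l + 1) + 1) * x * (g ^ (2 * (l + 1) + 1))⁻¹
          = g * (g * (g ^ (2 * l + 1) * x * (g ^ (2 * l + 1))⁻¹) * g⁻¹) * g⁻¹ := by rw [e]; group
        _ = x⁻¹ := by rw [ih, h2, h]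
  obtain ⟨l, rfl⟩ : Odd m := Nat.not_even_iff_odd.mp fun he => hm he.two_dvd
  refine ⟨g ^ (2 * l + 1), ⟨k, ?_⟩, hodd l⟩
  rw [orderOf_pow' _ (by omega), hkm, Nat.gcd_mul_left_left, Nat.mul_div_cancel _ (by omega)]

/-- A real element with a conjugacy class of odd size squares to one. -/
theorem sq_eq_one_of_odd_index {x : G} (hx : IsConj x x⁻¹)
    (hodd : Odd (centralizer ({x} : Set G)).index) : x ^ 2 = 1 := by
  classical
  have := Fintype.ofFinite G
  by_contra hne
  have hxne : x ≠ x⁻¹ := fun e => hne (by rw [sq]; nth_rewrite 1 [e]; exact inv_mul_cancel x)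
  let C := (ConjClasses.mk x).carrier.toFinset
  have hmem : ∀ y, y ∈ C ↔ IsConj x y := fun y => by
    simp only [C, Set.mem_toFinset, ConjClasses.mem_carrier_iff_mk_eq,
      ConjClasses.mk_eq_mk_iff_isConj]
    exact isConj_comm
  have hsum : ∑ _y ∈ C, (1 : ZMod 2) = 0 := by
    refine Finset.sum_involution (fun y _ => y⁻¹) (fun _ _ => rfl) (fun y hy _ => ?_)
      (fun y hy => ?_) (fun y _ => inv_inv y)
    · intro e
      obtain ⟨c, hc⟩ := isConj_iff.mp ((hmem y).mp hy)
      have hx' : x = c⁻¹ * y * c := by rw [← hc]; group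
      refine hxne ?_
      rw [hx']
      conv_lhs => rw [← e]
      group
    · obtain ⟨c, hc⟩ := isConj_iff.mp ((hmem y).mp hy)
      exact (hmem _).mpr (hx.trans (isConj_iff.mpr ⟨c, by rw [← conj_inv, hc]⟩))
  rw [Finset.sum_const, nsmul_one, ZMod.natCast_eq_zero_iff] at hsum
  have hcard : C.card = (centralizer ({x} : Set G)).index := by
    have h1 := Cfsg.Lib.Counting.card_carrier_mul_centralizer x
    rw [← (centralizer ({x} : Set G)).card_mul_index,
      mul_comm (Nat.card (centralizer ({x} : Set G)))] at h1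
    rw [← Nat.eq_of_mul_eq_mul_right Nat.card_pos h1, Nat.card_eq_fintype_card, ← Set.toFinset_card]
  rw [hcard] at hsum
  exact Nat.not_even_iff_odd.mpr hodd (even_iff_two_dvd.mpr hsum)

/-- An element centralising a Sylow 2-subgroup has a class of odd size. -/
theorem odd_index_of_sylow_le {x : G} {S : Sylow 2 G}
    (h : (S : Subgroup G) ≤ centralizer ({x} : Set G)) : Odd (centralizer ({x} : Set G)).index := by
  have := Fact.mk Nat.prime_two
  exact Nat.not_even_iff_odd.mp fun he => S.not_dvd_index (he.two_dvd.trans (index_dvd_of_le h))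

end Cfsg.Lib.Real'
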