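import Cfsg.Agent.Counting.Frobenius
import Cfsg.Agent.S3995
import Cfsg.Agent.Chars.Burnside
import Cfsg.Agent.Coprime.Hall
import Cfsg.Prelude.Def_Solvable
import Mathlib

/-!
Groups of odd order whose element orders occur with three multiplicities.
-/

set_option autoImplicit false

namespace Cfsg.Lib.SameOrder

open scoped IsMulCommutative Pointwise

universe u

variable {G : Type u} [Group G] [Finite G]

/-- The number of elements of order `m`. -/
noncomputable def cnt (G : Type u) [Group G] (m : ℕ) : ℕ := Nat.card {g : G // orderOf g = m}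

theorem cnt_one : cnt G 1 = 1 := by
  rw [cnt, Nat.card_eq_one_iff_unique]
  exact ⟨⟨fun a b => Subtype.ext ((orderOf_eq_one_iff.1 a.2).trans (orderOf_eq_one_iff.1 b.2).symm)⟩,
    ⟨⟨1, orderOf_one⟩⟩⟩

theorem cnt_ne_zero_iff (m : ℕ) : cnt G m ≠ 0 ↔ ∃ g : G, orderOf g = m := by
  rw [cnt, Ne, Finite.card_eq_zero_iff, not_isEmpty_iff]
  exact ⟨fun ⟨g⟩ => ⟨g, g.2⟩, fun ⟨g, hg⟩ => ⟨⟨g, hg⟩⟩⟩

theorem cnt_prime_ne_zero {p : ℕ} (hp : p.Prime) (hd : p ∣ Nat.card G) : cnt G p ≠ 0 := by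
  have := Fact.mk hp
  exact (cnt_ne_zero_iff p).2 (exists_prime_orderOf_dvd_card' p hd)

theorem prime_of_cnt_ne_zero {p : ℕ} {m : ℕ} (hm : cnt G m ≠ 0) (hpm : p ∣ m) : p ∣ Nat.card G := by
  obtain ⟨g, rfl⟩ := (cnt_ne_zero_iff m).1 hm
  exact hpm.trans (orderOf_dvd_natCard g)

theorem cnt_even {m : ℕ} (hm : 3 ≤ m) : Even (cnt G m) :=
  (even_iff_two_dvd.2 ((Nat.totient_even (by omega)).two_dvd.trans (Cfsg.Agent.S3995.totient_dvd_card G m)))

/-- Frobenius' theorem as a sum over the divisors. -/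
theorem dvd_sum_divisors {n : ℕ} (hn : n ∣ Nat.card G) : n ∣ ∑ d ∈ n.divisors, cnt G d := by
  classical
  have := Fintype.ofFinite G
  have h1 := Cfsg.Lib.Counting.dvd_card_pow_eq_one _ (G := G) rfl n
  rw [Nat.gcd_eq_left hn] at h1
  have hn0 : n ≠ 0 := fun e => Nat.card_pos.ne' (zero_dvd_iff.1 (e ▸ hn))
  convert h1 using 1
  rw [Nat.card_eq_fintype_card, Fintype.card_subtype,
    Finset.card_eq_sum_card_fiberwise (f := (orderOf : G → ℕ)) (t := n.divisors) (fun g hg => by
      simp only [Finset.coe_filter, Finset.mem_univ, true_and, Set.mem_setOf_eq] at hg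
      exact Nat.mem_divisors.2 ⟨orderOf_dvd_of_pow_eq_one hg, hn0⟩)]
  refine Finset.sum_congr rfl fun d hd => ?_
  rw [cnt, Nat.card_eq_fintype_card, Fintype.card_subtype]
  congr 1
  ext g
  simp only [Finset.mem_filter, Finset.mem_univ, true_and]
  exact ⟨fun h => ⟨orderOf_dvd_iff_pow_eq_one.1 (h ▸ (Nat.mem_divisors.1 hd).1), h⟩, fun h => h.2⟩

theorem divisors_two {p q : ℕ} (hp : p.Prime) (hq : q.Prime) :
    (p * q).divisors = {1, p, q, p * q} := by
  ext d
  simp only [Nat.mem_divisors, Finset.mem_insert, Finset.mem_singleton]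
  constructor
  · rintro ⟨hd, -⟩
    obtain ⟨a, b, ha, hb, rfl⟩ := Nat.dvd_mul.1 hd
    rcases (Nat.dvd_prime hp).1 ha with rfl | rfl <;> rcases (Nat.dvd_prime hq).1 hb with rfl | rfl <;> simp
  · rintro (rfl | rfl | rfl | rfl) <;> simp [hp.ne_zero, hq.ne_zero]

theorem divisors_three {p q r : ℕ} (hp : p.Prime) (hq : q.Prime) (hr : r.Prime) :
    (p * q * r).divisors = {1, p, q, r, p * q, p * r, q * r, p * q * r} := by
  ext d
  simp only [Nat.mem_divisors, Finset.mem_insert, Finset.mem_singleton]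
  constructor
  · rintro ⟨hd, -⟩
    obtain ⟨x, c, hx, hc, rfl⟩ := Nat.dvd_mul.1 hd
    obtain ⟨a, b, ha, hb, rfl⟩ := Nat.dvd_mul.1 hx
    rcases (Nat.dvd_prime hp).1 ha with rfl | rfl <;> rcases (Nat.dvd_prime hq).1 hb with rfl | rfl <;>
      rcases (Nat.dvd_prime hr).1 hc with rfl | rfl <;> simp
  · rintro (rfl | rfl | rfl | rfl | rfl | rfl | rfl | rfl) <;>
      simp [hp.ne_zero, hq.ne_zero, hr.ne_zero, dvd_mul_of_dvd_left, dvd_mul_of_dvd_right,
        Nat.mul_dvd_mul_iff_right hr.pos, mul_dvd_mul_right]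

theorem zmod_one {p : ℕ} [Fact p.Prime] (hd : p ∣ Nat.card G) : (1 : ZMod p) + cnt G p = 0 := by
  have h := dvd_sum_divisors (G := G) hd
  rw [Nat.Prime.divisors Fact.out, Finset.sum_pair (Fact.out : p.Prime).one_lt.ne, cnt_one] at h
  have := (ZMod.natCast_eq_zero_iff _ _).2 h
  simpa using this

theorem zmod_two {s p q : ℕ} (hs : s ∣ p * q) (hp : p.Prime) (hq : q.Prime) (hpq : p ≠ q) (hpd : p ∣ Nat.card G)
    (hqd : q ∣ Nat.card G) : (1 : ZMod s) + cnt G p + cnt G q + cnt G (p * q) = 0 := by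
  have h := dvd_sum_divisors (G := G) (Nat.Coprime.mul_dvd_of_dvd_of_dvd ((Nat.coprime_primes hp hq).2 hpq) hpd hqd)
  rw [divisors_two hp hq] at h
  have h1 : p * q ≠ p := fun e => hq.ne_one (Nat.eq_of_mul_eq_mul_left hp.pos (by rw [e, mul_one]))
  have h2 : p * q ≠ q := fun e => hp.ne_one (Nat.eq_of_mul_eq_mul_right hq.pos (by rw [e, one_mul]))
  have h3 : 1 ≠ p * q := (Nat.one_lt_mul_iff.2 ⟨hp.pos, hq.pos, Or.inl hp.one_lt⟩).ne
  rw [Finset.sum_insert (by simp [hp.one_lt.ne, hq.one_lt.ne, h3]), Finset.sum_insert (by simp [hpq, h1.symm]),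
    Finset.sum_pair h2.symm, cnt_one] at h
  have := (ZMod.natCast_eq_zero_iff _ _).2 (hs.trans h)
  push_cast at this
  linear_combination this

theorem zmod_three {s p q r : ℕ} (hs : s ∣ p * q * r) (hp : p.Prime) (hq : q.Prime) (hr : r.Prime) (hpq : p ≠ q)
    (hpr : p ≠ r) (hqr : q ≠ r) (hpd : p ∣ Nat.card G) (hqd : q ∣ Nat.card G) (hrd : r ∣ Nat.card G) :
    (1 : ZMod s) + cnt G p + cnt G q + cnt G r + cnt G (p * q) + cnt G (p * r) + cnt G (q * r)
      + cnt G (p * q * r) = 0 := by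
  have hcpr := (Nat.coprime_primes hp hr).2 hpr
  have hcqr := (Nat.coprime_primes hq hr).2 hqr
  have h := dvd_sum_divisors (G := G) (Nat.Coprime.mul_dvd_of_dvd_of_dvd (Nat.Coprime.mul_left hcpr hcqr)
    (Nat.Coprime.mul_dvd_of_dvd_of_dvd ((Nat.coprime_primes hp hq).2 hpq) hpd hqd) hrd)
  rw [divisors_three hp hq hr] at h
  have e1 : ∀ a b : ℕ, a.Prime → b.Prime → 1 ≠ a * b ∧ a ≠ a * b ∧ b ≠ a * b := fun a b ha hb => by
    refine ⟨(Nat.one_lt_mul_iff.2 ⟨ha.pos, hb.pos, Or.inl ha.one_lt⟩).ne, ?_, ?_⟩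
    · nlinarith [ha.two_le, hb.two_le]
    · nlinarith [ha.two_le, hb.two_le]
  have e2 : ∀ a b c : ℕ, a.Prime → b.Prime → c.Prime → c ≠ a → c ≠ b → c ≠ a * b := fun a b c ha hb hc h1 h2 e => by
    rcases hc.dvd_mul.1 e.dvd with h | h
    · exact h1 ((Nat.prime_dvd_prime_iff_eq hc ha).1 h)
    · exact h2 ((Nat.prime_dvd_prime_iff_eq hc hb).1 h)
  have a1 := e1 p q hp hq
  have a2 := e1 p r hp hr
  have a3 := e1 q r hq hr
  have b1 := e2 p q r hp hq hr (Ne.symm hpr) (Ne.symm hqr)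
  have b2 := e2 p r q hp hr hq (Ne.symm hpq) hqr
  have b3 := e2 q r p hq hr hp hpq hpr
  have c1 : p * q ≠ p * r := fun e => hqr (Nat.eq_of_mul_eq_mul_left hp.pos e)
  have c2 : p * r ≠ q * r := fun e => hpq (Nat.eq_of_mul_eq_mul_right hr.pos e)
  have c3 : p * q ≠ q * r := fun e => hpr (Nat.eq_of_mul_eq_mul_left hq.pos (by rw [mul_comm q p]; exact e))
  have d1 : p * q < p * q * r := lt_mul_of_one_lt_right (Nat.mul_pos hp.pos hq.pos) hr.one_lt
  have d2 : p * r < p * q * r := by nlinarith [hp.two_le, hq.two_le, hr.two_le, Nat.mul_pos hp.pos hr.pos]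
  have d3 : q * r < p * q * r := by nlinarith [hp.two_le, hq.two_le, hr.two_le, Nat.mul_pos hq.pos hr.pos]
  have d0 : ∀ a : ℕ, a = 1 ∨ a = p ∨ a = q ∨ a = r → a ≠ p * q * r := by
    rintro a (rfl | rfl | rfl | rfl) <;>
      nlinarith [hp.two_le, hq.two_le, hr.two_le, Nat.mul_pos hp.pos hq.pos, Nat.mul_pos hp.pos hr.pos,
        Nat.mul_pos hq.pos hr.pos]
  rw [Finset.sum_insert (by simp [hp.one_lt.ne, hq.one_lt.ne, hr.one_lt.ne, a1.1, a2.1, a3.1, d0 1 (Or.inl rfl)]),
    Finset.sum_insert (by simp [hpq, hpr, a1.2.1, a2.2.1, b3, d0 p (Or.inr (Or.inl rfl))]),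
    Finset.sum_insert (by simp [hqr, a1.2.2, b2, a3.2.1, d0 q (Or.inr (Or.inr (Or.inl rfl)))]),
    Finset.sum_insert (by simp [b1, a2.2.2, a3.2.2, d0 r (Or.inr (Or.inr (Or.inr rfl)))]),
    Finset.sum_insert (by simp [c1, c3, d1.ne]), Finset.sum_insert (by simp [c2, d2.ne]),
    Finset.sum_pair d3.ne, cnt_one] at h
  have := (ZMod.natCast_eq_zero_iff _ _).2 (hs.trans h)
  push_cast at this
  linear_combination this

/-- If `r` does not divide the number of elements of order `n`, every `r`-subgroup centralises one. -/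
theorem exists_fixed {n r : ℕ} [Fact r.Prime] (hr : ¬ r ∣ cnt G n) (Q : Subgroup G) (hQ : IsPGroup r Q) :
    ∃ x : G, orderOf x = n ∧ ∀ y ∈ Q, y * x = x * y := by
  let _ : MulAction Q {g : G // orderOf g = n} :=
    { smul := fun y g => ⟨(y : G) * g.1 * (y : G)⁻¹, by rw [← MulAut.conj_apply, MulEquiv.orderOf_eq, g.2]⟩
      one_smul := fun g => Subtype.ext (by show ((1 : Q) : G) * g.1 * ((1 : Q) : G)⁻¹ = g.1; simp)
      mul_smul := fun a b g => Subtype.ext (by
        show ((a * b : Q) : G) * g.1 * ((a * b : Q) : G)⁻¹ = (a : G) * ((b : G) * g.1 * (b : G)⁻¹) * (a : G)⁻¹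
        simp [mul_assoc]) }
  obtain ⟨⟨x, hx⟩, hfix⟩ := hQ.nonempty_fixed_point_of_prime_not_dvd_card {g : G // orderOf g = n} hr
  exact ⟨x, hx, fun y hy => mul_inv_eq_iff_eq_mul.1 (congrArg Subtype.val (hfix ⟨y, hy⟩))⟩

theorem exists_mul {n r : ℕ} (hr : r.Prime) (hrd : r ∣ Nat.card G) (hco : n.Coprime r) (hn : ¬ r ∣ cnt G n) :
    cnt G (n * r) ≠ 0 := by
  have := Fact.mk hr
  obtain ⟨y, hy⟩ := exists_prime_orderOf_dvd_card' r hrd
  obtain ⟨x, hx, hc⟩ := exists_fixed hn (Subgroup.zpowers y)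
    (IsPGroup.of_card (n := 1) (by rw [Nat.card_zpowers, hy, pow_one]))
  refine (cnt_ne_zero_iff _).2 ⟨x * y, ?_⟩
  rw [(show Commute x y from (hc y (Subgroup.mem_zpowers y)).symm).orderOf_mul_eq_mul_orderOf_of_coprime
    (by rw [hx, hy]; exact hco), hx, hy]

/-- Exactly two multiplicities besides that of the identity. -/
def TwoValues (G : Type u) [Group G] : Prop :=
  ∃ a b : ℕ, ∀ m, cnt G m ≠ 0 → m ≠ 1 → cnt G m = a ∨ cnt G m = b

theorem twoValues_of_ncard (hodd : Odd (Nat.card G))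
    (h : (((fun m : ℕ => Nat.card {g : G // orderOf g = m}) '' Set.range (orderOf : G → ℕ))).ncard = 3) :
    TwoValues G := by
  set I := ((fun m : ℕ => Nat.card {g : G // orderOf g = m}) '' Set.range (orderOf : G → ℕ))
  have h1 : 1 ∈ I := ⟨1, ⟨1, orderOf_one⟩, cnt_one⟩
  have h2 : (I \ {1}).ncard = 2 := by rw [Set.ncard_sdiff_singleton_of_mem h1, h]
  obtain ⟨a, b, -, hab⟩ := Set.ncard_eq_two.1 h2
  refine ⟨a, b, fun m hm hm1 => ?_⟩
  obtain ⟨g, hg⟩ := (cnt_ne_zero_iff m).1 hm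
  have hm2 : m ≠ 2 := fun e => by
    have h2 : 2 ∣ Nat.card G := e ▸ hg ▸ orderOf_dvd_natCard g
    exact Nat.not_even_iff_odd.2 hodd (even_iff_two_dvd.2 h2)
  have hpos := hg ▸ orderOf_pos g
  have hne : cnt G m ≠ 1 := fun e => by
    have := cnt_even (G := G) (show 3 ≤ m by omega)
    rw [e] at this
    exact Nat.not_even_one this
  have h3 : cnt G m ∈ I \ {1} := ⟨⟨m, ⟨g, hg⟩, rfl⟩, hne⟩
  rw [hab] at h3
  exact h3

theorem TwoValues.eq_of_ne (h : TwoValues G) {x y z : ℕ} (hx : cnt G x ≠ 0) (hx1 : x ≠ 1) (hy : cnt G y ≠ 0)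
    (hy1 : y ≠ 1) (hz : cnt G z ≠ 0) (hz1 : z ≠ 1) (h1 : cnt G x ≠ cnt G z) (h2 : cnt G y ≠ cnt G z) :
    cnt G x = cnt G y := by
  obtain ⟨a, b, hab⟩ := h
  rcases hab x hx hx1 with e1 | e1 <;> rcases hab y hy hy1 with e2 | e2 <;> rcases hab z hz hz1 with e3 | e3 <;>
    omega

theorem two_ne_zero_zmod (hodd : Odd (Nat.card G)) {p : ℕ} (hp : p.Prime) (hd : p ∣ Nat.card G) :
    (2 : ZMod p) ≠ 0 := by
  intro e
  have h2 : ((2 : ℕ) : ZMod p) = 0 := by simpa using e
  obtain rfl := (Nat.prime_dvd_prime_iff_eq hp Nat.prime_two).1 ((ZMod.natCast_eq_zero_iff _ _).1 h2)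
  exact Nat.not_even_iff_odd.2 hodd (even_iff_two_dvd.2 hd)

theorem prime_mul_ne_one {p q : ℕ} (hp : p.Prime) : p * q ≠ 1 := fun e => hp.ne_one (Nat.eq_one_of_mul_eq_one_right e)

/-- Two primes with equal multiplicities: the third multiplicity and its congruence. -/
theorem pair_same (hodd : Odd (Nat.card G)) {p q : ℕ} (hp : p.Prime) (hq : q.Prime) (hpq : p ≠ q)
    (hpd : p ∣ Nat.card G) (hqd : q ∣ Nat.card G) (he : cnt G p = cnt G q) :
    cnt G (p * q) ≠ 0 ∧ cnt G (p * q) ≠ cnt G p ∧ (cnt G (p * q) : ZMod p) = 1 := by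
  have := Fact.mk hp
  have := Fact.mk hq
  have hnq : ¬ q ∣ cnt G p := fun h => by
    have h1 := zmod_one (G := G) hqd
    rw [← he, (ZMod.natCast_eq_zero_iff _ _).2 h, add_zero] at h1
    exact one_ne_zero h1
  have h1 := zmod_one (G := G) hpd
  have h2 := zmod_two (G := G) (dvd_mul_right p q) hp hq hpq hpd hqd
  rw [← he] at h2
  have hw : (cnt G (p * q) : ZMod p) = 1 := by linear_combination h2 - 2 * h1
  refine ⟨exists_mul hq hqd ((Nat.coprime_primes hp hq).2 hpq) hnq, fun e => ?_, hw⟩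
  rw [e] at hw
  exact two_ne_zero_zmod hodd hp hpd (by linear_combination h1 - hw)

theorem not_all_same (hodd : Odd (Nat.card G)) (hT : TwoValues G) {p q : ℕ} (hp : p.Prime) (hq : q.Prime)
    (hpq : p ≠ q) (hpd : p ∣ Nat.card G) (hqd : q ∣ Nat.card G)
    (hall : ∀ r, r.Prime → r ∣ Nat.card G → cnt G r = cnt G p) : False := by
  classical
  have := Fintype.ofFinite G
  set v := cnt G p
  have hexp : ∀ r, r.Prime → r ∣ Nat.card G → cnt G (r ^ 2) = 0 := by
    intro r hr hrd
    by_contra hne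
    have := Fact.mk hr
    obtain ⟨t, ht, htd, hrt⟩ : ∃ t, t.Prime ∧ t ∣ Nat.card G ∧ r ≠ t := by
      rcases eq_or_ne r p with rfl | h
      · exact ⟨q, hq, hqd, hpq⟩
      · exact ⟨p, hp, hpd, h⟩
    obtain ⟨hne', hw', hw1⟩ := pair_same hodd hr ht hrt hrd htd ((hall r hr hrd).trans (hall t ht htd).symm)
    have hdiv : r ∣ cnt G (r ^ 2) := by
      refine dvd_trans ?_ (Cfsg.Agent.S3995.totient_dvd_card G (r ^ 2))
      rw [Nat.totient_prime_pow hr (by norm_num)]
      exact Dvd.intro (r - 1) (by rw [pow_one])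
    have hz : (cnt G (r ^ 2) : ZMod r) = 0 := (ZMod.natCast_eq_zero_iff _ _).2 hdiv
    have hne2 : cnt G (r ^ 2) ≠ cnt G r := fun e => by
      have h1 := zmod_one (G := G) hrd
      rw [← e, hz, add_zero] at h1
      exact one_ne_zero h1
    have := hT.eq_of_ne hne (Nat.one_lt_pow two_ne_zero hr.one_lt).ne' hne' (prime_mul_ne_one hr)
      (cnt_prime_ne_zero hr hrd) hr.ne_one hne2 hw'
    rw [this, hw1] at hz
    exact one_ne_zero hz
  have hdvd : Nat.card G ∣ 1 + v := by
    rw [Nat.dvd_iff_prime_pow_dvd_dvd]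
    intro r k hr hk
    rcases Nat.eq_zero_or_pos k with rfl | hk0
    · rw [pow_zero]; exact one_dvd _
    have hrd : r ∣ Nat.card G := (dvd_pow_self r hk0.ne').trans hk
    have h := dvd_sum_divisors (G := G) hk
    rw [Nat.divisors_prime_pow hr, Finset.sum_map] at h
    have hsum : ∑ i ∈ Finset.range (k + 1), cnt G (r ^ i) = 1 + v := by
      rw [Finset.sum_eq_add 0 1 (by norm_num) (fun i hi hne => ?_) (fun h0 => ?_) (fun h1 => ?_),
        pow_zero, pow_one, cnt_one, hall r hr hrd]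
      · by_contra hc
        obtain ⟨g, hg⟩ := (cnt_ne_zero_iff _).1 hc
        refine (cnt_ne_zero_iff (r ^ 2)).2 ⟨g ^ r ^ (i - 2), ?_⟩ (hexp r hr hrd)
        rw [orderOf_pow' g (pow_ne_zero _ hr.ne_zero), hg, Nat.gcd_eq_right (pow_dvd_pow r (Nat.sub_le i 2)),
          Nat.pow_div (Nat.sub_le i 2) hr.pos]
        congr 1
        obtain ⟨hi0, hi1⟩ := hne
        omega
      · exact absurd (Finset.mem_range.2 (by omega)) h0
      · exact absurd (Finset.mem_range.2 (by omega)) h1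
    exact hsum ▸ h
  have hv : 0 < v := Nat.pos_of_ne_zero (cnt_prime_ne_zero hp hpd)
  have hle := Nat.le_of_dvd (by omega) hdvd
  have hbig : 1 + v + v ≤ Nat.card G := by
    set A := Finset.univ.filter fun g : G => orderOf g = p
    set B := Finset.univ.filter fun g : G => orderOf g = q
    have hA : A.card = v := by
      simp only [v, cnt, A, Nat.card_eq_fintype_card, Fintype.card_subtype]
    have hB : B.card = v := by
      rw [show v = cnt G q from (hall q hq hqd).symm]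
      simp only [cnt, B, Nat.card_eq_fintype_card, Fintype.card_subtype]
    have hd : Disjoint A B := Finset.disjoint_left.2 fun g ha hb => by
      simp only [A, B, Finset.mem_filter, Finset.mem_univ, true_and] at ha hb
      exact hpq (ha.symm.trans hb)
    have h1 : (1 : G) ∉ A ∪ B := by
      simp only [A, B, Finset.mem_union, Finset.mem_filter, Finset.mem_univ, true_and, orderOf_one]
      rintro (e | e)
      · exact hp.ne_one e.symm
      · exact hq.ne_one e.symm
    have := Finset.card_le_univ (insert (1 : G) (A ∪ B))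
    rw [Finset.card_insert_of_notMem h1, Finset.card_union_of_disjoint hd, hA, hB, ← Nat.card_eq_fintype_card] at this
    omega
  omega

theorem triple_false (hodd : Odd (Nat.card G)) (hT : TwoValues G) {p q r : ℕ} (hp : p.Prime) (hq : q.Prime)
    (hr : r.Prime) (hpq : p ≠ q) (hpd : p ∣ Nat.card G) (hqd : q ∣ Nat.card G) (hrd : r ∣ Nat.card G)
    (he : cnt G p = cnt G q) (hne : cnt G r ≠ cnt G p) : False := by
  have := Fact.mk hp
  have := Fact.mk hq
  have := Fact.mk hr
  have hpr : p ≠ r := fun e => hne (e ▸ rfl)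
  have hqr : q ≠ r := fun e => hne (e ▸ he.symm)
  obtain ⟨hn0, hwne, hwp⟩ := pair_same hodd hp hq hpq hpd hqd he
  obtain ⟨-, -, hwq⟩ := pair_same hodd hq hp hpq.symm hqd hpd he.symm
  rw [mul_comm q p] at hwq
  have hwr : cnt G (p * q) = cnt G r := hT.eq_of_ne hn0 (prime_mul_ne_one hp) (cnt_prime_ne_zero hr hrd) hr.ne_one
    (cnt_prime_ne_zero hp hpd) hp.ne_one hwne hne
  have hr1 := zmod_one (G := G) hrd
  have key : ∀ t, t.Prime → t ∣ Nat.card G → t ≠ r → cnt G t = cnt G p → (cnt G r : ZMod t) = 1 →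
      cnt G (t * r) ≠ 0 ∧ cnt G (t * r) = cnt G p := by
    intro t ht htd htr hte htw
    have := Fact.mk ht
    have hnd : ¬ t ∣ cnt G r := fun h => by
      rw [(ZMod.natCast_eq_zero_iff _ _).2 h] at htw
      exact zero_ne_one htw
    have hex : cnt G (t * r) ≠ 0 := mul_comm t r ▸ exists_mul ht htd ((Nat.coprime_primes hr ht).2 htr.symm) hnd
    refine ⟨hex, hT.eq_of_ne hex (prime_mul_ne_one ht) (cnt_prime_ne_zero hp hpd) hp.ne_one
      (cnt_prime_ne_zero hr hrd) hr.ne_one (fun e => ?_) hne.symm⟩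
    have h1 := zmod_one (G := G) htd
    have h2 := zmod_two (G := G) (dvd_mul_right t r) ht hr htr htd hrd
    rw [e] at h2
    exact two_ne_zero_zmod hodd ht htd (by linear_combination h2 - h1 - 2 * htw + 2 * htw - 2 * htw + 0)
  obtain ⟨hpr0, hprv⟩ := key p hp hpd hpr rfl (hwr ▸ hwp)
  obtain ⟨hqr0, hqrv⟩ := key q hq hqd hqr he.symm (hwr ▸ hwq)
  have hrv : (cnt G p : ZMod r) = 0 := by
    have h2 := zmod_two (G := G) (dvd_mul_left r p) hp hr hpr hpd hrd
    rw [hprv] at h2
    have h3 : (2 : ZMod r) * cnt G p = 0 := by linear_combination h2 - hr1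
    exact (mul_eq_zero.1 h3).resolve_left (two_ne_zero_zmod hodd hr hrd)
  -- no element of order `p * q * r`
  have hno : cnt G (p * q * r) = 0 := by
    by_contra hne3
    have hp3 := zmod_three (G := G) (dvd_mul_of_dvd_left (dvd_mul_right p q) r) hp hq hr hpq hpr hqr hpd hqd hrd
    have hr3 := zmod_three (G := G) (dvd_mul_left r (p * q)) hp hq hr hpq hpr hqr hpd hqd hrd
    rw [← he, hwr, hprv, hqrv] at hp3 hr3
    have hp1 := zmod_one (G := G) hpd
    have hw' : (cnt G r : ZMod p) = 1 := hwr ▸ hwp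
    have hsp : (cnt G (p * q * r) : ZMod p) = 1 := by linear_combination hp3 - 4 * hp1 - 2 * hw'
    have hne' : cnt G (p * q * r) ≠ cnt G p := fun e => by
      rw [e] at hsp
      exact two_ne_zero_zmod hodd hp hpd (by linear_combination hp1 - hsp)
    have heq : cnt G (p * q * r) = cnt G r := hT.eq_of_ne hne3
      (fun e => hr.ne_one (Nat.eq_one_of_mul_eq_one_left e))
      (cnt_prime_ne_zero hr hrd) hr.ne_one (cnt_prime_ne_zero hp hpd) hp.ne_one hne' hne
    rw [heq] at hr3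
    exact two_ne_zero_zmod hodd hr hrd (by linear_combination -hr3 + 3 * hr1 + 4 * hrv)
  -- but then `r` divides the number of elements of order `p * q`
  refine exists_mul hr hrd (Nat.Coprime.mul_left ((Nat.coprime_primes hp hr).2 hpr)
    ((Nat.coprime_primes hq hr).2 hqr)) (fun h => ?_) hno
  rw [hwr] at h
  rw [(ZMod.natCast_eq_zero_iff _ _).2 h, add_zero] at hr1
  exact one_ne_zero hr1

theorem primeFactors_card_le (hodd : Odd (Nat.card G)) (hT : TwoValues G) :
    (Nat.card G).primeFactors.card ≤ 2 := by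
  by_contra! hlt
  obtain ⟨p, hp, q, hq, r, hr, hpq, hpr, hqr⟩ := Finset.two_lt_card.1 hlt
  rw [Nat.mem_primeFactors] at hp hq hr
  have main : ∀ a b, a.Prime → b.Prime → a ≠ b → a ∣ Nat.card G → b ∣ Nat.card G → cnt G a = cnt G b → False := by
    intro a b ha hb hab had hbd he
    by_cases hall : ∀ c, c.Prime → c ∣ Nat.card G → cnt G c = cnt G a
    · exact not_all_same hodd hT ha hb hab had hbd hall
    · push Not at hall
      obtain ⟨c, hc, hcd, hne⟩ := hall
      exact triple_false hodd hT ha hb hc hab had hbd hcd he hne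
  obtain ⟨a, b, hab⟩ := hT
  rcases hab p (cnt_prime_ne_zero hp.1 hp.2.1) hp.1.ne_one with e1 | e1 <;>
    rcases hab q (cnt_prime_ne_zero hq.1 hq.2.1) hq.1.ne_one with e2 | e2 <;>
    rcases hab r (cnt_prime_ne_zero hr.1 hr.2.1) hr.1.ne_one with e3 | e3 <;>
    first
    | exact main p q hp.1 hq.1 hpq hp.2.1 hq.2.1 (e1.trans e2.symm)
    | exact main p r hp.1 hr.1 hpr hp.2.1 hr.2.1 (e1.trans e3.symm)
    | exact main q r hq.1 hr.1 hqr hq.2.1 hr.2.1 (e2.trans e3.symm)

/-- With different multiplicities for the two primes, no product order has that of the first. -/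
theorem cnt_mul_ne (hodd : Odd (Nat.card G)) {p q : ℕ} (hp : p.Prime) (hq : q.Prime) (hpq : p ≠ q)
    (hpd : p ∣ Nat.card G) (hqd : q ∣ Nat.card G) : cnt G (p * q) ≠ cnt G p := by
  intro e
  have := Fact.mk hp
  have := Fact.mk hq
  classical
  have h1 := zmod_one (G := G) hpd
  have h2 := zmod_two (G := G) (dvd_mul_right p q) hp hq hpq hpd hqd
  rw [e] at h2
  have hnd : ¬ p ∣ cnt G q := fun h => by
    rw [(ZMod.natCast_eq_zero_iff _ _).2 h] at h2
    exact one_ne_zero (show (1 : ZMod p) = 0 by linear_combination 2 * h1 - h2)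
  obtain ⟨P⟩ : Nonempty (Sylow p G) := Sylow.nonempty
  obtain ⟨y, hy, hyP⟩ := exists_fixed hnd (P : Subgroup G) P.2
  have hall : ∀ x : {g : G // orderOf g = p}, ∃ y' : G, orderOf y' = q ∧ Commute x.1 y' := by
    intro x
    obtain ⟨P', hP'⟩ := (IsPGroup.of_card (p := p) (n := 1) (show Nat.card ↥(Subgroup.zpowers x.1) = p ^ 1 by
      rw [Nat.card_zpowers, x.2, pow_one])).exists_le_sylow
    obtain ⟨g, rfl⟩ := MulAction.exists_smul_eq G P P'
    have hx : x.1 ∈ MulAut.conj g • (P : Subgroup G) := by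
      have := hP' (Subgroup.mem_zpowers x.1)
      rwa [Sylow.coe_subgroup_smul] at this
    rw [Subgroup.mem_pointwise_smul_iff_inv_smul_mem, MulAut.smul_def, MulAut.conj_inv_apply] at hx
    refine ⟨MulAut.conj g y, by rw [MulEquiv.orderOf_eq, hy], ?_⟩
    have h3 := congrArg (MulAut.conj g) (hyP _ hx)
    rw [map_mul (MulAut.conj g) (g⁻¹ * x.1 * g) y, map_mul (MulAut.conj g) y (g⁻¹ * x.1 * g),
      show MulAut.conj g (g⁻¹ * x.1 * g) = x.1 by simp [MulAut.conj_apply, mul_assoc]] at h3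
    exact h3
  choose f hf hc using hall
  let φ : {g : G // orderOf g = p} × Bool → {g : G // orderOf g = p * q} := fun z =>
    ⟨z.1.1 * bif z.2 then f z.1 else (f z.1)⁻¹, by
      rcases z.2 with _ | _
      · rw [cond_false, (hc z.1).inv_right.orderOf_mul_eq_mul_orderOf_of_coprime
          (by rw [orderOf_inv, hf, z.1.2]; exact (Nat.coprime_primes hp hq).2 hpq), orderOf_inv, hf, z.1.2]
      · rw [cond_true, (hc z.1).orderOf_mul_eq_mul_orderOf_of_coprime
          (by rw [hf, z.1.2]; exact (Nat.coprime_primes hp hq).2 hpq), hf, z.1.2]⟩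
  have hφ : Function.Injective φ := by
    rintro ⟨x, i⟩ ⟨x', j⟩ h
    have h3 : x.1 * (bif i then f x else (f x)⁻¹) = x'.1 * (bif j then f x' else (f x')⁻¹) := congrArg Subtype.val h
    have hpow : ∀ (w : {g : G // orderOf g = p}) (k : Bool), (w.1 * (bif k then f w else (f w)⁻¹)) ^ q = w.1 ^ q := by
      intro w k
      have hq1 : f w ^ q = 1 := by rw [← hf w]; exact pow_orderOf_eq_one _
      rcases k with _ | _
      · rw [cond_false, (hc w).inv_right.mul_pow, inv_pow, hq1, inv_one, mul_one]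
      · rw [cond_true, (hc w).mul_pow, hq1, mul_one]
    have h4 := congrArg (fun g : G => g ^ q) h3
    simp only [hpow] at h4
    have hxx : x = x' := by
      refine Subtype.ext ?_
      obtain ⟨c, -, hc1⟩ := Nat.exists_mul_mod_eq_one_of_coprime ((Nat.coprime_primes hq hp).2 hpq.symm) hp.one_lt
      have e1 : ∀ w : {g : G // orderOf g = p}, (w.1 ^ q) ^ c = w.1 := fun w => by
        rw [← pow_mul, ← pow_mod_orderOf, w.2, hc1, pow_one]
      rw [← e1 x, ← e1 x', h4]
    subst hxx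
    have h5 := mul_left_cancel h3
    have hne : f x ≠ (f x)⁻¹ := fun e' => by
      have h6 : f x ^ 2 = 1 := by
        calc f x ^ 2 = f x * f x := sq _
          _ = f x * (f x)⁻¹ := by rw [← e']
          _ = 1 := mul_inv_cancel _
      have h7 := orderOf_dvd_of_pow_eq_one h6
      rw [hf] at h7
      obtain rfl := (Nat.prime_dvd_prime_iff_eq hq Nat.prime_two).1 h7
      exact Nat.not_even_iff_odd.2 hodd (even_iff_two_dvd.2 hqd)
    rcases i with _ | _ <;> rcases j with _ | _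
    · rfl
    · exact absurd h5.symm hne
    · exact absurd h5 hne
    · rfl
  have hle := Nat.card_le_card_of_injective φ hφ
  rw [Nat.card_prod, Nat.card_eq_fintype_card (α := Bool), Fintype.card_bool] at hle
  change cnt G p * 2 ≤ cnt G (p * q) at hle
  have := Nat.pos_of_ne_zero (cnt_prime_ne_zero hp hpd)
  omega

theorem no_mixed (hodd : Odd (Nat.card G)) (hT : TwoValues G) {p q : ℕ} (hp : p.Prime) (hq : q.Prime)
    (hpq : p ≠ q) (hpd : p ∣ Nat.card G) (hqd : q ∣ Nat.card G) (hne : cnt G p ≠ cnt G q) :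
    cnt G (p * q) = 0 := by
  by_contra h0
  obtain ⟨a, b, hab⟩ := hT
  have h1 := cnt_mul_ne hodd hp hq hpq hpd hqd
  have h2 := cnt_mul_ne hodd hq hp hpq.symm hqd hpd
  rw [mul_comm q p] at h2
  rcases hab _ h0 (prime_mul_ne_one hp) with e | e <;>
    rcases hab p (cnt_prime_ne_zero hp hpd) hp.ne_one with e1 | e1 <;>
    rcases hab q (cnt_prime_ne_zero hq hqd) hq.ne_one with e2 | e2 <;> omega

theorem no_square (hT : TwoValues G) {p q : ℕ} (hp : p.Prime) (hq : q.Prime)
    (hpq : p ≠ q) (hpd : p ∣ Nat.card G) (hqd : q ∣ Nat.card G) (hne : cnt G p ≠ cnt G q)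
    (hmix : cnt G (p * q) = 0) : cnt G (p ^ 2) = 0 := by
  by_contra h0
  have := Fact.mk hp
  have := Fact.mk hq
  have hdiv : p ∣ cnt G (p ^ 2) := by
    refine dvd_trans ?_ (Cfsg.Agent.S3995.totient_dvd_card G (p ^ 2))
    rw [Nat.totient_prime_pow hp (by norm_num)]
    exact Dvd.intro (p - 1) (by rw [pow_one])
  have hne2 : cnt G (p ^ 2) ≠ cnt G p := fun e => by
    have h1 := zmod_one (G := G) hpd
    rw [← e, (ZMod.natCast_eq_zero_iff _ _).2 hdiv, add_zero] at h1
    exact one_ne_zero h1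
  have heq : cnt G (p ^ 2) = cnt G q := hT.eq_of_ne h0 (Nat.one_lt_pow two_ne_zero hp.one_lt).ne'
    (cnt_prime_ne_zero hq hqd) hq.ne_one (cnt_prime_ne_zero hp hpd) hp.ne_one hne2 hne.symm
  have hex := exists_mul (G := G) hq hqd (Nat.Coprime.pow_left 2 ((Nat.coprime_primes hp hq).2 hpq)) fun h => by
    have h1 := zmod_one (G := G) hqd
    rw [← heq, (ZMod.natCast_eq_zero_iff _ _).2 h, add_zero] at h1
    exact one_ne_zero h1
  obtain ⟨g, hg⟩ := (cnt_ne_zero_iff _).1 hex
  refine (cnt_ne_zero_iff (p * q)).2 ⟨g ^ p, ?_⟩ hmix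
  rw [orderOf_pow' g hp.ne_zero, hg, Nat.gcd_eq_right (dvd_mul_of_dvd_left (dvd_pow_self p two_ne_zero) q)]
  rw [pow_two, mul_assoc, Nat.mul_div_cancel_left _ hp.pos]

/-- In a two-prime group of this kind each element has order one or one of the primes. -/
theorem pow_eq_one (hodd : Odd (Nat.card G)) (hT : TwoValues G) {p q : ℕ} (hp : p.Prime) (hq : q.Prime)
    (hpq : p ≠ q) (hPF : (Nat.card G).primeFactors = {p, q}) (g : G) : g ^ p = 1 ∨ g ^ q = 1 := by
  have hpd : p ∣ Nat.card G := (Nat.mem_primeFactors.1 (hPF ▸ Finset.mem_insert_self p {q})).2.1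
  have hqd : q ∣ Nat.card G := (Nat.mem_primeFactors.1 (hPF ▸ Finset.mem_insert_of_mem (Finset.mem_singleton_self q))).2.1
  have hne : cnt G p ≠ cnt G q := fun e => not_all_same hodd hT hp hq hpq hpd hqd fun r hr hrd => by
    have : r ∈ ({p, q} : Finset ℕ) := hPF ▸ Nat.mem_primeFactors.2 ⟨hr, hrd, Nat.card_pos.ne'⟩
    rcases Finset.mem_insert.1 this with h | h
    · rw [h]
    · rw [Finset.mem_singleton.1 h, e]
  have hmix := no_mixed hodd hT hp hq hpq hpd hqd hne
  have hp2 := no_square hT hp hq hpq hpd hqd hne hmix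
  have hq2 := no_square hT hq hp hpq.symm hqd hpd hne.symm (mul_comm p q ▸ hmix)
  have hnd : ∀ d, cnt G d = 0 → ¬ d ∣ orderOf g := fun d h0 hd =>
    (cnt_ne_zero_iff d).2 ⟨_, orderOf_pow_orderOf_div (orderOf_pos g).ne' hd⟩ h0
  have hsq : ∀ r : ℕ, r.Prime → r * r ∣ orderOf g → False := fun r hr hd => by
    have hrd : r ∣ Nat.card G := (dvd_mul_right r r).trans (hd.trans (orderOf_dvd_natCard g))
    have : r ∈ ({p, q} : Finset ℕ) := hPF ▸ Nat.mem_primeFactors.2 ⟨hr, hrd, Nat.card_pos.ne'⟩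
    rcases Finset.mem_insert.1 this with h | h
    · exact hnd _ hp2 (by rw [pow_two, ← h]; exact hd)
    · exact hnd _ hq2 (by rw [pow_two, ← Finset.mem_singleton.1 h]; exact hd)
  have hsf : Squarefree (orderOf g) := Nat.squarefree_iff_prime_squarefree.2 hsq
  have hsub : (orderOf g).primeFactors ⊆ ({p, q} : Finset ℕ) :=
    hPF ▸ Nat.primeFactors_mono (orderOf_dvd_natCard g) Nat.card_pos.ne'
  have hd : orderOf g ∣ p * q := by
    conv_lhs => rw [← Nat.prod_primeFactors_of_squarefree hsf]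
    rw [← Finset.prod_pair (f := fun x : ℕ => x) hpq]
    exact Finset.prod_dvd_prod_of_subset _ _ _ hsub
  obtain ⟨a, b, ha, hb, hab⟩ := Nat.dvd_mul.1 hd
  rcases (Nat.dvd_prime hp).1 ha with rfl | rfl
  · exact Or.inr (orderOf_dvd_iff_pow_eq_one.1 (by rw [← hab, one_mul]; exact hb))
  · rcases (Nat.dvd_prime hq).1 hb with rfl | rfl
    · exact Or.inl (orderOf_dvd_iff_pow_eq_one.1 (by rw [← hab, mul_one]))
    · exact absurd (hab ▸ dvd_rfl) (hnd _ hmix)

section Complement

variable {p q : ℕ}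

theorem not_commute (hp : p.Prime) (hq : q.Prime) (hpq : p ≠ q) (hall : ∀ g : G, g ^ p = 1 ∨ g ^ q = 1) {x y : G}
    (hx : x ^ p = 1) (hx1 : x ≠ 1) (hy : y ^ q = 1) (hy1 : y ≠ 1) : ¬ Commute x y := by
  intro hc
  have := Fact.mk hp
  have := Fact.mk hq
  have h1 := orderOf_eq_prime hx hx1
  have h2 := orderOf_eq_prime hy hy1
  have h3 : orderOf (x * y) = p * q := by
    rw [hc.orderOf_mul_eq_mul_orderOf_of_coprime (by rw [h1, h2]; exact (Nat.coprime_primes hp hq).2 hpq), h1, h2]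
  rcases hall (x * y) with e | e <;> have h4 := orderOf_dvd_of_pow_eq_one e <;> rw [h3] at h4
  · exact hq.ne_one (Nat.eq_one_of_dvd_coprimes ((Nat.coprime_primes hq hp).2 hpq.symm) dvd_rfl
      ((dvd_mul_left q p).trans h4))
  · exact hp.ne_one (Nat.eq_one_of_dvd_coprimes ((Nat.coprime_primes hp hq).2 hpq) dvd_rfl
      ((dvd_mul_right p q).trans h4))

variable {N : Subgroup G} [N.Normal] [IsMulCommutative ↥N]

theorem mul_pow_eq (x : G) (n : ↥N) : ∀ k : ℕ,
    ((n : G) * x) ^ k = ((∏ i ∈ Finset.range k, MulAut.conjNormal (x ^ i) n : ↥N) : G) * x ^ k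
  | 0 => by simp
  | k + 1 => by
    rw [pow_succ, mul_pow_eq x n k, Finset.prod_range_succ, Subgroup.coe_mul, MulAut.conjNormal_apply,
      pow_succ]
    group

theorem conj_comp (a b : G) (n : ↥N) :
    MulAut.conjNormal a (MulAut.conjNormal b n) = MulAut.conjNormal (a * b) n := by
  rw [map_mul]
  rfl

theorem commute_of_conj_eq {a : G} {m : ↥N} (h : MulAut.conjNormal a m = m) : Commute (m : G) a := by
  have h1 := congrArg Subtype.val h
  rw [MulAut.conjNormal_apply, mul_inv_eq_iff_eq_mul] at h1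
  exact h1.symm

/-- A group all of whose elements have order `1`, `p` or `q` has a Frobenius complement of prime order. -/
theorem exists_complement (hp : p.Prime) (hq : q.Prime) (hpq : p ≠ q) (hqd : q ∣ Nat.card G)
    (hpd : p ∣ Nat.card G) (hN : N ≠ ⊥) (hNp : ∀ x ∈ N, x ^ p = 1) (hall : ∀ g : G, g ^ p = 1 ∨ g ^ q = 1) :
    ∃ C : Subgroup G, Cfsg.IsFrobeniusComplement C ∧ (Nat.card ↥C).Prime := by
  classical
  have := Fact.mk hp
  have := Fact.mk hq
  obtain ⟨n, hn1⟩ := N.ne_bot_iff_exists_ne_one.1 hN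
  have hnp : ∀ m : ↥N, (m : G) ^ p = 1 := fun m => hNp _ m.2
  have fixone : ∀ (m : ↥N) (a : G), a ^ q = 1 → a ≠ 1 → MulAut.conjNormal a m = m → m = 1 := by
    intro m a ha ha1 h
    by_contra hm
    exact not_commute hp hq hpq hall (hNp _ m.2) (fun e => hm (Subtype.ext e)) ha ha1 (commute_of_conj_eq h)
  have normone : ∀ (m : ↥N) (a : G), a ^ q = 1 → a ≠ 1 →
      ∏ i ∈ Finset.range q, MulAut.conjNormal (a ^ i) m = 1 := by
    intro m a ha ha1
    refine fixone _ a ha ha1 ?_
    rw [map_prod]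
    obtain ⟨k, hk⟩ : ∃ k, q = k + 1 := ⟨q - 1, by have := hq.pos; omega⟩
    rw [Finset.prod_congr rfl fun i _ => conj_comp a (a ^ i) m, hk, Finset.prod_range_succ,
      Finset.prod_range_succ' (fun i => MulAut.conjNormal (a ^ i) m), pow_zero, ← pow_succ', ← hk, ha]
    congr 1
    exact Finset.prod_congr rfl fun i _ => by rw [pow_succ']
  have kill : ∀ m : ↥N, m ^ q = 1 → m = 1 := fun m hm => by
    have h1 : orderOf m ∣ p := orderOf_dvd_of_pow_eq_one (Subtype.ext (by rw [Subgroup.coe_pow, hnp m]; rfl))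
    exact orderOf_eq_one_iff.1
      (Nat.eq_one_of_dvd_coprimes ((Nat.coprime_primes hp hq).2 hpq) h1 (orderOf_dvd_of_pow_eq_one hm))
  -- the Sylow subgroup has order `q`
  have hq2 : ¬ q ^ 2 ∣ Nat.card G := by
    intro hd
    obtain ⟨E, hE⟩ := Sylow.exists_subgroup_card_pow_prime q hd
    have hEq : ∀ h : ↥E, (h : G) ^ q = 1 := by
      intro h
      rcases hall (h : G) with e | e
      · have h1 := Subgroup.orderOf_dvd_natCard E h.2
        rw [hE] at h1
        have := Nat.eq_one_of_dvd_coprimes (Nat.Coprime.pow_right 2 ((Nat.coprime_primes hp hq).2 hpq))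
          (orderOf_dvd_of_pow_eq_one e) h1
        rw [orderOf_eq_one_iff.1 this, one_pow]
      · exact e
    let _ := IsPGroup.commGroupOfCardEqPrimeSq (p := q) (G := ↥E) hE
    have : Nontrivial ↥E := Finite.one_lt_card_iff_nontrivial.1 (by rw [hE]; exact Nat.one_lt_pow two_ne_zero hq.one_lt)
    obtain ⟨b, hb⟩ := exists_ne (1 : ↥E)
    obtain ⟨a, ha⟩ : ∃ a : ↥E, a ∉ Subgroup.zpowers b := by
      by_contra! hcon
      have h1 := Subgroup.card_le_of_le (H := (⊤ : Subgroup ↥E)) (K := Subgroup.zpowers b) fun x _ => hcon x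
      rw [Subgroup.card_top, hE, Nat.card_zpowers] at h1
      have h2 : orderOf b ∣ q := orderOf_dvd_of_pow_eq_one (Subtype.ext (by rw [Subgroup.coe_pow, hEq b]; rfl))
      have := Nat.le_of_dvd hq.pos h2
      nlinarith [hq.two_le]
    have hcomm : Commute (a : G) (b : G) := congrArg Subtype.val (mul_comm a b)
    have hne : ∀ i : ℕ, (a : G) * (b : G) ^ i ≠ 1 := fun i e => ha (by
      rw [show a = (b ^ i)⁻¹ from eq_inv_of_mul_eq_one_left (Subtype.ext e)]
      exact Subgroup.inv_mem _ (Subgroup.pow_mem _ (Subgroup.mem_zpowers b) i))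
    have hb1 : (b : G) ≠ 1 := fun e => hb (Subtype.ext e)
    have hex : ∀ i : ℕ, ((a : G) * (b : G) ^ i) ^ q = 1 := fun i => by
      rw [(hcomm.pow_right i).mul_pow, hEq a, one_mul, ← pow_mul, mul_comm, pow_mul, hEq b, one_pow]
    have h0 : ∏ i ∈ Finset.range q, ∏ j ∈ Finset.range q,
        MulAut.conjNormal (((a : G) * (b : G) ^ i) ^ j) n = 1 :=
      Finset.prod_eq_one fun i _ => normone n _ (hex i) (hne i)
    rw [Finset.prod_comm] at h0
    have hrest : ∀ j ∈ Finset.range q, j ≠ 0 →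
        ∏ i ∈ Finset.range q, MulAut.conjNormal (((a : G) * (b : G) ^ i) ^ j) n = 1 := by
      intro j hj hj0
      have e : ∀ i : ℕ, MulAut.conjNormal (((a : G) * (b : G) ^ i) ^ j) n =
          MulAut.conjNormal (((b : G) ^ j) ^ i) (MulAut.conjNormal ((a : G) ^ j) n) := fun i => by
        rw [conj_comp]
        congr 2
        rw [(hcomm.pow_right i).mul_pow, ← pow_mul, ← pow_mul, mul_comm j i, ((hcomm.pow_pow j (i * j))).eq]
      rw [Finset.prod_congr rfl fun i _ => e i]
      refine normone _ _ (by rw [← pow_mul, mul_comm, pow_mul, hEq b, one_pow]) fun e' => ?_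
      have h1 := orderOf_dvd_of_pow_eq_one e'
      rw [orderOf_eq_prime (hEq b) hb1] at h1
      have := Nat.le_of_dvd (Nat.pos_of_ne_zero hj0) h1
      have := Finset.mem_range.1 hj
      omega
    rw [Finset.prod_eq_single_of_mem 0 (Finset.mem_range.2 hq.pos) hrest] at h0
    simp only [pow_zero, map_one, MulAut.one_apply, Finset.prod_const, Finset.card_range] at h0
    exact hn1 (kill n h0)
  obtain ⟨Q⟩ : Nonempty (Sylow q G) := Sylow.nonempty
  have hQ : Nat.card ↥(Q : Subgroup G) = q := by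
    rw [Sylow.card_eq_multiplicity]
    have h1 := (hq.dvd_iff_one_le_factorization Nat.card_pos.ne').1 hqd
    have h2 : (Nat.card G).factorization q < 2 := by
      by_contra! h
      exact hq2 ((hq.pow_dvd_iff_le_factorization Nat.card_pos.ne').2 h)
    rw [show (Nat.card G).factorization q = 1 by omega, pow_one]
  have hQq : ∀ y ∈ (Q : Subgroup G), y ^ q = 1 := fun y hy =>
    orderOf_dvd_iff_pow_eq_one.1 (hQ ▸ Subgroup.orderOf_dvd_natCard _ hy)
  have hNQ : Subgroup.normalizer ((Q : Subgroup G) : Set G) = (Q : Subgroup G) := by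
    refine le_antisymm (fun x hx => ?_) Subgroup.le_normalizer
    by_contra hxQ
    have hx1 : x ≠ 1 := fun e => hxQ (e ▸ Subgroup.one_mem _)
    have hxp : x ^ p = 1 := (hall x).resolve_right fun e => hxQ (by
      have hz : IsPGroup q ↥(Subgroup.zpowers x) :=
        IsPGroup.of_card (n := 1) (by rw [Nat.card_zpowers, orderOf_eq_prime e hx1, pow_one])
      exact ((hz.inf_normalizer_sylow Q).le (show x ∈ Subgroup.zpowers x ⊓
        Subgroup.normalizer ((Q : Subgroup G) : Set G) from ⟨Subgroup.mem_zpowers x, hx⟩)).2)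
    have hxo := orderOf_eq_prime hxp hx1
    have : Nontrivial ↥(Q : Subgroup G) := Finite.one_lt_card_iff_nontrivial.1 (by rw [hQ]; exact hq.one_lt)
    obtain ⟨y, hy⟩ := exists_ne (1 : ↥(Q : Subgroup G))
    have hy1 : (y : G) ≠ 1 := fun e => hy (Subtype.ext e)
    have hxN : x ∉ N := by
      intro hxN
      have hm : x * (y : G) * x⁻¹ * (y : G)⁻¹ ∈ (Q : Subgroup G) :=
        Subgroup.mul_mem _ ((Subgroup.mem_set_normalizer_iff.1 hx y).1 y.2) (Subgroup.inv_mem _ y.2)
      have hm' : x * (y : G) * x⁻¹ * (y : G)⁻¹ ∈ N := by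
        have := N.mul_mem hxN ((inferInstance : N.Normal).conj_mem _ (N.inv_mem hxN) (y : G))
        simpa [mul_assoc] using this
      have h1 : orderOf (x * (y : G) * x⁻¹ * (y : G)⁻¹) = 1 :=
        Nat.eq_one_of_dvd_coprimes ((Nat.coprime_primes hp hq).2 hpq)
          (orderOf_dvd_of_pow_eq_one (hNp _ hm')) (orderOf_dvd_of_pow_eq_one (hQq _ hm))
      rw [orderOf_eq_one_iff, mul_inv_eq_one, mul_inv_eq_iff_eq_mul] at h1
      exact not_commute hp hq hpq hall hxp hx1 (hQq _ y.2) hy1 h1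
    have hnx : ∀ m : ↥N, ∏ j ∈ Finset.range p, MulAut.conjNormal (x ^ j) m = 1 := by
      intro m
      have h1 := mul_pow_eq x m p
      rw [hxp, mul_one] at h1
      refine Subtype.ext (h1.symm.trans ?_)
      refine (hall _).resolve_right fun e => hxN ?_
      have h2 : (QuotientGroup.mk' N x) ^ q = 1 := by
        have h3 := congrArg (QuotientGroup.mk' N) e
        rw [map_one, map_pow, map_mul] at h3
        rwa [show QuotientGroup.mk' N (m : G) = 1 from (QuotientGroup.eq_one_iff _).2 m.2, one_mul] at h3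
      have h4 : (QuotientGroup.mk' N x) ^ p = 1 := by rw [← map_pow, hxp, map_one]
      exact (QuotientGroup.eq_one_iff x).1 (orderOf_eq_one_iff.1 (Nat.eq_one_of_dvd_coprimes
        ((Nat.coprime_primes hp hq).2 hpq) (orderOf_dvd_of_pow_eq_one h4) (orderOf_dvd_of_pow_eq_one h2)))
    have := Fintype.ofFinite ↥(Q : Subgroup G)
    have : IsCyclic ↥(Q : Subgroup G) := isCyclic_of_prime_card hQ
    have hQc : ∀ a b : ↥(Q : Subgroup G), a * b = b * a :=
      fun a b => (IsCyclic.isMulCommutative (α := ↥(Q : Subgroup G))).is_comm.comm a b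
    have hQfix : ∀ m : ↥N, ∏ w : ↥(Q : Subgroup G), MulAut.conjNormal (w : G) m = 1 := by
      intro m
      refine fixone _ (y : G) (hQq _ y.2) hy1 ?_
      rw [map_prod]
      refine Fintype.prod_equiv (Equiv.mulLeft y) _ _ fun w => ?_
      rw [conj_comp]
      rfl
    have h0 : ∏ w : ↥(Q : Subgroup G), ∏ j ∈ Finset.range p,
        MulAut.conjNormal ((w : G) * x ^ j * (w : G)⁻¹) n = 1 := by
      refine Finset.prod_eq_one fun w _ => ?_
      have h1 := hnx (MulAut.conjNormal (w : G)⁻¹ n)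
      have h2 := congrArg (MulAut.conjNormal (w : G)) h1
      rw [map_prod, map_one] at h2
      rw [← h2]
      refine Finset.prod_congr rfl fun j _ => ?_
      rw [conj_comp, conj_comp, mul_assoc]
    rw [Finset.prod_comm] at h0
    have hrest : ∀ j ∈ Finset.range p, j ≠ 0 →
        ∏ w : ↥(Q : Subgroup G), MulAut.conjNormal ((w : G) * x ^ j * (w : G)⁻¹) n = 1 := by
      intro j hj hj0
      have hc : ∀ w : ↥(Q : Subgroup G), x ^ j * (w : G)⁻¹ * (x ^ j)⁻¹ ∈ (Q : Subgroup G) := fun w =>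
        (Subgroup.mem_set_normalizer_iff.1 (Subgroup.pow_mem _ hx j) _).1 (Subgroup.inv_mem _ w.2)
      let σ : ↥(Q : Subgroup G) → ↥(Q : Subgroup G) := fun w => w * ⟨_, hc w⟩
      have hσ : Function.Bijective σ := by
        refine Finite.injective_iff_bijective.1 fun w w' e => ?_
        have e1 : (w : G) * (x ^ j * (w : G)⁻¹ * (x ^ j)⁻¹) = (w' : G) * (x ^ j * (w' : G)⁻¹ * (x ^ j)⁻¹) :=
          congrArg Subtype.val e
        have e2 : ((w' : G)⁻¹ * (w : G)) * x ^ j = x ^ j * ((w' : G)⁻¹ * (w : G)) := by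
          have e3 := congrArg (fun g : G => (w' : G)⁻¹ * g * x ^ j) e1
          simp only [inv_mul_cancel_left, mul_assoc, inv_mul_cancel, mul_one] at e3
          have e4 : ((w' : G)⁻¹ * (w : G)) * x ^ j = x ^ j * (w' : G)⁻¹ * (w : G) := by
            have e5 := congrArg (fun g : G => g * (w : G)) e3
            simpa [mul_assoc] using e5
          rw [e4, mul_assoc]
        by_contra hne
        refine not_commute hq hp hpq.symm (fun g => (hall g).symm) (x := (w' : G)⁻¹ * (w : G)) (y := x ^ j)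
          (hQq _ (Subgroup.mul_mem _ (Subgroup.inv_mem _ w'.2) w.2))
          (fun e' => hne (Subtype.ext (inv_mul_eq_one.1 e').symm)) (by rw [← pow_mul, mul_comm, pow_mul, hxp, one_pow])
          (fun e' => ?_) e2
        have h1 := Nat.le_of_dvd (Nat.pos_of_ne_zero hj0) (hxo ▸ orderOf_dvd_of_pow_eq_one e')
        have := Finset.mem_range.1 hj
        omega
      rw [← hQfix (MulAut.conjNormal (x ^ j) n)]
      refine Fintype.prod_bijective σ hσ _ _ fun w => ?_
      rw [conj_comp]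
      congr 2
      simp [σ, mul_assoc]
    rw [Finset.prod_eq_single_of_mem 0 (Finset.mem_range.2 hp.pos) hrest] at h0
    simp only [pow_zero, mul_one, mul_inv_cancel, map_one, MulAut.one_apply, Finset.prod_const, Finset.card_univ] at h0
    rw [← Nat.card_eq_fintype_card, hQ] at h0
    exact hn1 (kill n h0)
  refine ⟨Q, ⟨?_, ?_, ?_⟩, hQ.symm ▸ hq⟩
  · intro e
    rw [e, Subgroup.card_bot] at hQ
    exact hq.ne_one hQ.symm
  · intro e
    rw [e, Subgroup.card_top] at hQ
    rw [hQ, Nat.prime_dvd_prime_iff_eq hp hq] at hpd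
    exact hpq hpd
  · intro g hg
    by_contra hne
    have hle : (Q : Subgroup G) ≤ MulAut.conj g • (Q : Subgroup G) := by
      refine inf_eq_left.1 (Subgroup.eq_of_le_of_card_ge inf_le_left ?_)
      rw [hQ]
      rcases (Nat.dvd_prime hq).1 (hQ ▸ Subgroup.card_dvd_of_le
        (inf_le_left : (Q : Subgroup G) ⊓ MulAut.conj g • (Q : Subgroup G) ≤ Q)) with e | e
      · exact absurd (Subgroup.card_eq_one.1 e) hne
      · exact e.ge
    have heq : (Q : Subgroup G) = MulAut.conj g • (Q : Subgroup G) :=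
      Subgroup.eq_of_le_of_card_ge hle (le_of_eq (Nat.card_congr
        (Subgroup.equivSMul (MulAut.conj g) (Q : Subgroup G)).toEquiv).symm)
    refine hg (hNQ.le ?_)
    refine Sylow.smul_eq_iff_mem_normalizer.1 ?_
    exact Sylow.ext ((Sylow.coe_subgroup_smul).trans heq.symm)

end Complement

theorem exponent_eq (hodd : Odd (Nat.card G)) (hT : TwoValues G) (h2 : (Nat.card G).primeFactors.card = 2)
    (p : ℕ) [Fact p.Prime] (P : Sylow p G) (hpd : p ∣ Nat.card G) : Monoid.exponent ↥(P : Subgroup G) = p := by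
  obtain ⟨a, b, hab, hPF⟩ := Finset.card_eq_two.1 h2
  have hp : p.Prime := Fact.out
  have hmem : p ∈ ({a, b} : Finset ℕ) := hPF ▸ Nat.mem_primeFactors.2 ⟨hp, hpd, Nat.card_pos.ne'⟩
  have ha := Nat.mem_primeFactors.1 (hPF ▸ Finset.mem_insert_self a {b})
  have hb := Nat.mem_primeFactors.1 (hPF ▸ Finset.mem_insert_of_mem (Finset.mem_singleton_self b))
  obtain ⟨q, hq, hpq, hPF'⟩ : ∃ q, q.Prime ∧ p ≠ q ∧ (Nat.card G).primeFactors = {p, q} := by
    rcases Finset.mem_insert.1 hmem with rfl | h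
    · exact ⟨b, hb.1, hab, hPF⟩
    · obtain rfl := Finset.mem_singleton.1 h
      exact ⟨a, ha.1, hab.symm, hPF.trans (Finset.pair_comm a p)⟩
  have hpow : ∀ x : ↥(P : Subgroup G), x ^ p = 1 := by
    intro x
    rcases pow_eq_one hodd hT hp hq hpq hPF' (x : G) with e | e
    · exact Subtype.ext e
    · obtain ⟨k, hk⟩ := IsPGroup.iff_orderOf.1 P.2 x
      have h1 := orderOf_dvd_of_pow_eq_one (show x ^ q = 1 from Subtype.ext e)
      rw [hk] at h1
      have := Nat.eq_one_of_dvd_coprimes (Nat.Coprime.pow_left k ((Nat.coprime_primes hp hq).2 hpq)) dvd_rfl h1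
      rw [← hk, orderOf_eq_one_iff] at this
      rw [this, one_pow]
  refine ((Nat.dvd_prime hp).1 (Monoid.exponent_dvd_of_forall_pow_eq_one hpow)).resolve_left fun e => ?_
  refine P.ne_bot_of_dvd_card hpd ((Subgroup.eq_bot_iff_forall _).2 fun x hx => ?_)
  have := Monoid.pow_exponent_eq_one (⟨x, hx⟩ : ↥(P : Subgroup G))
  rw [e, pow_one] at this
  exact congrArg Subtype.val this

theorem exists_frobenius (hodd : Odd (Nat.card G)) (hT : TwoValues G) (h2 : (Nat.card G).primeFactors.card = 2) :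
    ∃ C : Subgroup G, Cfsg.IsFrobeniusComplement C ∧ (Nat.card ↥C).Prime := by
  obtain ⟨a, b, hab, hPF⟩ := Finset.card_eq_two.1 h2
  have ha := Nat.mem_primeFactors.1 (hPF ▸ Finset.mem_insert_self a {b})
  have hb := Nat.mem_primeFactors.1 (hPF ▸ Finset.mem_insert_of_mem (Finset.mem_singleton_self b))
  have hall := pow_eq_one hodd hT ha.1 hb.1 hab hPF
  have hsol : Group.IsSolvable G := by
    refine Cfsg.Lib.Chars.burnside_isSolvable a b ha.1 hb.1 G
      ⟨(Nat.card G).factorization a, (Nat.card G).factorization b, ?_⟩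
    conv_lhs => rw [← Nat.prod_factorization_pow_eq_self (Nat.card_pos (α := G)).ne']
    rw [Finsupp.prod, Nat.support_factorization, hPF, Finset.prod_pair hab]
  have : Nontrivial G := Finite.one_lt_card_iff_nontrivial.1 (by
    have := Nat.le_of_dvd Nat.card_pos ha.2.1
    have := ha.1.two_le
    omega)
  obtain ⟨N, -, hNn, hNb, hmin⟩ := Cfsg.Lib.Coprime.exists_minimal_normal (K := (⊤ : Subgroup G)) inferInstance
    top_ne_bot
  have : Group.IsSolvable ↥N := by
    have := hsol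
    infer_instance
  obtain ⟨hc, r, hr, hNr, hpow⟩ := Cfsg.Lib.Coprime.minimal_normal_solvable this hNb hmin
  have := hc
  have hrd : r ∣ Nat.card G := by
    obtain ⟨x, hx⟩ := N.ne_bot_iff_exists_ne_one.1 hNb
    have := Fact.mk hr
    exact (orderOf_eq_prime (hpow x x.2) (fun e => hx (Subtype.ext e))) ▸ orderOf_dvd_natCard (x : G)
  have hmem : r ∈ ({a, b} : Finset ℕ) := hPF ▸ Nat.mem_primeFactors.2 ⟨hr, hrd, Nat.card_pos.ne'⟩
  rcases Finset.mem_insert.1 hmem with h | h
  · exact exists_complement ha.1 hb.1 hab hb.2.1 ha.2.1 hNb (h ▸ hpow) hall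
  · exact exists_complement hb.1 ha.1 hab.symm ha.2.1 hb.2.1 hNb (Finset.mem_singleton.1 h ▸ hpow)
      fun g => (hall g).symm

end Cfsg.Lib.SameOrder
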