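import Cfsg.Agent.Counting.RankComplement

set_option autoImplicit false

namespace Cfsg.Lib.RankComplement

open Subgroup

universe u

/-- Burnside's solubility criterion by Sylow subgroups of rank at most two. -/
theorem isSolvable_of_rank_two (N : ℕ) : ∀ {G : Type u} [Group G] [Finite G], Nat.card G = N →
    (∀ p : ℕ, p.Prime → p ∣ Nat.card G → (∃ q : ℕ, q.Prime ∧ q ∣ Nat.card G ∧ p < q) →
      ∀ P : Sylow p G, IsMulCommutative (P : Subgroup G) ∧ Group.rank (P : Subgroup G) ≤ 2) →
    ¬ 12 ∣ Nat.card G → Group.IsSolvable G := by
  induction N using Nat.strong_induction_on with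
  | _ N ih =>
  intro G _ _ hN h h12
  rcases subsingleton_or_nontrivial G with hs | hnt
  · infer_instance
  set p := (Nat.card G).minFac with hpdef
  have hp : p.Prime := Nat.minFac_prime (Finite.one_lt_card (α := G)).ne'
  have := Fact.mk hp
  have hpd : p ∣ Nat.card G := Nat.minFac_dvd _
  by_cases hq : ∃ q : ℕ, q.Prime ∧ q ∣ Nat.card G ∧ p < q
  · obtain ⟨P⟩ : Nonempty (Sylow p G) := inferInstance
    obtain ⟨hab, hrk⟩ := h p hp hpd hq P
    have hc : Cfsg.HasNormalPComplement p G := by
      refine hasNormalPComplement_of_abelian_rank P hab fun q hq' hqp hqd i hi1 hi2 hqi => ?_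
      have hlt : p < q := lt_of_le_of_ne (Nat.minFac_le_of_dvd hq'.two_le hqd) (Ne.symm hqp)
      have hsmall : ¬ q ∣ p - 1 := fun hd => by
        have := Nat.le_of_dvd (by have := hp.two_le; omega) hd
        omega
      obtain rfl | rfl : i = 1 ∨ i = 2 := by omega
      · rw [pow_one] at hqi; exact hsmall hqi
      · have e : p ^ 2 - 1 = (p + 1) * (p - 1) := by rw [← Nat.sq_sub_sq, one_pow]
        rw [e] at hqi
        rcases (Nat.Prime.dvd_mul hq').mp hqi with h1 | h1
        · have hle := Nat.le_of_dvd (by omega) h1
          have hqe : q = p + 1 := by omega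
          have hp2 : p = 2 := by
            by_contra hne
            have ho := hp.odd_of_ne_two hne
            have := hp.two_le
            have ho' := hq'.odd_of_ne_two (by omega)
            rw [hqe] at ho'
            exact Nat.not_even_iff_odd.mpr ho' (ho.add_one)
          obtain ⟨k, hk⟩ := IsPGroup.iff_card.mp P.2
          have h4 : 4 ∣ Nat.card G := by
            refine dvd_trans ?_ (Subgroup.card_subgroup_dvd_card (P : Subgroup G))
            rw [hk, hp2]
            rcases Nat.lt_or_ge k 2 with hk2 | hk2
            · exfalso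
              have hcyc : IsCyclic (P : Subgroup G) := by
                rcases Nat.lt_or_ge k 1 with hk0 | hk1
                · have : Subsingleton (P : Subgroup G) := by
                    rw [← Finite.card_le_one_iff_subsingleton, hk, show k = 0 by omega, pow_zero]
                  infer_instance
                · exact isCyclic_of_prime_card (p := p) (by rw [hk, show k = 1 by omega, pow_one])
              obtain ⟨x, hx⟩ := hcyc.exists_generator
              have : Group.rank (P : Subgroup G) ≤ 1 :=
                Group.rank_le (S := ({x} : Finset (P : Subgroup G))) (by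
                  rw [Finset.coe_singleton, ← Subgroup.zpowers_eq_closure, eq_top_iff]
                  exact fun y _ => hx y)
              omega
            · exact dvd_trans (by norm_num) (pow_dvd_pow 2 hk2)
          have h3 : 3 ∣ Nat.card G := by
            have : q = 3 := by omega
            rwa [this] at hqd
          exact h12 (Nat.Coprime.mul_dvd_of_dvd_of_dvd (by norm_num : Nat.Coprime 4 3) h4 h3)
        · exact hsmall h1
    obtain ⟨P', K, hK, hcomp⟩ := hc
    have hcard : Nat.card K * Nat.card (P' : Subgroup G) = Nat.card G := hcomp.card_mul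
    have hPp : p ∣ Nat.card (P' : Subgroup G) := P'.dvd_card_of_dvd_card hpd
    have hKlt : Nat.card K < N := by
      rw [← hN, ← hcard]
      have := Nat.le_of_dvd Nat.card_pos hPp
      have := hp.two_le
      exact lt_mul_of_one_lt_right Nat.card_pos (by omega)
    have hKdvd : Nat.card K ∣ Nat.card G := card_subgroup_dvd_card K
    have hKcop : Nat.Coprime (Nat.card K) K.index := by
      have hidx : K.index = Nat.card (P' : Subgroup G) := by
        have := K.card_mul_index
        rw [← hcard] at this
        exact Nat.eq_of_mul_eq_mul_left Nat.card_pos this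
      rw [hidx]
      obtain ⟨k, hk⟩ := IsPGroup.iff_card.mp P'.2
      rw [hk]
      refine Nat.Coprime.pow_right k ((hp.coprime_iff_not_dvd).mpr fun hd => ?_).symm
      have hni := P'.not_dvd_index
      apply hni
      have := (P' : Subgroup G).card_mul_index
      rw [← hcard, mul_comm (Nat.card K)] at this
      rw [Nat.eq_of_mul_eq_mul_left Nat.card_pos this]
      exact hd
    have hsolK : Group.IsSolvable K := by
      refine ih _ hKlt rfl (fun r hr hrd hq' R => ?_) (fun hd => h12 (hd.trans hKdvd))
      have := Fact.mk hr
      obtain ⟨q, hq1, hq2, hq3⟩ := hq'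
      obtain ⟨S, hS⟩ := (R.2.map K.subtype).exists_le_sylow
      have hrK : ¬ r ∣ K.index := fun hd => hr.ne_one (Nat.eq_one_of_dvd_coprimes hKcop hrd hd)
      have hSK : (S : Subgroup G) ≤ K := by
        intro x hx
        obtain ⟨k, hk⟩ := IsPGroup.iff_orderOf.mp S.2 ⟨x, hx⟩
        rw [Subgroup.orderOf_mk] at hk
        rw [← QuotientGroup.eq_one_iff, ← orderOf_eq_one_iff]
        refine Nat.eq_one_of_dvd_coprimes (((hr.coprime_iff_not_dvd).mpr hrK).pow_left k) ?_ ?_
        · rw [← hk]; exact orderOf_map_dvd (QuotientGroup.mk' K) x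
        · rw [Subgroup.index_eq_card]; exact _root_.orderOf_dvd_natCard _
      have heq : (S : Subgroup G).subgroupOf K = (R : Subgroup K) :=
        R.3 (S.2.comap_of_injective K.subtype K.subtype_injective)
          (Subgroup.map_le_iff_le_comap.mp hS)
      let e : (R : Subgroup K) ≃* (S : Subgroup G) :=
        (MulEquiv.subgroupCongr heq.symm).trans (Subgroup.subgroupOfEquivOfLe hSK)
      obtain ⟨ha, hb⟩ := h r hr (hrd.trans hKdvd) ⟨q, hq1, hq2.trans hKdvd, hq3⟩ S
      exact ⟨⟨⟨fun a b => e.injective (by rw [map_mul, map_mul, ha.is_comm.comm])⟩⟩,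
        (Group.rank_congr e).le.trans hb⟩
    have hsolQ : Group.IsSolvable (G ⧸ K) := by
      have hidx : Nat.card (G ⧸ K) = Nat.card (P' : Subgroup G) := by
        rw [← Subgroup.index_eq_card]
        have := K.card_mul_index
        rw [← hcard] at this
        exact Nat.eq_of_mul_eq_mul_left Nat.card_pos this
      obtain ⟨k, hk⟩ := IsPGroup.iff_card.mp P'.2
      have : Group.IsNilpotent (G ⧸ K) := (IsPGroup.of_card (p := p) (hidx.trans hk)).isNilpotent
      infer_instance
    exact Group.isSolvable_of_ker_le_range K.subtype (QuotientGroup.mk' K) (by simp)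
  · have hpG : IsPGroup p G := by
      push Not at hq
      rw [IsPGroup.iff_card]
      refine ⟨(Nat.card G).factorization p, ?_⟩
      have hall : ∀ q, q.Prime → q ∣ Nat.card G → q = p := fun q h1 h2 =>
        le_antisymm (hq q h1 h2) (Nat.minFac_le_of_dvd h1.two_le h2)
      have := Nat.eq_prime_pow_of_unique_prime_dvd Nat.card_pos.ne' (fun {d} hd1 hd2 => hall d hd1 hd2)
      rw [this, hp.factorization_pow, Finsupp.single_eq_same]
    have := hpG.isNilpotent
    infer_instance

end Cfsg.Lib.RankComplement
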